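import Cfsg.Agent.Lib.MTwentyThree.Defs

/-!
# The block search for a simple group of order 10200960: tables
-/

set_option autoImplicit false
set_option maxRecDepth 100000

namespace Cfsg.Lib.MTwentyThree

/-- The options at 11. -/
def table11 : List Opt := [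
  ⟨2, 1680, [⟨1, 1, 1⟩, ⟨1, 23, 1⟩, ⟨-1, 24, 5⟩]⟩,
  ⟨2, 448, [⟨1, 1, 1⟩, ⟨1, 45, 1⟩, ⟨-1, 46, 5⟩]⟩,
  ⟨2, 140, [⟨1, 1, 1⟩, ⟨1, 23, 1⟩, ⟨-1, 24, 5⟩]⟩,
  ⟨2, 30, [⟨1, 1, 1⟩, ⟨1, 23, 1⟩, ⟨-1, 24, 5⟩]⟩,
  ⟨2, 8, [⟨1, 1, 1⟩, ⟨1, 45, 1⟩, ⟨-1, 46, 5⟩]⟩,
  ⟨2, 8, [⟨1, 1, 1⟩, ⟨1, 23, 1⟩, ⟨-1, 24, 5⟩]⟩,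
  ⟨5, 56, [⟨1, 1, 1⟩, ⟨1, 1035, 1⟩, ⟨1, 276, 1⟩, ⟨1, 45, 1⟩, ⟨1, 23, 1⟩, ⟨-1, 1380, 2⟩]⟩,
  ⟨5, 56, [⟨1, 1, 1⟩, ⟨1, 276, 1⟩, ⟨1, 45, 1⟩, ⟨1, 23, 1⟩, ⟨1, 23, 1⟩, ⟨-1, 368, 2⟩]⟩,
  ⟨5, 56, [⟨1, 1, 1⟩, ⟨1, 276, 1⟩, ⟨1, 276, 1⟩, ⟨-1, 230, 1⟩, ⟨1, 45, 1⟩, ⟨-1, 368, 2⟩]⟩,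
  ⟨5, 56, [⟨1, 1, 1⟩, ⟨-1, 230, 1⟩, ⟨1, 45, 1⟩, ⟨1, 23, 1⟩, ⟨1, 23, 1⟩, ⟨1, 138, 2⟩]⟩,
  ⟨5, 56, [⟨1, 1, 1⟩, ⟨1, 276, 1⟩, ⟨-1, 230, 1⟩, ⟨-1, 230, 1⟩, ⟨1, 45, 1⟩, ⟨1, 138, 2⟩]⟩,
  ⟨5, 56, [⟨1, 1, 1⟩, ⟨1, 45, 1⟩, ⟨1, 23, 1⟩, ⟨1, 23, 1⟩, ⟨1, 23, 1⟩, ⟨-1, 115, 2⟩]⟩,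
  ⟨5, 56, [⟨1, 1, 1⟩, ⟨1, 276, 1⟩, ⟨-1, 230, 1⟩, ⟨1, 45, 1⟩, ⟨1, 23, 1⟩, ⟨-1, 115, 2⟩]⟩,
  ⟨5, 12, [⟨1, 1, 1⟩, ⟨-1, 230, 1⟩, ⟨1, 23, 1⟩, ⟨1, 23, 1⟩, ⟨1, 23, 1⟩, ⟨1, 160, 2⟩]⟩,
  ⟨5, 12, [⟨1, 1, 1⟩, ⟨1, 276, 1⟩, ⟨-1, 230, 1⟩, ⟨-1, 230, 1⟩, ⟨1, 23, 1⟩, ⟨1, 160, 2⟩]⟩,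
  ⟨5, 12, [⟨1, 1, 1⟩, ⟨-1, 483, 1⟩, ⟨1, 276, 1⟩, ⟨1, 23, 1⟩, ⟨1, 23, 1⟩, ⟨1, 160, 2⟩]⟩,
  ⟨5, 12, [⟨1, 1, 1⟩, ⟨-1, 483, 1⟩, ⟨1, 276, 1⟩, ⟨1, 276, 1⟩, ⟨-1, 230, 1⟩, ⟨1, 160, 2⟩]⟩,
  ⟨5, 12, [⟨1, 1, 1⟩, ⟨-1, 736, 1⟩, ⟨1, 276, 1⟩, ⟨1, 276, 1⟩, ⟨1, 23, 1⟩, ⟨1, 160, 2⟩]⟩,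
  ⟨5, 12, [⟨1, 1, 1⟩, ⟨1, 1288, 1⟩, ⟨-1, 483, 1⟩, ⟨-1, 483, 1⟩, ⟨-1, 483, 1⟩, ⟨1, 160, 2⟩]⟩,
  ⟨5, 12, [⟨1, 1, 1⟩, ⟨1, 1288, 1⟩, ⟨-1, 736, 1⟩, ⟨-1, 483, 1⟩, ⟨-1, 230, 1⟩, ⟨1, 160, 2⟩]⟩,
  ⟨5, 12, [⟨1, 1, 1⟩, ⟨1, 1288, 1⟩, ⟨-1, 736, 1⟩, ⟨-1, 736, 1⟩, ⟨1, 23, 1⟩, ⟨1, 160, 2⟩]⟩,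
  ⟨5, 1, [⟨1, 1, 1⟩, ⟨-1, 736, 1⟩, ⟨-1, 483, 1⟩, ⟨-1, 483, 1⟩, ⟨1, 45, 1⟩, ⟨1, 1656, 2⟩]⟩,
  ⟨5, 1, [⟨1, 1, 1⟩, ⟨-1, 736, 1⟩, ⟨-1, 736, 1⟩, ⟨-1, 230, 1⟩, ⟨1, 45, 1⟩, ⟨1, 1656, 2⟩]⟩,
  ⟨5, 1, [⟨1, 1, 1⟩, ⟨1, 1035, 1⟩, ⟨1, 276, 1⟩, ⟨1, 45, 1⟩, ⟨1, 23, 1⟩, ⟨-1, 1380, 2⟩]⟩,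
  ⟨5, 1, [⟨1, 1, 1⟩, ⟨1, 1035, 1⟩, ⟨1, 1035, 1⟩, ⟨-1, 736, 1⟩, ⟨1, 45, 1⟩, ⟨-1, 1380, 2⟩]⟩,
  ⟨5, 1, [⟨1, 1, 1⟩, ⟨1, 1288, 1⟩, ⟨1, 45, 1⟩, ⟨1, 23, 1⟩, ⟨1, 23, 1⟩, ⟨-1, 1380, 2⟩]⟩,
  ⟨5, 1, [⟨1, 1, 1⟩, ⟨1, 1288, 1⟩, ⟨1, 276, 1⟩, ⟨-1, 230, 1⟩, ⟨1, 45, 1⟩, ⟨-1, 1380, 2⟩]⟩,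
  ⟨5, 1, [⟨1, 1, 1⟩, ⟨1, 1035, 1⟩, ⟨-1, 230, 1⟩, ⟨1, 45, 1⟩, ⟨1, 45, 1⟩, ⟨-1, 896, 2⟩]⟩,
  ⟨5, 1, [⟨1, 1, 1⟩, ⟨1, 1288, 1⟩, ⟨-1, 483, 1⟩, ⟨1, 45, 1⟩, ⟨1, 45, 1⟩, ⟨-1, 896, 2⟩]⟩,
  ⟨5, 1, [⟨1, 1, 1⟩, ⟨-1, 230, 1⟩, ⟨-1, 230, 1⟩, ⟨-1, 230, 1⟩, ⟨1, 45, 1⟩, ⟨1, 644, 2⟩]⟩,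
  ⟨5, 1, [⟨1, 1, 1⟩, ⟨-1, 483, 1⟩, ⟨-1, 230, 1⟩, ⟨1, 45, 1⟩, ⟨1, 23, 1⟩, ⟨1, 644, 2⟩]⟩,
  ⟨5, 1, [⟨1, 1, 1⟩, ⟨-1, 483, 1⟩, ⟨-1, 252, 1⟩, ⟨1, 45, 1⟩, ⟨1, 45, 1⟩, ⟨1, 644, 2⟩]⟩,
  ⟨5, 1, [⟨1, 1, 1⟩, ⟨-1, 483, 1⟩, ⟨-1, 483, 1⟩, ⟨1, 276, 1⟩, ⟨1, 45, 1⟩, ⟨1, 644, 2⟩]⟩,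
  ⟨5, 1, [⟨1, 1, 1⟩, ⟨-1, 736, 1⟩, ⟨1, 45, 1⟩, ⟨1, 23, 1⟩, ⟨1, 23, 1⟩, ⟨1, 644, 2⟩]⟩,
  ⟨5, 1, [⟨1, 1, 1⟩, ⟨-1, 736, 1⟩, ⟨1, 276, 1⟩, ⟨-1, 230, 1⟩, ⟨1, 45, 1⟩, ⟨1, 644, 2⟩]⟩,
  ⟨5, 1, [⟨1, 1, 1⟩, ⟨1, 276, 1⟩, ⟨1, 45, 1⟩, ⟨1, 23, 1⟩, ⟨1, 23, 1⟩, ⟨-1, 368, 2⟩]⟩,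
  ⟨5, 1, [⟨1, 1, 1⟩, ⟨1, 276, 1⟩, ⟨1, 276, 1⟩, ⟨-1, 230, 1⟩, ⟨1, 45, 1⟩, ⟨-1, 368, 2⟩]⟩,
  ⟨5, 1, [⟨1, 1, 1⟩, ⟨1, 1035, 1⟩, ⟨-1, 483, 1⟩, ⟨-1, 230, 1⟩, ⟨1, 45, 1⟩, ⟨-1, 368, 2⟩]⟩,
  ⟨5, 1, [⟨1, 1, 1⟩, ⟨1, 1035, 1⟩, ⟨-1, 736, 1⟩, ⟨1, 45, 1⟩, ⟨1, 23, 1⟩, ⟨-1, 368, 2⟩]⟩,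
  ⟨5, 1, [⟨1, 1, 1⟩, ⟨1, 1288, 1⟩, ⟨-1, 483, 1⟩, ⟨-1, 483, 1⟩, ⟨1, 45, 1⟩, ⟨-1, 368, 2⟩]⟩,
  ⟨5, 1, [⟨1, 1, 1⟩, ⟨1, 1288, 1⟩, ⟨-1, 736, 1⟩, ⟨-1, 230, 1⟩, ⟨1, 45, 1⟩, ⟨-1, 368, 2⟩]⟩,
  ⟨5, 1, [⟨1, 1, 1⟩, ⟨-1, 230, 1⟩, ⟨1, 23, 1⟩, ⟨1, 23, 1⟩, ⟨1, 23, 1⟩, ⟨1, 160, 2⟩]⟩,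
  ⟨5, 1, [⟨1, 1, 1⟩, ⟨-1, 230, 1⟩, ⟨1, 45, 1⟩, ⟨1, 12, 1⟩, ⟨1, 12, 1⟩, ⟨1, 160, 2⟩]⟩,
  ⟨5, 1, [⟨1, 1, 1⟩, ⟨-1, 252, 1⟩, ⟨1, 45, 1⟩, ⟨1, 23, 1⟩, ⟨1, 23, 1⟩, ⟨1, 160, 2⟩]⟩,
  ⟨5, 1, [⟨1, 1, 1⟩, ⟨1, 276, 1⟩, ⟨-1, 230, 1⟩, ⟨-1, 230, 1⟩, ⟨1, 23, 1⟩, ⟨1, 160, 2⟩]⟩,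
  ⟨5, 1, [⟨1, 1, 1⟩, ⟨1, 276, 1⟩, ⟨-1, 252, 1⟩, ⟨-1, 230, 1⟩, ⟨1, 45, 1⟩, ⟨1, 160, 2⟩]⟩,
  ⟨5, 1, [⟨1, 1, 1⟩, ⟨-1, 483, 1⟩, ⟨1, 276, 1⟩, ⟨1, 23, 1⟩, ⟨1, 23, 1⟩, ⟨1, 160, 2⟩]⟩,
  ⟨5, 1, [⟨1, 1, 1⟩, ⟨-1, 483, 1⟩, ⟨1, 276, 1⟩, ⟨1, 276, 1⟩, ⟨-1, 230, 1⟩, ⟨1, 160, 2⟩]⟩,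
  ⟨5, 1, [⟨1, 1, 1⟩, ⟨-1, 736, 1⟩, ⟨1, 276, 1⟩, ⟨1, 276, 1⟩, ⟨1, 23, 1⟩, ⟨1, 160, 2⟩]⟩,
  ⟨5, 1, [⟨1, 1, 1⟩, ⟨1, 1035, 1⟩, ⟨-1, 483, 1⟩, ⟨-1, 483, 1⟩, ⟨-1, 230, 1⟩, ⟨1, 160, 2⟩]⟩,
  ⟨5, 1, [⟨1, 1, 1⟩, ⟨1, 1035, 1⟩, ⟨-1, 736, 1⟩, ⟨-1, 230, 1⟩, ⟨-1, 230, 1⟩, ⟨1, 160, 2⟩]⟩,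
  ⟨5, 1, [⟨1, 1, 1⟩, ⟨1, 1035, 1⟩, ⟨-1, 736, 1⟩, ⟨-1, 483, 1⟩, ⟨1, 23, 1⟩, ⟨1, 160, 2⟩]⟩,
  ⟨5, 1, [⟨1, 1, 1⟩, ⟨1, 1035, 1⟩, ⟨-1, 736, 1⟩, ⟨-1, 736, 1⟩, ⟨1, 276, 1⟩, ⟨1, 160, 2⟩]⟩,
  ⟨5, 1, [⟨1, 1, 1⟩, ⟨1, 1288, 1⟩, ⟨-1, 483, 1⟩, ⟨-1, 483, 1⟩, ⟨-1, 483, 1⟩, ⟨1, 160, 2⟩]⟩,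
  ⟨5, 1, [⟨1, 1, 1⟩, ⟨1, 1288, 1⟩, ⟨-1, 736, 1⟩, ⟨-1, 483, 1⟩, ⟨-1, 230, 1⟩, ⟨1, 160, 2⟩]⟩,
  ⟨5, 1, [⟨1, 1, 1⟩, ⟨1, 1288, 1⟩, ⟨-1, 736, 1⟩, ⟨-1, 736, 1⟩, ⟨1, 23, 1⟩, ⟨1, 160, 2⟩]⟩,
  ⟨5, 1, [⟨1, 1, 1⟩, ⟨-1, 230, 1⟩, ⟨1, 45, 1⟩, ⟨1, 23, 1⟩, ⟨1, 23, 1⟩, ⟨1, 138, 2⟩]⟩,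
  ⟨5, 1, [⟨1, 1, 1⟩, ⟨-1, 252, 1⟩, ⟨1, 45, 1⟩, ⟨1, 45, 1⟩, ⟨1, 23, 1⟩, ⟨1, 138, 2⟩]⟩,
  ⟨5, 1, [⟨1, 1, 1⟩, ⟨1, 276, 1⟩, ⟨-1, 230, 1⟩, ⟨-1, 230, 1⟩, ⟨1, 45, 1⟩, ⟨1, 138, 2⟩]⟩,
  ⟨5, 1, [⟨1, 1, 1⟩, ⟨-1, 483, 1⟩, ⟨1, 276, 1⟩, ⟨1, 45, 1⟩, ⟨1, 23, 1⟩, ⟨1, 138, 2⟩]⟩,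
  ⟨5, 1, [⟨1, 1, 1⟩, ⟨-1, 736, 1⟩, ⟨1, 276, 1⟩, ⟨1, 276, 1⟩, ⟨1, 45, 1⟩, ⟨1, 138, 2⟩]⟩,
  ⟨5, 1, [⟨1, 1, 1⟩, ⟨1, 1035, 1⟩, ⟨-1, 736, 1⟩, ⟨-1, 483, 1⟩, ⟨1, 45, 1⟩, ⟨1, 138, 2⟩]⟩,
  ⟨5, 1, [⟨1, 1, 1⟩, ⟨1, 1288, 1⟩, ⟨-1, 736, 1⟩, ⟨-1, 736, 1⟩, ⟨1, 45, 1⟩, ⟨1, 138, 2⟩]⟩,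
  ⟨5, 1, [⟨1, 1, 1⟩, ⟨1, 45, 1⟩, ⟨1, 45, 1⟩, ⟨1, 23, 1⟩, ⟨1, 12, 1⟩, ⟨-1, 126, 2⟩]⟩,
  ⟨5, 1, [⟨1, 1, 1⟩, ⟨1, 45, 1⟩, ⟨1, 23, 1⟩, ⟨1, 23, 1⟩, ⟨1, 23, 1⟩, ⟨-1, 115, 2⟩]⟩,
  ⟨5, 1, [⟨1, 1, 1⟩, ⟨1, 45, 1⟩, ⟨1, 45, 1⟩, ⟨1, 12, 1⟩, ⟨1, 12, 1⟩, ⟨-1, 115, 2⟩]⟩,
  ⟨5, 1, [⟨1, 1, 1⟩, ⟨1, 276, 1⟩, ⟨-1, 230, 1⟩, ⟨1, 45, 1⟩, ⟨1, 23, 1⟩, ⟨-1, 115, 2⟩]⟩,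
  ⟨5, 1, [⟨1, 1, 1⟩, ⟨1, 276, 1⟩, ⟨-1, 252, 1⟩, ⟨1, 45, 1⟩, ⟨1, 45, 1⟩, ⟨-1, 115, 2⟩]⟩,
  ⟨5, 1, [⟨1, 1, 1⟩, ⟨-1, 483, 1⟩, ⟨1, 276, 1⟩, ⟨1, 276, 1⟩, ⟨1, 45, 1⟩, ⟨-1, 115, 2⟩]⟩,
  ⟨5, 1, [⟨1, 1, 1⟩, ⟨1, 1035, 1⟩, ⟨-1, 483, 1⟩, ⟨-1, 483, 1⟩, ⟨1, 45, 1⟩, ⟨-1, 115, 2⟩]⟩,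
  ⟨5, 1, [⟨1, 1, 1⟩, ⟨1, 1035, 1⟩, ⟨-1, 736, 1⟩, ⟨-1, 230, 1⟩, ⟨1, 45, 1⟩, ⟨-1, 115, 2⟩]⟩,
  ⟨5, 1, [⟨1, 1, 1⟩, ⟨1, 1288, 1⟩, ⟨-1, 736, 1⟩, ⟨-1, 483, 1⟩, ⟨1, 45, 1⟩, ⟨-1, 115, 2⟩]⟩,
  ⟨10, 28, [⟨1, 1, 1⟩, ⟨-1, 230, 1⟩, ⟨1, 45, 1⟩, ⟨1, 23, 1⟩, ⟨1, 23, 1⟩, ⟨1, 23, 1⟩, ⟨1, 23, 1⟩,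
    ⟨1, 23, 1⟩, ⟨1, 23, 1⟩, ⟨1, 23, 1⟩, ⟨1, 23, 1⟩]⟩,
  ⟨10, 28, [⟨1, 1, 1⟩, ⟨1, 276, 1⟩, ⟨-1, 230, 1⟩, ⟨-1, 230, 1⟩, ⟨1, 45, 1⟩, ⟨1, 23, 1⟩, ⟨1, 23,
    1⟩, ⟨1, 23, 1⟩, ⟨1, 23, 1⟩, ⟨1, 23, 1⟩, ⟨1, 23, 1⟩]⟩,
  ⟨10, 28, [⟨1, 1, 1⟩, ⟨1, 276, 1⟩, ⟨1, 276, 1⟩, ⟨-1, 230, 1⟩, ⟨-1, 230, 1⟩, ⟨-1, 230, 1⟩, ⟨1, 45,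
    1⟩, ⟨1, 23, 1⟩, ⟨1, 23, 1⟩, ⟨1, 23, 1⟩, ⟨1, 23, 1⟩]⟩,
  ⟨10, 28, [⟨1, 1, 1⟩, ⟨1, 276, 1⟩, ⟨1, 276, 1⟩, ⟨1, 276, 1⟩, ⟨-1, 230, 1⟩, ⟨-1, 230, 1⟩, ⟨-1,
    230, 1⟩, ⟨-1, 230, 1⟩, ⟨1, 45, 1⟩, ⟨1, 23, 1⟩, ⟨1, 23, 1⟩]⟩,
  ⟨10, 28, [⟨1, 1, 1⟩, ⟨1, 276, 1⟩, ⟨1, 276, 1⟩, ⟨1, 276, 1⟩, ⟨1, 276, 1⟩, ⟨-1, 230, 1⟩, ⟨-1, 230,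
    1⟩, ⟨-1, 230, 1⟩, ⟨-1, 230, 1⟩, ⟨-1, 230, 1⟩, ⟨1, 45, 1⟩]⟩,
  ⟨10, 28, [⟨1, 1, 1⟩, ⟨-1, 736, 1⟩, ⟨1, 276, 1⟩, ⟨1, 276, 1⟩, ⟨1, 45, 1⟩, ⟨1, 23, 1⟩, ⟨1, 23, 1⟩,
    ⟨1, 23, 1⟩, ⟨1, 23, 1⟩, ⟨1, 23, 1⟩, ⟨1, 23, 1⟩]⟩,
  ⟨10, 28, [⟨1, 1, 1⟩, ⟨-1, 736, 1⟩, ⟨1, 276, 1⟩, ⟨1, 276, 1⟩, ⟨1, 276, 1⟩, ⟨-1, 230, 1⟩, ⟨1, 45,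
    1⟩, ⟨1, 23, 1⟩, ⟨1, 23, 1⟩, ⟨1, 23, 1⟩, ⟨1, 23, 1⟩]⟩,
  ⟨10, 28, [⟨1, 1, 1⟩, ⟨-1, 736, 1⟩, ⟨1, 276, 1⟩, ⟨1, 276, 1⟩, ⟨1, 276, 1⟩, ⟨1, 276, 1⟩, ⟨-1, 230,
    1⟩, ⟨-1, 230, 1⟩, ⟨1, 45, 1⟩, ⟨1, 23, 1⟩, ⟨1, 23, 1⟩]⟩,
  ⟨10, 28, [⟨1, 1, 1⟩, ⟨-1, 736, 1⟩, ⟨1, 276, 1⟩, ⟨1, 276, 1⟩, ⟨1, 276, 1⟩, ⟨1, 276, 1⟩, ⟨1, 276,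
    1⟩, ⟨-1, 230, 1⟩, ⟨-1, 230, 1⟩, ⟨-1, 230, 1⟩, ⟨1, 45, 1⟩]⟩,
  ⟨10, 28, [⟨1, 1, 1⟩, ⟨-1, 736, 1⟩, ⟨-1, 736, 1⟩, ⟨1, 276, 1⟩, ⟨1, 276, 1⟩, ⟨1, 276, 1⟩, ⟨1, 276,
    1⟩, ⟨1, 276, 1⟩, ⟨1, 45, 1⟩, ⟨1, 23, 1⟩, ⟨1, 23, 1⟩]⟩,
  ⟨10, 28, [⟨1, 1, 1⟩, ⟨-1, 736, 1⟩, ⟨-1, 736, 1⟩, ⟨1, 276, 1⟩, ⟨1, 276, 1⟩, ⟨1, 276, 1⟩, ⟨1, 276,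
    1⟩, ⟨1, 276, 1⟩, ⟨1, 276, 1⟩, ⟨-1, 230, 1⟩, ⟨1, 45, 1⟩]⟩,
  ⟨10, 28, [⟨1, 1, 1⟩, ⟨1, 1035, 1⟩, ⟨-1, 230, 1⟩, ⟨-1, 230, 1⟩, ⟨-1, 230, 1⟩, ⟨-1, 230, 1⟩, ⟨-1,
    230, 1⟩, ⟨1, 45, 1⟩, ⟨1, 23, 1⟩, ⟨1, 23, 1⟩, ⟨1, 23, 1⟩]⟩,
  ⟨10, 28, [⟨1, 1, 1⟩, ⟨1, 1035, 1⟩, ⟨1, 276, 1⟩, ⟨-1, 230, 1⟩, ⟨-1, 230, 1⟩, ⟨-1, 230, 1⟩, ⟨-1,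
    230, 1⟩, ⟨-1, 230, 1⟩, ⟨-1, 230, 1⟩, ⟨1, 45, 1⟩, ⟨1, 23, 1⟩]⟩,
  ⟨10, 28, [⟨1, 1, 1⟩, ⟨1, 1035, 1⟩, ⟨-1, 736, 1⟩, ⟨-1, 230, 1⟩, ⟨-1, 230, 1⟩, ⟨1, 45, 1⟩, ⟨1, 23,
    1⟩, ⟨1, 23, 1⟩, ⟨1, 23, 1⟩, ⟨1, 23, 1⟩, ⟨1, 23, 1⟩]⟩,
  ⟨10, 28, [⟨1, 1, 1⟩, ⟨1, 1035, 1⟩, ⟨-1, 736, 1⟩, ⟨1, 276, 1⟩, ⟨-1, 230, 1⟩, ⟨-1, 230, 1⟩, ⟨-1,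
    230, 1⟩, ⟨1, 45, 1⟩, ⟨1, 23, 1⟩, ⟨1, 23, 1⟩, ⟨1, 23, 1⟩]⟩,
  ⟨10, 28, [⟨1, 1, 1⟩, ⟨1, 1035, 1⟩, ⟨-1, 736, 1⟩, ⟨1, 276, 1⟩, ⟨1, 276, 1⟩, ⟨-1, 230, 1⟩, ⟨-1,
    230, 1⟩, ⟨-1, 230, 1⟩, ⟨-1, 230, 1⟩, ⟨1, 45, 1⟩, ⟨1, 23, 1⟩]⟩,
  ⟨10, 28, [⟨1, 1, 1⟩, ⟨1, 1035, 1⟩, ⟨-1, 736, 1⟩, ⟨-1, 736, 1⟩, ⟨1, 276, 1⟩, ⟨1, 45, 1⟩, ⟨1, 23,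
    1⟩, ⟨1, 23, 1⟩, ⟨1, 23, 1⟩, ⟨1, 23, 1⟩, ⟨1, 23, 1⟩]⟩,
  ⟨10, 28, [⟨1, 1, 1⟩, ⟨1, 1035, 1⟩, ⟨-1, 736, 1⟩, ⟨-1, 736, 1⟩, ⟨1, 276, 1⟩, ⟨1, 276, 1⟩, ⟨-1,
    230, 1⟩, ⟨1, 45, 1⟩, ⟨1, 23, 1⟩, ⟨1, 23, 1⟩, ⟨1, 23, 1⟩]⟩,
  ⟨10, 28, [⟨1, 1, 1⟩, ⟨1, 1035, 1⟩, ⟨-1, 736, 1⟩, ⟨-1, 736, 1⟩, ⟨1, 276, 1⟩, ⟨1, 276, 1⟩, ⟨1,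
    276, 1⟩, ⟨-1, 230, 1⟩, ⟨-1, 230, 1⟩, ⟨1, 45, 1⟩, ⟨1, 23, 1⟩]⟩,
  ⟨10, 28, [⟨1, 1, 1⟩, ⟨1, 1035, 1⟩, ⟨-1, 736, 1⟩, ⟨-1, 736, 1⟩, ⟨-1, 736, 1⟩, ⟨1, 276, 1⟩, ⟨1,
    276, 1⟩, ⟨1, 276, 1⟩, ⟨1, 276, 1⟩, ⟨1, 45, 1⟩, ⟨1, 23, 1⟩]⟩,
  ⟨10, 28, [⟨1, 1, 1⟩, ⟨1, 1035, 1⟩, ⟨1, 1035, 1⟩, ⟨-1, 736, 1⟩, ⟨-1, 230, 1⟩, ⟨-1, 230, 1⟩, ⟨-1,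
    230, 1⟩, ⟨-1, 230, 1⟩, ⟨-1, 230, 1⟩, ⟨-1, 230, 1⟩, ⟨1, 45, 1⟩]⟩,
  ⟨10, 28, [⟨1, 1, 1⟩, ⟨1, 1035, 1⟩, ⟨1, 1035, 1⟩, ⟨-1, 736, 1⟩, ⟨-1, 736, 1⟩, ⟨-1, 230, 1⟩, ⟨-1,
    230, 1⟩, ⟨-1, 230, 1⟩, ⟨1, 45, 1⟩, ⟨1, 23, 1⟩, ⟨1, 23, 1⟩]⟩,
  ⟨10, 28, [⟨1, 1, 1⟩, ⟨1, 1035, 1⟩, ⟨1, 1035, 1⟩, ⟨-1, 736, 1⟩, ⟨-1, 736, 1⟩, ⟨1, 276, 1⟩, ⟨-1,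
    230, 1⟩, ⟨-1, 230, 1⟩, ⟨-1, 230, 1⟩, ⟨-1, 230, 1⟩, ⟨1, 45, 1⟩]⟩,
  ⟨10, 28, [⟨1, 1, 1⟩, ⟨1, 1035, 1⟩, ⟨1, 1035, 1⟩, ⟨-1, 736, 1⟩, ⟨-1, 736, 1⟩, ⟨-1, 736, 1⟩, ⟨1,
    45, 1⟩, ⟨1, 23, 1⟩, ⟨1, 23, 1⟩, ⟨1, 23, 1⟩, ⟨1, 23, 1⟩]⟩,
  ⟨10, 28, [⟨1, 1, 1⟩, ⟨1, 1035, 1⟩, ⟨1, 1035, 1⟩, ⟨-1, 736, 1⟩, ⟨-1, 736, 1⟩, ⟨-1, 736, 1⟩, ⟨1,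
    276, 1⟩, ⟨-1, 230, 1⟩, ⟨1, 45, 1⟩, ⟨1, 23, 1⟩, ⟨1, 23, 1⟩]⟩,
  ⟨10, 28, [⟨1, 1, 1⟩, ⟨1, 1035, 1⟩, ⟨1, 1035, 1⟩, ⟨-1, 736, 1⟩, ⟨-1, 736, 1⟩, ⟨-1, 736, 1⟩, ⟨1,
    276, 1⟩, ⟨1, 276, 1⟩, ⟨-1, 230, 1⟩, ⟨-1, 230, 1⟩, ⟨1, 45, 1⟩]⟩,
  ⟨10, 28, [⟨1, 1, 1⟩, ⟨1, 1035, 1⟩, ⟨1, 1035, 1⟩, ⟨-1, 736, 1⟩, ⟨-1, 736, 1⟩, ⟨-1, 736, 1⟩, ⟨-1,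
    736, 1⟩, ⟨1, 276, 1⟩, ⟨1, 276, 1⟩, ⟨1, 276, 1⟩, ⟨1, 45, 1⟩]⟩,
  ⟨10, 28, [⟨1, 1, 1⟩, ⟨1, 1035, 1⟩, ⟨1, 1035, 1⟩, ⟨1, 1035, 1⟩, ⟨-1, 736, 1⟩, ⟨-1, 736, 1⟩, ⟨-1,
    736, 1⟩, ⟨-1, 736, 1⟩, ⟨-1, 230, 1⟩, ⟨1, 45, 1⟩, ⟨1, 23, 1⟩]⟩,
  ⟨10, 28, [⟨1, 1, 1⟩, ⟨-1, 2760, 1⟩, ⟨1, 1035, 1⟩, ⟨1, 276, 1⟩, ⟨1, 276, 1⟩, ⟨1, 276, 1⟩, ⟨1,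
    276, 1⟩, ⟨1, 276, 1⟩, ⟨1, 276, 1⟩, ⟨1, 45, 1⟩, ⟨1, 23, 1⟩]⟩,
  ⟨10, 28, [⟨1, 1, 1⟩, ⟨-1, 2760, 1⟩, ⟨1, 1035, 1⟩, ⟨1, 1035, 1⟩, ⟨1, 276, 1⟩, ⟨1, 276, 1⟩, ⟨1,
    45, 1⟩, ⟨1, 23, 1⟩, ⟨1, 23, 1⟩, ⟨1, 23, 1⟩, ⟨1, 23, 1⟩]⟩,
  ⟨10, 28, [⟨1, 1, 1⟩, ⟨-1, 2760, 1⟩, ⟨1, 1035, 1⟩, ⟨1, 1035, 1⟩, ⟨1, 276, 1⟩, ⟨1, 276, 1⟩, ⟨1,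
    276, 1⟩, ⟨-1, 230, 1⟩, ⟨1, 45, 1⟩, ⟨1, 23, 1⟩, ⟨1, 23, 1⟩]⟩,
  ⟨10, 28, [⟨1, 1, 1⟩, ⟨-1, 2760, 1⟩, ⟨1, 1035, 1⟩, ⟨1, 1035, 1⟩, ⟨1, 276, 1⟩, ⟨1, 276, 1⟩, ⟨1,
    276, 1⟩, ⟨1, 276, 1⟩, ⟨-1, 230, 1⟩, ⟨-1, 230, 1⟩, ⟨1, 45, 1⟩]⟩]

/-- The options at 5. -/
def table5 : List Opt := [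
  ⟨2, 336, [⟨1, 1, 1⟩, ⟨-1, 24, 1⟩, ⟨1, 23, 2⟩]⟩,
  ⟨2, 336, [⟨1, 1, 1⟩, ⟨1, 11, 1⟩, ⟨-1, 12, 2⟩]⟩,
  ⟨2, 96, [⟨1, 1, 1⟩, ⟨1, 11, 1⟩, ⟨-1, 12, 2⟩]⟩,
  ⟨2, 56, [⟨1, 1, 1⟩, ⟨-1, 24, 1⟩, ⟨1, 23, 2⟩]⟩,
  ⟨2, 56, [⟨1, 1, 1⟩, ⟨1, 11, 1⟩, ⟨-1, 12, 2⟩]⟩,
  ⟨2, 21, [⟨1, 1, 1⟩, ⟨-1, 24, 1⟩, ⟨1, 23, 2⟩]⟩,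
  ⟨2, 21, [⟨1, 1, 1⟩, ⟨1, 11, 1⟩, ⟨-1, 12, 2⟩]⟩,
  ⟨2, 16, [⟨1, 1, 1⟩, ⟨-1, 24, 1⟩, ⟨1, 23, 2⟩]⟩,
  ⟨2, 16, [⟨1, 1, 1⟩, ⟨1, 11, 1⟩, ⟨-1, 12, 2⟩]⟩,
  ⟨2, 6, [⟨1, 1, 1⟩, ⟨-1, 24, 1⟩, ⟨1, 23, 2⟩]⟩,
  ⟨2, 6, [⟨1, 1, 1⟩, ⟨1, 11, 1⟩, ⟨-1, 12, 2⟩]⟩,
  ⟨2, 1, [⟨1, 1, 1⟩, ⟨-1, 24, 1⟩, ⟨1, 23, 2⟩]⟩,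
  ⟨2, 1, [⟨1, 1, 1⟩, ⟨1, 11, 1⟩, ⟨-1, 12, 2⟩]⟩,
  ⟨4, 168, [⟨1, 1, 1⟩, ⟨-1, 69, 1⟩, ⟨1, 46, 1⟩, ⟨1, 11, 1⟩, ⟨1, 11, 1⟩]⟩,
  ⟨4, 168, [⟨1, 1, 1⟩, ⟨-1, 69, 1⟩, ⟨1, 46, 1⟩, ⟨1, 46, 1⟩, ⟨-1, 24, 1⟩]⟩,
  ⟨4, 168, [⟨1, 1, 1⟩, ⟨1, 276, 1⟩, ⟨-1, 184, 1⟩, ⟨-1, 69, 1⟩, ⟨-1, 24, 1⟩]⟩,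
  ⟨4, 168, [⟨1, 1, 1⟩, ⟨1, 276, 1⟩, ⟨-1, 264, 1⟩, ⟨-1, 24, 1⟩, ⟨1, 11, 1⟩]⟩,
  ⟨4, 168, [⟨1, 1, 1⟩, ⟨-1, 759, 1⟩, ⟨1, 506, 1⟩, ⟨1, 276, 1⟩, ⟨-1, 24, 1⟩]⟩,
  ⟨4, 48, [⟨1, 1, 1⟩, ⟨-1, 69, 1⟩, ⟨1, 46, 1⟩, ⟨1, 11, 1⟩, ⟨1, 11, 1⟩]⟩,
  ⟨4, 48, [⟨1, 1, 1⟩, ⟨-1, 69, 1⟩, ⟨1, 46, 1⟩, ⟨1, 46, 1⟩, ⟨-1, 24, 1⟩]⟩,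
  ⟨4, 48, [⟨1, 1, 1⟩, ⟨1, 161, 1⟩, ⟨-1, 69, 1⟩, ⟨-1, 69, 1⟩, ⟨-1, 24, 1⟩]⟩,
  ⟨4, 48, [⟨1, 1, 1⟩, ⟨-1, 184, 1⟩, ⟨1, 161, 1⟩, ⟨1, 11, 1⟩, ⟨1, 11, 1⟩]⟩,
  ⟨4, 48, [⟨1, 1, 1⟩, ⟨-1, 184, 1⟩, ⟨1, 161, 1⟩, ⟨1, 46, 1⟩, ⟨-1, 24, 1⟩]⟩,
  ⟨4, 48, [⟨1, 1, 1⟩, ⟨1, 231, 1⟩, ⟨-1, 184, 1⟩, ⟨-1, 24, 1⟩, ⟨-1, 24, 1⟩]⟩,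
  ⟨4, 48, [⟨1, 1, 1⟩, ⟨1, 276, 1⟩, ⟨-1, 184, 1⟩, ⟨-1, 69, 1⟩, ⟨-1, 24, 1⟩]⟩,
  ⟨4, 48, [⟨1, 1, 1⟩, ⟨1, 276, 1⟩, ⟨-1, 264, 1⟩, ⟨-1, 24, 1⟩, ⟨1, 11, 1⟩]⟩,
  ⟨4, 48, [⟨1, 1, 1⟩, ⟨-1, 644, 1⟩, ⟨1, 506, 1⟩, ⟨1, 161, 1⟩, ⟨-1, 24, 1⟩]⟩,
  ⟨4, 48, [⟨1, 1, 1⟩, ⟨-1, 759, 1⟩, ⟨1, 506, 1⟩, ⟨1, 276, 1⟩, ⟨-1, 24, 1⟩]⟩,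
  ⟨4, 48, [⟨1, 1, 1⟩, ⟨1, 966, 1⟩, ⟨-1, 759, 1⟩, ⟨-1, 184, 1⟩, ⟨-1, 24, 1⟩]⟩,
  ⟨4, 48, [⟨1, 1, 1⟩, ⟨-1, 2024, 1⟩, ⟨1, 1771, 1⟩, ⟨1, 276, 1⟩, ⟨-1, 24, 1⟩]⟩,
  ⟨4, 28, [⟨1, 1, 1⟩, ⟨-1, 69, 1⟩, ⟨1, 46, 1⟩, ⟨1, 11, 1⟩, ⟨1, 11, 1⟩]⟩,
  ⟨4, 28, [⟨1, 1, 1⟩, ⟨-1, 69, 1⟩, ⟨1, 46, 1⟩, ⟨1, 46, 1⟩, ⟨-1, 24, 1⟩]⟩,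
  ⟨4, 28, [⟨1, 1, 1⟩, ⟨1, 276, 1⟩, ⟨-1, 184, 1⟩, ⟨-1, 69, 1⟩, ⟨-1, 24, 1⟩]⟩,
  ⟨4, 28, [⟨1, 1, 1⟩, ⟨1, 276, 1⟩, ⟨-1, 264, 1⟩, ⟨-1, 24, 1⟩, ⟨1, 11, 1⟩]⟩,
  ⟨4, 28, [⟨1, 1, 1⟩, ⟨1, 506, 1⟩, ⟨-1, 414, 1⟩, ⟨-1, 69, 1⟩, ⟨-1, 24, 1⟩]⟩,
  ⟨4, 28, [⟨1, 1, 1⟩, ⟨-1, 759, 1⟩, ⟨1, 506, 1⟩, ⟨1, 276, 1⟩, ⟨-1, 24, 1⟩]⟩,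
  ⟨4, 28, [⟨1, 1, 1⟩, ⟨-1, 759, 1⟩, ⟨1, 736, 1⟩, ⟨1, 11, 1⟩, ⟨1, 11, 1⟩]⟩,
  ⟨4, 28, [⟨1, 1, 1⟩, ⟨-1, 759, 1⟩, ⟨1, 736, 1⟩, ⟨1, 46, 1⟩, ⟨-1, 24, 1⟩]⟩,
  ⟨4, 18, [⟨1, 1, 1⟩, ⟨-1, 184, 1⟩, ⟨1, 161, 1⟩, ⟨1, 11, 1⟩, ⟨1, 11, 1⟩]⟩,
  ⟨4, 8, [⟨1, 1, 1⟩, ⟨-1, 69, 1⟩, ⟨1, 46, 1⟩, ⟨1, 11, 1⟩, ⟨1, 11, 1⟩]⟩,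
  ⟨4, 8, [⟨1, 1, 1⟩, ⟨-1, 69, 1⟩, ⟨1, 46, 1⟩, ⟨1, 46, 1⟩, ⟨-1, 24, 1⟩]⟩,
  ⟨4, 8, [⟨1, 1, 1⟩, ⟨1, 126, 1⟩, ⟨-1, 69, 1⟩, ⟨-1, 69, 1⟩, ⟨1, 11, 1⟩]⟩,
  ⟨4, 8, [⟨1, 1, 1⟩, ⟨1, 161, 1⟩, ⟨-1, 69, 1⟩, ⟨-1, 69, 1⟩, ⟨-1, 24, 1⟩]⟩,
  ⟨4, 8, [⟨1, 1, 1⟩, ⟨-1, 184, 1⟩, ⟨1, 126, 1⟩, ⟨1, 46, 1⟩, ⟨1, 11, 1⟩]⟩,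
  ⟨4, 8, [⟨1, 1, 1⟩, ⟨-1, 184, 1⟩, ⟨1, 126, 1⟩, ⟨1, 126, 1⟩, ⟨-1, 69, 1⟩]⟩,
  ⟨4, 8, [⟨1, 1, 1⟩, ⟨-1, 184, 1⟩, ⟨1, 161, 1⟩, ⟨1, 11, 1⟩, ⟨1, 11, 1⟩]⟩,
  ⟨4, 8, [⟨1, 1, 1⟩, ⟨-1, 184, 1⟩, ⟨1, 161, 1⟩, ⟨1, 46, 1⟩, ⟨-1, 24, 1⟩]⟩,
  ⟨4, 8, [⟨1, 1, 1⟩, ⟨1, 231, 1⟩, ⟨-1, 184, 1⟩, ⟨-1, 24, 1⟩, ⟨-1, 24, 1⟩]⟩,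
  ⟨4, 8, [⟨1, 1, 1⟩, ⟨-1, 264, 1⟩, ⟨1, 126, 1⟩, ⟨1, 126, 1⟩, ⟨1, 11, 1⟩]⟩,
  ⟨4, 8, [⟨1, 1, 1⟩, ⟨-1, 264, 1⟩, ⟨1, 161, 1⟩, ⟨1, 126, 1⟩, ⟨-1, 24, 1⟩]⟩,
  ⟨4, 8, [⟨1, 1, 1⟩, ⟨1, 276, 1⟩, ⟨-1, 184, 1⟩, ⟨-1, 69, 1⟩, ⟨-1, 24, 1⟩]⟩,
  ⟨4, 8, [⟨1, 1, 1⟩, ⟨1, 276, 1⟩, ⟨-1, 264, 1⟩, ⟨-1, 24, 1⟩, ⟨1, 11, 1⟩]⟩,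
  ⟨4, 8, [⟨1, 1, 1⟩, ⟨-1, 414, 1⟩, ⟨1, 161, 1⟩, ⟨1, 126, 1⟩, ⟨1, 126, 1⟩]⟩,
  ⟨4, 8, [⟨1, 1, 1⟩, ⟨-1, 414, 1⟩, ⟨1, 276, 1⟩, ⟨1, 126, 1⟩, ⟨1, 11, 1⟩]⟩,
  ⟨4, 8, [⟨1, 1, 1⟩, ⟨-1, 414, 1⟩, ⟨1, 276, 1⟩, ⟨1, 161, 1⟩, ⟨-1, 24, 1⟩]⟩,
  ⟨4, 8, [⟨1, 1, 1⟩, ⟨1, 506, 1⟩, ⟨-1, 414, 1⟩, ⟨-1, 69, 1⟩, ⟨-1, 24, 1⟩]⟩,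
  ⟨4, 8, [⟨1, 1, 1⟩, ⟨-1, 644, 1⟩, ⟨1, 506, 1⟩, ⟨1, 126, 1⟩, ⟨1, 11, 1⟩]⟩,
  ⟨4, 8, [⟨1, 1, 1⟩, ⟨-1, 644, 1⟩, ⟨1, 506, 1⟩, ⟨1, 161, 1⟩, ⟨-1, 24, 1⟩]⟩,
  ⟨4, 8, [⟨1, 1, 1⟩, ⟨-1, 759, 1⟩, ⟨1, 506, 1⟩, ⟨1, 126, 1⟩, ⟨1, 126, 1⟩]⟩,
  ⟨4, 8, [⟨1, 1, 1⟩, ⟨-1, 759, 1⟩, ⟨1, 506, 1⟩, ⟨1, 276, 1⟩, ⟨-1, 24, 1⟩]⟩,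
  ⟨4, 8, [⟨1, 1, 1⟩, ⟨1, 966, 1⟩, ⟨-1, 759, 1⟩, ⟨-1, 184, 1⟩, ⟨-1, 24, 1⟩]⟩,
  ⟨4, 8, [⟨1, 1, 1⟩, ⟨-1, 1104, 1⟩, ⟨1, 966, 1⟩, ⟨1, 126, 1⟩, ⟨1, 11, 1⟩]⟩,
  ⟨4, 8, [⟨1, 1, 1⟩, ⟨-1, 1104, 1⟩, ⟨1, 966, 1⟩, ⟨1, 161, 1⟩, ⟨-1, 24, 1⟩]⟩,
  ⟨4, 8, [⟨1, 1, 1⟩, ⟨-1, 1449, 1⟩, ⟨1, 966, 1⟩, ⟨1, 506, 1⟩, ⟨-1, 24, 1⟩]⟩,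
  ⟨4, 8, [⟨1, 1, 1⟩, ⟨1, 1656, 1⟩, ⟨-1, 1449, 1⟩, ⟨-1, 184, 1⟩, ⟨-1, 24, 1⟩]⟩,
  ⟨4, 8, [⟨1, 1, 1⟩, ⟨1, 1771, 1⟩, ⟨-1, 1104, 1⟩, ⟨-1, 644, 1⟩, ⟨-1, 24, 1⟩]⟩,
  ⟨4, 8, [⟨1, 1, 1⟩, ⟨-1, 2024, 1⟩, ⟨1, 1771, 1⟩, ⟨1, 126, 1⟩, ⟨1, 126, 1⟩]⟩,
  ⟨4, 8, [⟨1, 1, 1⟩, ⟨-1, 2024, 1⟩, ⟨1, 1771, 1⟩, ⟨1, 276, 1⟩, ⟨-1, 24, 1⟩]⟩,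
  ⟨4, 8, [⟨1, 1, 1⟩, ⟨1, 2576, 1⟩, ⟨-1, 1449, 1⟩, ⟨-1, 1104, 1⟩, ⟨-1, 24, 1⟩]⟩,
  ⟨4, 3, [⟨1, 1, 1⟩, ⟨-1, 69, 1⟩, ⟨1, 46, 1⟩, ⟨1, 11, 1⟩, ⟨1, 11, 1⟩]⟩,
  ⟨4, 3, [⟨1, 1, 1⟩, ⟨-1, 69, 1⟩, ⟨1, 46, 1⟩, ⟨1, 46, 1⟩, ⟨-1, 24, 1⟩]⟩,
  ⟨4, 3, [⟨1, 1, 1⟩, ⟨1, 161, 1⟩, ⟨-1, 69, 1⟩, ⟨-1, 69, 1⟩, ⟨-1, 24, 1⟩]⟩,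
  ⟨4, 3, [⟨1, 1, 1⟩, ⟨-1, 184, 1⟩, ⟨1, 161, 1⟩, ⟨1, 11, 1⟩, ⟨1, 11, 1⟩]⟩,
  ⟨4, 3, [⟨1, 1, 1⟩, ⟨-1, 184, 1⟩, ⟨1, 161, 1⟩, ⟨1, 46, 1⟩, ⟨-1, 24, 1⟩]⟩,
  ⟨4, 3, [⟨1, 1, 1⟩, ⟨1, 231, 1⟩, ⟨-1, 184, 1⟩, ⟨-1, 24, 1⟩, ⟨-1, 24, 1⟩]⟩,
  ⟨4, 3, [⟨1, 1, 1⟩, ⟨1, 276, 1⟩, ⟨-1, 184, 1⟩, ⟨-1, 69, 1⟩, ⟨-1, 24, 1⟩]⟩,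
  ⟨4, 3, [⟨1, 1, 1⟩, ⟨1, 276, 1⟩, ⟨-1, 264, 1⟩, ⟨-1, 24, 1⟩, ⟨1, 11, 1⟩]⟩,
  ⟨4, 3, [⟨1, 1, 1⟩, ⟨-1, 644, 1⟩, ⟨1, 506, 1⟩, ⟨1, 161, 1⟩, ⟨-1, 24, 1⟩]⟩,
  ⟨4, 3, [⟨1, 1, 1⟩, ⟨1, 736, 1⟩, ⟨-1, 644, 1⟩, ⟨-1, 69, 1⟩, ⟨-1, 24, 1⟩]⟩,
  ⟨4, 3, [⟨1, 1, 1⟩, ⟨-1, 759, 1⟩, ⟨1, 506, 1⟩, ⟨1, 276, 1⟩, ⟨-1, 24, 1⟩]⟩,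
  ⟨4, 3, [⟨1, 1, 1⟩, ⟨-1, 759, 1⟩, ⟨1, 736, 1⟩, ⟨1, 11, 1⟩, ⟨1, 11, 1⟩]⟩,
  ⟨4, 3, [⟨1, 1, 1⟩, ⟨-1, 759, 1⟩, ⟨1, 736, 1⟩, ⟨1, 46, 1⟩, ⟨-1, 24, 1⟩]⟩,
  ⟨4, 3, [⟨1, 1, 1⟩, ⟨1, 896, 1⟩, ⟨-1, 644, 1⟩, ⟨-1, 184, 1⟩, ⟨-1, 69, 1⟩]⟩,
  ⟨4, 3, [⟨1, 1, 1⟩, ⟨1, 896, 1⟩, ⟨-1, 644, 1⟩, ⟨-1, 264, 1⟩, ⟨1, 11, 1⟩]⟩,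
  ⟨4, 3, [⟨1, 1, 1⟩, ⟨1, 896, 1⟩, ⟨-1, 759, 1⟩, ⟨-1, 69, 1⟩, ⟨-1, 69, 1⟩]⟩,
  ⟨4, 3, [⟨1, 1, 1⟩, ⟨1, 896, 1⟩, ⟨-1, 759, 1⟩, ⟨-1, 184, 1⟩, ⟨1, 46, 1⟩]⟩,
  ⟨4, 3, [⟨1, 1, 1⟩, ⟨1, 896, 1⟩, ⟨-1, 759, 1⟩, ⟨-1, 644, 1⟩, ⟨1, 506, 1⟩]⟩,
  ⟨4, 3, [⟨1, 1, 1⟩, ⟨1, 966, 1⟩, ⟨-1, 759, 1⟩, ⟨-1, 184, 1⟩, ⟨-1, 24, 1⟩]⟩,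
  ⟨4, 3, [⟨1, 1, 1⟩, ⟨-1, 1104, 1⟩, ⟨1, 896, 1⟩, ⟨1, 161, 1⟩, ⟨1, 46, 1⟩]⟩,
  ⟨4, 3, [⟨1, 1, 1⟩, ⟨-1, 1104, 1⟩, ⟨1, 896, 1⟩, ⟨1, 231, 1⟩, ⟨-1, 24, 1⟩]⟩,
  ⟨4, 3, [⟨1, 1, 1⟩, ⟨-1, 1104, 1⟩, ⟨1, 896, 1⟩, ⟨1, 276, 1⟩, ⟨-1, 69, 1⟩]⟩,
  ⟨4, 3, [⟨1, 1, 1⟩, ⟨-1, 1104, 1⟩, ⟨1, 966, 1⟩, ⟨1, 161, 1⟩, ⟨-1, 24, 1⟩]⟩,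
  ⟨4, 3, [⟨1, 1, 1⟩, ⟨-1, 1104, 1⟩, ⟨1, 966, 1⟩, ⟨1, 896, 1⟩, ⟨-1, 759, 1⟩]⟩,
  ⟨4, 3, [⟨1, 1, 1⟩, ⟨1, 1771, 1⟩, ⟨-1, 1104, 1⟩, ⟨-1, 644, 1⟩, ⟨-1, 24, 1⟩]⟩,
  ⟨4, 3, [⟨1, 1, 1⟩, ⟨-1, 2024, 1⟩, ⟨1, 896, 1⟩, ⟨1, 896, 1⟩, ⟨1, 231, 1⟩]⟩,
  ⟨4, 3, [⟨1, 1, 1⟩, ⟨-1, 2024, 1⟩, ⟨1, 966, 1⟩, ⟨1, 896, 1⟩, ⟨1, 161, 1⟩]⟩,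
  ⟨4, 3, [⟨1, 1, 1⟩, ⟨-1, 2024, 1⟩, ⟨1, 1771, 1⟩, ⟨1, 276, 1⟩, ⟨-1, 24, 1⟩]⟩,
  ⟨4, 3, [⟨1, 1, 1⟩, ⟨-1, 2024, 1⟩, ⟨1, 1771, 1⟩, ⟨1, 896, 1⟩, ⟨-1, 644, 1⟩]⟩]

/-- The options at 7. -/
def table7 : List Opt := [
  ⟨2, 2880, [⟨1, 1, 1⟩, ⟨1, 22, 1⟩, ⟨-1, 23, 3⟩]⟩,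
  ⟨2, 360, [⟨1, 1, 1⟩, ⟨1, 22, 1⟩, ⟨-1, 23, 3⟩]⟩,
  ⟨2, 192, [⟨1, 1, 1⟩, ⟨1, 22, 1⟩, ⟨-1, 23, 3⟩]⟩,
  ⟨2, 80, [⟨1, 1, 1⟩, ⟨1, 22, 1⟩, ⟨-1, 23, 3⟩]⟩,
  ⟨2, 45, [⟨1, 1, 1⟩, ⟨1, 22, 1⟩, ⟨-1, 23, 3⟩]⟩,
  ⟨2, 24, [⟨1, 1, 1⟩, ⟨1, 22, 1⟩, ⟨-1, 23, 3⟩]⟩,
  ⟨2, 10, [⟨1, 1, 1⟩, ⟨1, 22, 1⟩, ⟨-1, 23, 3⟩]⟩,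
  ⟨2, 3, [⟨1, 1, 1⟩, ⟨1, 22, 1⟩, ⟨-1, 23, 3⟩]⟩,
  ⟨3, 240, [⟨1, 1, 1⟩, ⟨1, 253, 1⟩, ⟨1, 22, 1⟩, ⟨-1, 276, 2⟩]⟩,
  ⟨3, 240, [⟨1, 1, 1⟩, ⟨-1, 69, 1⟩, ⟨1, 22, 1⟩, ⟨1, 46, 2⟩]⟩,
  ⟨3, 240, [⟨1, 1, 1⟩, ⟨1, 92, 1⟩, ⟨-1, 69, 1⟩, ⟨-1, 24, 2⟩]⟩,
  ⟨3, 30, [⟨1, 1, 1⟩, ⟨1, 736, 1⟩, ⟨1, 22, 1⟩, ⟨-1, 759, 2⟩]⟩,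
  ⟨3, 30, [⟨1, 1, 1⟩, ⟨1, 253, 1⟩, ⟨1, 22, 1⟩, ⟨-1, 276, 2⟩]⟩,
  ⟨3, 30, [⟨1, 1, 1⟩, ⟨-1, 69, 1⟩, ⟨1, 22, 1⟩, ⟨1, 46, 2⟩]⟩,
  ⟨3, 30, [⟨1, 1, 1⟩, ⟨1, 92, 1⟩, ⟨-1, 69, 1⟩, ⟨-1, 24, 2⟩]⟩,
  ⟨3, 16, [⟨1, 1, 1⟩, ⟨-1, 1035, 1⟩, ⟨1, 22, 1⟩, ⟨1, 1012, 2⟩]⟩,
  ⟨3, 16, [⟨1, 1, 1⟩, ⟨1, 2024, 1⟩, ⟨-1, 1035, 1⟩, ⟨-1, 990, 2⟩]⟩,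
  ⟨3, 16, [⟨1, 1, 1⟩, ⟨1, 253, 1⟩, ⟨1, 22, 1⟩, ⟨-1, 276, 2⟩]⟩,
  ⟨3, 16, [⟨1, 1, 1⟩, ⟨-1, 230, 1⟩, ⟨1, 22, 1⟩, ⟨1, 207, 2⟩]⟩,
  ⟨3, 16, [⟨1, 1, 1⟩, ⟨1, 92, 1⟩, ⟨1, 22, 1⟩, ⟨-1, 115, 2⟩]⟩,
  ⟨3, 16, [⟨1, 1, 1⟩, ⟨-1, 69, 1⟩, ⟨1, 22, 1⟩, ⟨1, 46, 2⟩]⟩,
  ⟨3, 16, [⟨1, 1, 1⟩, ⟨1, 22, 1⟩, ⟨1, 22, 1⟩, ⟨-1, 45, 2⟩]⟩,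
  ⟨3, 16, [⟨1, 1, 1⟩, ⟨1, 92, 1⟩, ⟨-1, 69, 1⟩, ⟨-1, 24, 2⟩]⟩,
  ⟨3, 16, [⟨1, 1, 1⟩, ⟨1, 253, 1⟩, ⟨-1, 230, 1⟩, ⟨-1, 24, 2⟩]⟩,
  ⟨3, 2, [⟨1, 1, 1⟩, ⟨-1, 1035, 1⟩, ⟨1, 22, 1⟩, ⟨1, 1012, 2⟩]⟩,
  ⟨3, 2, [⟨1, 1, 1⟩, ⟨1, 736, 1⟩, ⟨1, 253, 1⟩, ⟨-1, 990, 2⟩]⟩,
  ⟨3, 2, [⟨1, 1, 1⟩, ⟨1, 2024, 1⟩, ⟨-1, 1035, 1⟩, ⟨-1, 990, 2⟩]⟩,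
  ⟨3, 2, [⟨1, 1, 1⟩, ⟨1, 736, 1⟩, ⟨1, 22, 1⟩, ⟨-1, 759, 2⟩]⟩,
  ⟨3, 2, [⟨1, 1, 1⟩, ⟨1, 253, 1⟩, ⟨1, 22, 1⟩, ⟨-1, 276, 2⟩]⟩,
  ⟨3, 2, [⟨1, 1, 1⟩, ⟨-1, 230, 1⟩, ⟨1, 22, 1⟩, ⟨1, 207, 2⟩]⟩,
  ⟨3, 2, [⟨1, 1, 1⟩, ⟨1, 92, 1⟩, ⟨1, 22, 1⟩, ⟨-1, 115, 2⟩]⟩,
  ⟨3, 2, [⟨1, 1, 1⟩, ⟨-1, 69, 1⟩, ⟨1, 22, 1⟩, ⟨1, 46, 2⟩]⟩,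
  ⟨3, 2, [⟨1, 1, 1⟩, ⟨1, 22, 1⟩, ⟨1, 22, 1⟩, ⟨-1, 45, 2⟩]⟩,
  ⟨3, 2, [⟨1, 1, 1⟩, ⟨1, 92, 1⟩, ⟨-1, 69, 1⟩, ⟨-1, 24, 2⟩]⟩,
  ⟨3, 2, [⟨1, 1, 1⟩, ⟨1, 253, 1⟩, ⟨-1, 230, 1⟩, ⟨-1, 24, 2⟩]⟩,
  ⟨6, 960, [⟨1, 1, 1⟩, ⟨1, 253, 1⟩, ⟨-1, 69, 1⟩, ⟨-1, 69, 1⟩, ⟨-1, 69, 1⟩, ⟨-1, 69, 1⟩, ⟨1, 22,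
    1⟩]⟩,
  ⟨6, 120, [⟨1, 1, 1⟩, ⟨1, 92, 1⟩, ⟨1, 92, 1⟩, ⟨-1, 69, 1⟩, ⟨-1, 69, 1⟩, ⟨-1, 69, 1⟩, ⟨1, 22,
    1⟩]⟩,
  ⟨6, 120, [⟨1, 1, 1⟩, ⟨1, 253, 1⟩, ⟨-1, 69, 1⟩, ⟨-1, 69, 1⟩, ⟨-1, 69, 1⟩, ⟨-1, 69, 1⟩, ⟨1, 22,
    1⟩]⟩,
  ⟨6, 120, [⟨1, 1, 1⟩, ⟨-1, 552, 1⟩, ⟨1, 253, 1⟩, ⟨1, 92, 1⟩, ⟨1, 92, 1⟩, ⟨1, 92, 1⟩, ⟨1, 22,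
    1⟩]⟩,
  ⟨6, 120, [⟨1, 1, 1⟩, ⟨-1, 552, 1⟩, ⟨1, 253, 1⟩, ⟨1, 253, 1⟩, ⟨1, 92, 1⟩, ⟨-1, 69, 1⟩, ⟨1, 22,
    1⟩]⟩,
  ⟨6, 120, [⟨1, 1, 1⟩, ⟨1, 2024, 1⟩, ⟨-1, 1518, 1⟩, ⟨-1, 552, 1⟩, ⟨1, 92, 1⟩, ⟨-1, 69, 1⟩, ⟨1, 22,
    1⟩]⟩,
  ⟨6, 64, [⟨1, 1, 1⟩, ⟨1, 253, 1⟩, ⟨-1, 69, 1⟩, ⟨-1, 69, 1⟩, ⟨-1, 69, 1⟩, ⟨-1, 69, 1⟩, ⟨1, 22,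
    1⟩]⟩,
  ⟨6, 64, [⟨1, 1, 1⟩, ⟨1, 253, 1⟩, ⟨1, 253, 1⟩, ⟨-1, 230, 1⟩, ⟨-1, 230, 1⟩, ⟨-1, 69, 1⟩, ⟨1, 22,
    1⟩]⟩,
  ⟨6, 64, [⟨1, 1, 1⟩, ⟨1, 414, 1⟩, ⟨-1, 230, 1⟩, ⟨-1, 69, 1⟩, ⟨-1, 69, 1⟩, ⟨-1, 69, 1⟩, ⟨1, 22,
    1⟩]⟩,
  ⟨6, 64, [⟨1, 1, 1⟩, ⟨1, 414, 1⟩, ⟨1, 253, 1⟩, ⟨-1, 230, 1⟩, ⟨-1, 230, 1⟩, ⟨-1, 230, 1⟩, ⟨1, 22,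
    1⟩]⟩,
  ⟨6, 64, [⟨1, 1, 1⟩, ⟨-1, 1035, 1⟩, ⟨1, 253, 1⟩, ⟨1, 253, 1⟩, ⟨1, 253, 1⟩, ⟨1, 253, 1⟩, ⟨1, 22,
    1⟩]⟩,
  ⟨6, 64, [⟨1, 1, 1⟩, ⟨-1, 1035, 1⟩, ⟨1, 414, 1⟩, ⟨1, 414, 1⟩, ⟨1, 253, 1⟩, ⟨-1, 69, 1⟩, ⟨1, 22,
    1⟩]⟩,
  ⟨6, 64, [⟨1, 1, 1⟩, ⟨-1, 1035, 1⟩, ⟨1, 414, 1⟩, ⟨1, 414, 1⟩, ⟨1, 414, 1⟩, ⟨-1, 230, 1⟩, ⟨1, 22,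
    1⟩]⟩,
  ⟨6, 64, [⟨1, 1, 1⟩, ⟨-1, 1518, 1⟩, ⟨1, 414, 1⟩, ⟨1, 414, 1⟩, ⟨1, 414, 1⟩, ⟨1, 253, 1⟩, ⟨1, 22,
    1⟩]⟩,
  ⟨6, 15, [⟨1, 1, 1⟩, ⟨1, 92, 1⟩, ⟨1, 92, 1⟩, ⟨-1, 69, 1⟩, ⟨-1, 69, 1⟩, ⟨-1, 69, 1⟩, ⟨1, 22, 1⟩]⟩,
  ⟨6, 15, [⟨1, 1, 1⟩, ⟨1, 253, 1⟩, ⟨-1, 69, 1⟩, ⟨-1, 69, 1⟩, ⟨-1, 69, 1⟩, ⟨-1, 69, 1⟩, ⟨1, 22,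
    1⟩]⟩,
  ⟨6, 15, [⟨1, 1, 1⟩, ⟨-1, 552, 1⟩, ⟨1, 253, 1⟩, ⟨1, 92, 1⟩, ⟨1, 92, 1⟩, ⟨1, 92, 1⟩, ⟨1, 22, 1⟩]⟩,
  ⟨6, 15, [⟨1, 1, 1⟩, ⟨-1, 552, 1⟩, ⟨1, 253, 1⟩, ⟨1, 253, 1⟩, ⟨1, 92, 1⟩, ⟨-1, 69, 1⟩, ⟨1, 22,
    1⟩]⟩,
  ⟨6, 15, [⟨1, 1, 1⟩, ⟨1, 736, 1⟩, ⟨-1, 552, 1⟩, ⟨-1, 69, 1⟩, ⟨-1, 69, 1⟩, ⟨-1, 69, 1⟩, ⟨1, 22,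
    1⟩]⟩,
  ⟨6, 15, [⟨1, 1, 1⟩, ⟨1, 736, 1⟩, ⟨-1, 552, 1⟩, ⟨-1, 552, 1⟩, ⟨1, 253, 1⟩, ⟨1, 92, 1⟩, ⟨1, 22,
    1⟩]⟩,
  ⟨6, 15, [⟨1, 1, 1⟩, ⟨-1, 1518, 1⟩, ⟨1, 736, 1⟩, ⟨1, 253, 1⟩, ⟨1, 253, 1⟩, ⟨1, 253, 1⟩, ⟨1, 22,
    1⟩]⟩,
  ⟨6, 15, [⟨1, 1, 1⟩, ⟨-1, 1518, 1⟩, ⟨1, 736, 1⟩, ⟨1, 736, 1⟩, ⟨1, 92, 1⟩, ⟨-1, 69, 1⟩, ⟨1, 22,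
    1⟩]⟩,
  ⟨6, 15, [⟨1, 1, 1⟩, ⟨1, 2024, 1⟩, ⟨-1, 1518, 1⟩, ⟨-1, 552, 1⟩, ⟨1, 92, 1⟩, ⟨-1, 69, 1⟩, ⟨1, 22,
    1⟩]⟩,
  ⟨6, 15, [⟨1, 1, 1⟩, ⟨1, 2024, 1⟩, ⟨-1, 1518, 1⟩, ⟨-1, 1518, 1⟩, ⟨1, 736, 1⟩, ⟨1, 253, 1⟩, ⟨1,
    22, 1⟩]⟩,
  ⟨6, 8, [⟨1, 1, 1⟩, ⟨1, 92, 1⟩, ⟨1, 92, 1⟩, ⟨-1, 69, 1⟩, ⟨-1, 69, 1⟩, ⟨-1, 69, 1⟩, ⟨1, 22, 1⟩]⟩,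
  ⟨6, 8, [⟨1, 1, 1⟩, ⟨-1, 230, 1⟩, ⟨1, 92, 1⟩, ⟨1, 92, 1⟩, ⟨1, 92, 1⟩, ⟨-1, 69, 1⟩, ⟨1, 22, 1⟩]⟩,
  ⟨6, 8, [⟨1, 1, 1⟩, ⟨1, 253, 1⟩, ⟨-1, 69, 1⟩, ⟨-1, 69, 1⟩, ⟨-1, 69, 1⟩, ⟨-1, 69, 1⟩, ⟨1, 22,
    1⟩]⟩,
  ⟨6, 8, [⟨1, 1, 1⟩, ⟨1, 253, 1⟩, ⟨-1, 230, 1⟩, ⟨1, 92, 1⟩, ⟨-1, 69, 1⟩, ⟨-1, 69, 1⟩, ⟨1, 22,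
    1⟩]⟩,
  ⟨6, 8, [⟨1, 1, 1⟩, ⟨1, 253, 1⟩, ⟨-1, 230, 1⟩, ⟨-1, 230, 1⟩, ⟨1, 92, 1⟩, ⟨1, 92, 1⟩, ⟨1, 22,
    1⟩]⟩,
  ⟨6, 8, [⟨1, 1, 1⟩, ⟨1, 253, 1⟩, ⟨1, 253, 1⟩, ⟨-1, 230, 1⟩, ⟨-1, 230, 1⟩, ⟨-1, 69, 1⟩, ⟨1, 22,
    1⟩]⟩,
  ⟨6, 8, [⟨1, 1, 1⟩, ⟨1, 414, 1⟩, ⟨-1, 230, 1⟩, ⟨-1, 69, 1⟩, ⟨-1, 69, 1⟩, ⟨-1, 69, 1⟩, ⟨1, 22,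
    1⟩]⟩,
  ⟨6, 8, [⟨1, 1, 1⟩, ⟨1, 414, 1⟩, ⟨-1, 230, 1⟩, ⟨-1, 230, 1⟩, ⟨1, 92, 1⟩, ⟨-1, 69, 1⟩, ⟨1, 22,
    1⟩]⟩,
  ⟨6, 8, [⟨1, 1, 1⟩, ⟨1, 414, 1⟩, ⟨1, 253, 1⟩, ⟨-1, 230, 1⟩, ⟨-1, 230, 1⟩, ⟨-1, 230, 1⟩, ⟨1, 22,
    1⟩]⟩,
  ⟨6, 8, [⟨1, 1, 1⟩, ⟨-1, 552, 1⟩, ⟨1, 253, 1⟩, ⟨1, 92, 1⟩, ⟨1, 92, 1⟩, ⟨1, 92, 1⟩, ⟨1, 22, 1⟩]⟩,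
  ⟨6, 8, [⟨1, 1, 1⟩, ⟨-1, 552, 1⟩, ⟨1, 253, 1⟩, ⟨1, 253, 1⟩, ⟨1, 92, 1⟩, ⟨-1, 69, 1⟩, ⟨1, 22,
    1⟩]⟩,
  ⟨6, 8, [⟨1, 1, 1⟩, ⟨-1, 552, 1⟩, ⟨1, 253, 1⟩, ⟨1, 253, 1⟩, ⟨1, 253, 1⟩, ⟨-1, 230, 1⟩, ⟨1, 22,
    1⟩]⟩,
  ⟨6, 8, [⟨1, 1, 1⟩, ⟨-1, 552, 1⟩, ⟨1, 414, 1⟩, ⟨1, 92, 1⟩, ⟨1, 92, 1⟩, ⟨-1, 69, 1⟩, ⟨1, 22, 1⟩]⟩,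
  ⟨6, 8, [⟨1, 1, 1⟩, ⟨-1, 552, 1⟩, ⟨1, 414, 1⟩, ⟨1, 253, 1⟩, ⟨-1, 69, 1⟩, ⟨-1, 69, 1⟩, ⟨1, 22,
    1⟩]⟩,
  ⟨6, 8, [⟨1, 1, 1⟩, ⟨-1, 552, 1⟩, ⟨1, 414, 1⟩, ⟨1, 253, 1⟩, ⟨-1, 230, 1⟩, ⟨1, 92, 1⟩, ⟨1, 22,
    1⟩]⟩,
  ⟨6, 8, [⟨1, 1, 1⟩, ⟨-1, 552, 1⟩, ⟨1, 414, 1⟩, ⟨1, 414, 1⟩, ⟨-1, 230, 1⟩, ⟨-1, 69, 1⟩, ⟨1, 22,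
    1⟩]⟩,
  ⟨6, 8, [⟨1, 1, 1⟩, ⟨-1, 552, 1⟩, ⟨-1, 552, 1⟩, ⟨1, 414, 1⟩, ⟨1, 414, 1⟩, ⟨1, 253, 1⟩, ⟨1, 22,
    1⟩]⟩,
  ⟨6, 8, [⟨1, 1, 1⟩, ⟨-1, 1035, 1⟩, ⟨1, 253, 1⟩, ⟨1, 253, 1⟩, ⟨1, 253, 1⟩, ⟨1, 253, 1⟩, ⟨1, 22,
    1⟩]⟩,
  ⟨6, 8, [⟨1, 1, 1⟩, ⟨-1, 1035, 1⟩, ⟨1, 414, 1⟩, ⟨1, 253, 1⟩, ⟨1, 253, 1⟩, ⟨1, 92, 1⟩, ⟨1, 22,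
    1⟩]⟩,
  ⟨6, 8, [⟨1, 1, 1⟩, ⟨-1, 1035, 1⟩, ⟨1, 414, 1⟩, ⟨1, 414, 1⟩, ⟨1, 92, 1⟩, ⟨1, 92, 1⟩, ⟨1, 22,
    1⟩]⟩,
  ⟨6, 8, [⟨1, 1, 1⟩, ⟨-1, 1035, 1⟩, ⟨1, 414, 1⟩, ⟨1, 414, 1⟩, ⟨1, 253, 1⟩, ⟨-1, 69, 1⟩, ⟨1, 22,
    1⟩]⟩,
  ⟨6, 8, [⟨1, 1, 1⟩, ⟨-1, 1035, 1⟩, ⟨1, 414, 1⟩, ⟨1, 414, 1⟩, ⟨1, 414, 1⟩, ⟨-1, 230, 1⟩, ⟨1, 22,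
    1⟩]⟩,
  ⟨6, 8, [⟨1, 1, 1⟩, ⟨1, 1380, 1⟩, ⟨-1, 552, 1⟩, ⟨-1, 552, 1⟩, ⟨-1, 230, 1⟩, ⟨-1, 69, 1⟩, ⟨1, 22,
    1⟩]⟩,
  ⟨6, 8, [⟨1, 1, 1⟩, ⟨1, 1380, 1⟩, ⟨-1, 552, 1⟩, ⟨-1, 552, 1⟩, ⟨-1, 552, 1⟩, ⟨1, 253, 1⟩, ⟨1, 22,
    1⟩]⟩,
  ⟨6, 8, [⟨1, 1, 1⟩, ⟨1, 1380, 1⟩, ⟨-1, 1035, 1⟩, ⟨-1, 230, 1⟩, ⟨-1, 69, 1⟩, ⟨-1, 69, 1⟩, ⟨1, 22,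
    1⟩]⟩,
  ⟨6, 8, [⟨1, 1, 1⟩, ⟨1, 1380, 1⟩, ⟨-1, 1035, 1⟩, ⟨-1, 230, 1⟩, ⟨-1, 230, 1⟩, ⟨1, 92, 1⟩, ⟨1, 22,
    1⟩]⟩,
  ⟨6, 8, [⟨1, 1, 1⟩, ⟨1, 1380, 1⟩, ⟨-1, 1035, 1⟩, ⟨-1, 552, 1⟩, ⟨1, 92, 1⟩, ⟨1, 92, 1⟩, ⟨1, 22,
    1⟩]⟩,
  ⟨6, 8, [⟨1, 1, 1⟩, ⟨1, 1380, 1⟩, ⟨-1, 1035, 1⟩, ⟨-1, 552, 1⟩, ⟨1, 253, 1⟩, ⟨-1, 69, 1⟩, ⟨1, 22,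
    1⟩]⟩,
  ⟨6, 8, [⟨1, 1, 1⟩, ⟨1, 1380, 1⟩, ⟨-1, 1035, 1⟩, ⟨-1, 552, 1⟩, ⟨1, 414, 1⟩, ⟨-1, 230, 1⟩, ⟨1, 22,
    1⟩]⟩,
  ⟨6, 8, [⟨1, 1, 1⟩, ⟨1, 1380, 1⟩, ⟨-1, 1035, 1⟩, ⟨-1, 1035, 1⟩, ⟨1, 414, 1⟩, ⟨1, 253, 1⟩, ⟨1, 22,
    1⟩]⟩,
  ⟨6, 8, [⟨1, 1, 1⟩, ⟨-1, 1518, 1⟩, ⟨1, 414, 1⟩, ⟨1, 414, 1⟩, ⟨1, 414, 1⟩, ⟨1, 253, 1⟩, ⟨1, 22,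
    1⟩]⟩,
  ⟨6, 8, [⟨1, 1, 1⟩, ⟨-1, 1518, 1⟩, ⟨1, 1380, 1⟩, ⟨1, 92, 1⟩, ⟨1, 92, 1⟩, ⟨-1, 69, 1⟩, ⟨1, 22,
    1⟩]⟩,
  ⟨6, 8, [⟨1, 1, 1⟩, ⟨-1, 1518, 1⟩, ⟨1, 1380, 1⟩, ⟨1, 253, 1⟩, ⟨-1, 69, 1⟩, ⟨-1, 69, 1⟩, ⟨1, 22,
    1⟩]⟩,
  ⟨6, 8, [⟨1, 1, 1⟩, ⟨-1, 1518, 1⟩, ⟨1, 1380, 1⟩, ⟨1, 253, 1⟩, ⟨-1, 230, 1⟩, ⟨1, 92, 1⟩, ⟨1, 22,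
    1⟩]⟩,
  ⟨6, 8, [⟨1, 1, 1⟩, ⟨-1, 1518, 1⟩, ⟨1, 1380, 1⟩, ⟨1, 414, 1⟩, ⟨-1, 230, 1⟩, ⟨-1, 69, 1⟩, ⟨1, 22,
    1⟩]⟩,
  ⟨6, 8, [⟨1, 1, 1⟩, ⟨-1, 1518, 1⟩, ⟨1, 1380, 1⟩, ⟨-1, 552, 1⟩, ⟨1, 414, 1⟩, ⟨1, 253, 1⟩, ⟨1, 22,
    1⟩]⟩,
  ⟨6, 8, [⟨1, 1, 1⟩, ⟨-1, 1518, 1⟩, ⟨1, 1380, 1⟩, ⟨1, 1380, 1⟩, ⟨-1, 1035, 1⟩, ⟨-1, 230, 1⟩, ⟨1,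
    22, 1⟩]⟩,
  ⟨6, 8, [⟨1, 1, 1⟩, ⟨-1, 1518, 1⟩, ⟨-1, 1518, 1⟩, ⟨1, 1380, 1⟩, ⟨1, 1380, 1⟩, ⟨1, 253, 1⟩, ⟨1,
    22, 1⟩]⟩,
  ⟨6, 8, [⟨1, 1, 1⟩, ⟨-1, 1840, 1⟩, ⟨1, 1380, 1⟩, ⟨1, 253, 1⟩, ⟨1, 92, 1⟩, ⟨1, 92, 1⟩, ⟨1, 22,
    1⟩]⟩,
  ⟨6, 8, [⟨1, 1, 1⟩, ⟨-1, 1840, 1⟩, ⟨1, 1380, 1⟩, ⟨1, 253, 1⟩, ⟨1, 253, 1⟩, ⟨-1, 69, 1⟩, ⟨1, 22,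
    1⟩]⟩,
  ⟨6, 8, [⟨1, 1, 1⟩, ⟨-1, 1840, 1⟩, ⟨1, 1380, 1⟩, ⟨1, 414, 1⟩, ⟨1, 92, 1⟩, ⟨-1, 69, 1⟩, ⟨1, 22,
    1⟩]⟩,
  ⟨6, 8, [⟨1, 1, 1⟩, ⟨-1, 1840, 1⟩, ⟨1, 1380, 1⟩, ⟨1, 414, 1⟩, ⟨1, 253, 1⟩, ⟨-1, 230, 1⟩, ⟨1, 22,
    1⟩]⟩,
  ⟨6, 8, [⟨1, 1, 1⟩, ⟨-1, 1840, 1⟩, ⟨1, 1380, 1⟩, ⟨1, 1380, 1⟩, ⟨-1, 1035, 1⟩, ⟨1, 92, 1⟩, ⟨1, 22,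
    1⟩]⟩,
  ⟨6, 8, [⟨1, 1, 1⟩, ⟨1, 2024, 1⟩, ⟨-1, 1035, 1⟩, ⟨-1, 552, 1⟩, ⟨-1, 230, 1⟩, ⟨-1, 230, 1⟩, ⟨1,
    22, 1⟩]⟩,
  ⟨6, 8, [⟨1, 1, 1⟩, ⟨1, 2024, 1⟩, ⟨-1, 1035, 1⟩, ⟨-1, 552, 1⟩, ⟨-1, 552, 1⟩, ⟨1, 92, 1⟩, ⟨1, 22,
    1⟩]⟩,
  ⟨6, 8, [⟨1, 1, 1⟩, ⟨1, 2024, 1⟩, ⟨-1, 1035, 1⟩, ⟨-1, 1035, 1⟩, ⟨1, 92, 1⟩, ⟨-1, 69, 1⟩, ⟨1, 22,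
    1⟩]⟩,
  ⟨6, 8, [⟨1, 1, 1⟩, ⟨1, 2024, 1⟩, ⟨-1, 1035, 1⟩, ⟨-1, 1035, 1⟩, ⟨1, 253, 1⟩, ⟨-1, 230, 1⟩, ⟨1,
    22, 1⟩]⟩,
  ⟨6, 8, [⟨1, 1, 1⟩, ⟨1, 2024, 1⟩, ⟨-1, 1518, 1⟩, ⟨-1, 230, 1⟩, ⟨-1, 230, 1⟩, ⟨-1, 69, 1⟩, ⟨1, 22,
    1⟩]⟩,
  ⟨6, 8, [⟨1, 1, 1⟩, ⟨1, 2024, 1⟩, ⟨-1, 1518, 1⟩, ⟨-1, 552, 1⟩, ⟨1, 92, 1⟩, ⟨-1, 69, 1⟩, ⟨1, 22,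
    1⟩]⟩,
  ⟨6, 8, [⟨1, 1, 1⟩, ⟨1, 2024, 1⟩, ⟨-1, 1518, 1⟩, ⟨-1, 552, 1⟩, ⟨1, 253, 1⟩, ⟨-1, 230, 1⟩, ⟨1, 22,
    1⟩]⟩,
  ⟨6, 8, [⟨1, 1, 1⟩, ⟨1, 2024, 1⟩, ⟨-1, 1518, 1⟩, ⟨-1, 1035, 1⟩, ⟨1, 253, 1⟩, ⟨1, 253, 1⟩, ⟨1, 22,
    1⟩]⟩,
  ⟨6, 8, [⟨1, 1, 1⟩, ⟨1, 2024, 1⟩, ⟨-1, 1518, 1⟩, ⟨-1, 1035, 1⟩, ⟨1, 414, 1⟩, ⟨1, 92, 1⟩, ⟨1, 22,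
    1⟩]⟩,
  ⟨6, 8, [⟨1, 1, 1⟩, ⟨1, 2024, 1⟩, ⟨-1, 1840, 1⟩, ⟨-1, 69, 1⟩, ⟨-1, 69, 1⟩, ⟨-1, 69, 1⟩, ⟨1, 22,
    1⟩]⟩,
  ⟨6, 8, [⟨1, 1, 1⟩, ⟨1, 2024, 1⟩, ⟨-1, 1840, 1⟩, ⟨-1, 230, 1⟩, ⟨1, 92, 1⟩, ⟨-1, 69, 1⟩, ⟨1, 22,
    1⟩]⟩,
  ⟨6, 8, [⟨1, 1, 1⟩, ⟨1, 2024, 1⟩, ⟨-1, 1840, 1⟩, ⟨1, 253, 1⟩, ⟨-1, 230, 1⟩, ⟨-1, 230, 1⟩, ⟨1, 22,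
    1⟩]⟩,
  ⟨6, 8, [⟨1, 1, 1⟩, ⟨1, 2024, 1⟩, ⟨-1, 1840, 1⟩, ⟨-1, 552, 1⟩, ⟨1, 253, 1⟩, ⟨1, 92, 1⟩, ⟨1, 22,
    1⟩]⟩,
  ⟨6, 8, [⟨1, 1, 1⟩, ⟨1, 2024, 1⟩, ⟨-1, 1840, 1⟩, ⟨-1, 552, 1⟩, ⟨1, 414, 1⟩, ⟨-1, 69, 1⟩, ⟨1, 22,
    1⟩]⟩,
  ⟨6, 8, [⟨1, 1, 1⟩, ⟨1, 2024, 1⟩, ⟨-1, 1840, 1⟩, ⟨-1, 1035, 1⟩, ⟨1, 414, 1⟩, ⟨1, 414, 1⟩, ⟨1, 22,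
    1⟩]⟩,
  ⟨6, 1, [⟨1, 1, 1⟩, ⟨1, 92, 1⟩, ⟨1, 92, 1⟩, ⟨-1, 69, 1⟩, ⟨-1, 69, 1⟩, ⟨-1, 69, 1⟩, ⟨1, 22, 1⟩]⟩,
  ⟨6, 1, [⟨1, 1, 1⟩, ⟨-1, 160, 1⟩, ⟨1, 92, 1⟩, ⟨1, 92, 1⟩, ⟨-1, 69, 1⟩, ⟨1, 22, 1⟩, ⟨1, 22, 1⟩]⟩,
  ⟨6, 1, [⟨1, 1, 1⟩, ⟨-1, 230, 1⟩, ⟨1, 92, 1⟩, ⟨1, 92, 1⟩, ⟨1, 92, 1⟩, ⟨-1, 69, 1⟩, ⟨1, 22, 1⟩]⟩,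
  ⟨6, 1, [⟨1, 1, 1⟩, ⟨1, 253, 1⟩, ⟨-1, 69, 1⟩, ⟨-1, 69, 1⟩, ⟨-1, 69, 1⟩, ⟨-1, 69, 1⟩, ⟨1, 22,
    1⟩]⟩,
  ⟨6, 1, [⟨1, 1, 1⟩, ⟨1, 253, 1⟩, ⟨-1, 160, 1⟩, ⟨-1, 69, 1⟩, ⟨-1, 69, 1⟩, ⟨1, 22, 1⟩, ⟨1, 22,
    1⟩]⟩,
  ⟨6, 1, [⟨1, 1, 1⟩, ⟨1, 253, 1⟩, ⟨-1, 160, 1⟩, ⟨-1, 160, 1⟩, ⟨1, 22, 1⟩, ⟨1, 22, 1⟩, ⟨1, 22,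
    1⟩]⟩,
  ⟨6, 1, [⟨1, 1, 1⟩, ⟨1, 253, 1⟩, ⟨-1, 230, 1⟩, ⟨1, 92, 1⟩, ⟨-1, 69, 1⟩, ⟨-1, 69, 1⟩, ⟨1, 22,
    1⟩]⟩,
  ⟨6, 1, [⟨1, 1, 1⟩, ⟨1, 253, 1⟩, ⟨-1, 230, 1⟩, ⟨-1, 160, 1⟩, ⟨1, 92, 1⟩, ⟨1, 22, 1⟩, ⟨1, 22,
    1⟩]⟩,
  ⟨6, 1, [⟨1, 1, 1⟩, ⟨1, 253, 1⟩, ⟨-1, 230, 1⟩, ⟨-1, 230, 1⟩, ⟨1, 92, 1⟩, ⟨1, 92, 1⟩, ⟨1, 22,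
    1⟩]⟩,
  ⟨6, 1, [⟨1, 1, 1⟩, ⟨1, 253, 1⟩, ⟨1, 253, 1⟩, ⟨-1, 230, 1⟩, ⟨-1, 230, 1⟩, ⟨-1, 69, 1⟩, ⟨1, 22,
    1⟩]⟩,
  ⟨6, 1, [⟨1, 1, 1⟩, ⟨1, 414, 1⟩, ⟨-1, 230, 1⟩, ⟨-1, 69, 1⟩, ⟨-1, 69, 1⟩, ⟨-1, 69, 1⟩, ⟨1, 22,
    1⟩]⟩,
  ⟨6, 1, [⟨1, 1, 1⟩, ⟨1, 414, 1⟩, ⟨-1, 230, 1⟩, ⟨-1, 160, 1⟩, ⟨-1, 69, 1⟩, ⟨1, 22, 1⟩, ⟨1, 22,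
    1⟩]⟩,
  ⟨6, 1, [⟨1, 1, 1⟩, ⟨1, 414, 1⟩, ⟨-1, 230, 1⟩, ⟨-1, 230, 1⟩, ⟨1, 92, 1⟩, ⟨-1, 69, 1⟩, ⟨1, 22,
    1⟩]⟩,
  ⟨6, 1, [⟨1, 1, 1⟩, ⟨1, 414, 1⟩, ⟨1, 253, 1⟩, ⟨-1, 230, 1⟩, ⟨-1, 230, 1⟩, ⟨-1, 230, 1⟩, ⟨1, 22,
    1⟩]⟩,
  ⟨6, 1, [⟨1, 1, 1⟩, ⟨-1, 552, 1⟩, ⟨1, 253, 1⟩, ⟨1, 92, 1⟩, ⟨1, 92, 1⟩, ⟨1, 92, 1⟩, ⟨1, 22, 1⟩]⟩,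
  ⟨6, 1, [⟨1, 1, 1⟩, ⟨-1, 552, 1⟩, ⟨1, 253, 1⟩, ⟨1, 253, 1⟩, ⟨1, 92, 1⟩, ⟨-1, 69, 1⟩, ⟨1, 22,
    1⟩]⟩,
  ⟨6, 1, [⟨1, 1, 1⟩, ⟨-1, 552, 1⟩, ⟨1, 253, 1⟩, ⟨1, 253, 1⟩, ⟨1, 253, 1⟩, ⟨-1, 230, 1⟩, ⟨1, 22,
    1⟩]⟩,
  ⟨6, 1, [⟨1, 1, 1⟩, ⟨-1, 552, 1⟩, ⟨1, 288, 1⟩, ⟨1, 288, 1⟩, ⟨-1, 69, 1⟩, ⟨1, 22, 1⟩, ⟨1, 22,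
    1⟩]⟩,
  ⟨6, 1, [⟨1, 1, 1⟩, ⟨-1, 552, 1⟩, ⟨1, 414, 1⟩, ⟨1, 92, 1⟩, ⟨1, 92, 1⟩, ⟨-1, 69, 1⟩, ⟨1, 22, 1⟩]⟩,
  ⟨6, 1, [⟨1, 1, 1⟩, ⟨-1, 552, 1⟩, ⟨1, 414, 1⟩, ⟨1, 253, 1⟩, ⟨-1, 69, 1⟩, ⟨-1, 69, 1⟩, ⟨1, 22,
    1⟩]⟩,
  ⟨6, 1, [⟨1, 1, 1⟩, ⟨-1, 552, 1⟩, ⟨1, 414, 1⟩, ⟨1, 253, 1⟩, ⟨-1, 160, 1⟩, ⟨1, 22, 1⟩, ⟨1, 22,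
    1⟩]⟩,
  ⟨6, 1, [⟨1, 1, 1⟩, ⟨-1, 552, 1⟩, ⟨1, 414, 1⟩, ⟨1, 253, 1⟩, ⟨-1, 230, 1⟩, ⟨1, 92, 1⟩, ⟨1, 22,
    1⟩]⟩,
  ⟨6, 1, [⟨1, 1, 1⟩, ⟨-1, 552, 1⟩, ⟨1, 414, 1⟩, ⟨1, 414, 1⟩, ⟨-1, 230, 1⟩, ⟨-1, 69, 1⟩, ⟨1, 22,
    1⟩]⟩,
  ⟨6, 1, [⟨1, 1, 1⟩, ⟨-1, 552, 1⟩, ⟨-1, 552, 1⟩, ⟨1, 414, 1⟩, ⟨1, 414, 1⟩, ⟨1, 253, 1⟩, ⟨1, 22,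
    1⟩]⟩,
  ⟨6, 1, [⟨1, 1, 1⟩, ⟨1, 736, 1⟩, ⟨-1, 230, 1⟩, ⟨-1, 230, 1⟩, ⟨-1, 230, 1⟩, ⟨-1, 69, 1⟩, ⟨1, 22,
    1⟩]⟩,
  ⟨6, 1, [⟨1, 1, 1⟩, ⟨1, 736, 1⟩, ⟨-1, 552, 1⟩, ⟨-1, 69, 1⟩, ⟨-1, 69, 1⟩, ⟨-1, 69, 1⟩, ⟨1, 22,
    1⟩]⟩,
  ⟨6, 1, [⟨1, 1, 1⟩, ⟨1, 736, 1⟩, ⟨-1, 552, 1⟩, ⟨-1, 160, 1⟩, ⟨-1, 69, 1⟩, ⟨1, 22, 1⟩, ⟨1, 22,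
    1⟩]⟩,
  ⟨6, 1, [⟨1, 1, 1⟩, ⟨1, 736, 1⟩, ⟨-1, 552, 1⟩, ⟨-1, 230, 1⟩, ⟨1, 92, 1⟩, ⟨-1, 69, 1⟩, ⟨1, 22,
    1⟩]⟩,
  ⟨6, 1, [⟨1, 1, 1⟩, ⟨1, 736, 1⟩, ⟨-1, 552, 1⟩, ⟨1, 253, 1⟩, ⟨-1, 230, 1⟩, ⟨-1, 230, 1⟩, ⟨1, 22,
    1⟩]⟩,
  ⟨6, 1, [⟨1, 1, 1⟩, ⟨1, 736, 1⟩, ⟨-1, 552, 1⟩, ⟨-1, 552, 1⟩, ⟨1, 253, 1⟩, ⟨1, 92, 1⟩, ⟨1, 22,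
    1⟩]⟩,
  ⟨6, 1, [⟨1, 1, 1⟩, ⟨1, 736, 1⟩, ⟨-1, 552, 1⟩, ⟨-1, 552, 1⟩, ⟨1, 414, 1⟩, ⟨-1, 69, 1⟩, ⟨1, 22,
    1⟩]⟩,
  ⟨6, 1, [⟨1, 1, 1⟩, ⟨-1, 1035, 1⟩, ⟨1, 253, 1⟩, ⟨1, 253, 1⟩, ⟨1, 253, 1⟩, ⟨1, 253, 1⟩, ⟨1, 22,
    1⟩]⟩,
  ⟨6, 1, [⟨1, 1, 1⟩, ⟨-1, 1035, 1⟩, ⟨1, 414, 1⟩, ⟨1, 253, 1⟩, ⟨1, 253, 1⟩, ⟨1, 92, 1⟩, ⟨1, 22,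
    1⟩]⟩,
  ⟨6, 1, [⟨1, 1, 1⟩, ⟨-1, 1035, 1⟩, ⟨1, 414, 1⟩, ⟨1, 288, 1⟩, ⟨1, 288, 1⟩, ⟨1, 22, 1⟩, ⟨1, 22,
    1⟩]⟩,
  ⟨6, 1, [⟨1, 1, 1⟩, ⟨-1, 1035, 1⟩, ⟨1, 414, 1⟩, ⟨1, 414, 1⟩, ⟨1, 92, 1⟩, ⟨1, 92, 1⟩, ⟨1, 22,
    1⟩]⟩,
  ⟨6, 1, [⟨1, 1, 1⟩, ⟨-1, 1035, 1⟩, ⟨1, 414, 1⟩, ⟨1, 414, 1⟩, ⟨1, 253, 1⟩, ⟨-1, 69, 1⟩, ⟨1, 22,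
    1⟩]⟩,
  ⟨6, 1, [⟨1, 1, 1⟩, ⟨-1, 1035, 1⟩, ⟨1, 414, 1⟩, ⟨1, 414, 1⟩, ⟨1, 414, 1⟩, ⟨-1, 230, 1⟩, ⟨1, 22,
    1⟩]⟩,
  ⟨6, 1, [⟨1, 1, 1⟩, ⟨-1, 1035, 1⟩, ⟨1, 736, 1⟩, ⟨1, 92, 1⟩, ⟨1, 92, 1⟩, ⟨1, 92, 1⟩, ⟨1, 22, 1⟩]⟩,
  ⟨6, 1, [⟨1, 1, 1⟩, ⟨-1, 1035, 1⟩, ⟨1, 736, 1⟩, ⟨1, 253, 1⟩, ⟨1, 92, 1⟩, ⟨-1, 69, 1⟩, ⟨1, 22,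
    1⟩]⟩,
  ⟨6, 1, [⟨1, 1, 1⟩, ⟨-1, 1035, 1⟩, ⟨1, 736, 1⟩, ⟨1, 253, 1⟩, ⟨1, 253, 1⟩, ⟨-1, 230, 1⟩, ⟨1, 22,
    1⟩]⟩,
  ⟨6, 1, [⟨1, 1, 1⟩, ⟨-1, 1035, 1⟩, ⟨1, 736, 1⟩, ⟨1, 414, 1⟩, ⟨-1, 69, 1⟩, ⟨-1, 69, 1⟩, ⟨1, 22,
    1⟩]⟩,
  ⟨6, 1, [⟨1, 1, 1⟩, ⟨-1, 1035, 1⟩, ⟨1, 736, 1⟩, ⟨1, 414, 1⟩, ⟨-1, 160, 1⟩, ⟨1, 22, 1⟩, ⟨1, 22,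
    1⟩]⟩,
  ⟨6, 1, [⟨1, 1, 1⟩, ⟨-1, 1035, 1⟩, ⟨1, 736, 1⟩, ⟨1, 414, 1⟩, ⟨-1, 230, 1⟩, ⟨1, 92, 1⟩, ⟨1, 22,
    1⟩]⟩,
  ⟨6, 1, [⟨1, 1, 1⟩, ⟨-1, 1035, 1⟩, ⟨1, 736, 1⟩, ⟨-1, 552, 1⟩, ⟨1, 414, 1⟩, ⟨1, 414, 1⟩, ⟨1, 22,
    1⟩]⟩,
  ⟨6, 1, [⟨1, 1, 1⟩, ⟨-1, 1035, 1⟩, ⟨1, 736, 1⟩, ⟨1, 736, 1⟩, ⟨-1, 230, 1⟩, ⟨-1, 230, 1⟩, ⟨1, 22,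
    1⟩]⟩,
  ⟨6, 1, [⟨1, 1, 1⟩, ⟨-1, 1035, 1⟩, ⟨1, 736, 1⟩, ⟨1, 736, 1⟩, ⟨-1, 552, 1⟩, ⟨1, 92, 1⟩, ⟨1, 22,
    1⟩]⟩,
  ⟨6, 1, [⟨1, 1, 1⟩, ⟨1, 1380, 1⟩, ⟨-1, 552, 1⟩, ⟨-1, 552, 1⟩, ⟨-1, 230, 1⟩, ⟨-1, 69, 1⟩, ⟨1, 22,
    1⟩]⟩,
  ⟨6, 1, [⟨1, 1, 1⟩, ⟨1, 1380, 1⟩, ⟨-1, 552, 1⟩, ⟨-1, 552, 1⟩, ⟨-1, 552, 1⟩, ⟨1, 253, 1⟩, ⟨1, 22,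
    1⟩]⟩,
  ⟨6, 1, [⟨1, 1, 1⟩, ⟨1, 1380, 1⟩, ⟨-1, 1035, 1⟩, ⟨-1, 230, 1⟩, ⟨-1, 69, 1⟩, ⟨-1, 69, 1⟩, ⟨1, 22,
    1⟩]⟩,
  ⟨6, 1, [⟨1, 1, 1⟩, ⟨1, 1380, 1⟩, ⟨-1, 1035, 1⟩, ⟨-1, 230, 1⟩, ⟨-1, 160, 1⟩, ⟨1, 22, 1⟩, ⟨1, 22,
    1⟩]⟩,
  ⟨6, 1, [⟨1, 1, 1⟩, ⟨1, 1380, 1⟩, ⟨-1, 1035, 1⟩, ⟨-1, 230, 1⟩, ⟨-1, 230, 1⟩, ⟨1, 92, 1⟩, ⟨1, 22,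
    1⟩]⟩,
  ⟨6, 1, [⟨1, 1, 1⟩, ⟨1, 1380, 1⟩, ⟨-1, 1035, 1⟩, ⟨-1, 552, 1⟩, ⟨1, 92, 1⟩, ⟨1, 92, 1⟩, ⟨1, 22,
    1⟩]⟩,
  ⟨6, 1, [⟨1, 1, 1⟩, ⟨1, 1380, 1⟩, ⟨-1, 1035, 1⟩, ⟨-1, 552, 1⟩, ⟨1, 253, 1⟩, ⟨-1, 69, 1⟩, ⟨1, 22,
    1⟩]⟩,
  ⟨6, 1, [⟨1, 1, 1⟩, ⟨1, 1380, 1⟩, ⟨-1, 1035, 1⟩, ⟨-1, 552, 1⟩, ⟨1, 414, 1⟩, ⟨-1, 230, 1⟩, ⟨1, 22,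
    1⟩]⟩,
  ⟨6, 1, [⟨1, 1, 1⟩, ⟨1, 1380, 1⟩, ⟨-1, 1035, 1⟩, ⟨1, 736, 1⟩, ⟨-1, 552, 1⟩, ⟨-1, 552, 1⟩, ⟨1, 22,
    1⟩]⟩,
  ⟨6, 1, [⟨1, 1, 1⟩, ⟨1, 1380, 1⟩, ⟨-1, 1035, 1⟩, ⟨-1, 1035, 1⟩, ⟨1, 414, 1⟩, ⟨1, 253, 1⟩, ⟨1, 22,
    1⟩]⟩,
  ⟨6, 1, [⟨1, 1, 1⟩, ⟨1, 1380, 1⟩, ⟨-1, 1035, 1⟩, ⟨-1, 1035, 1⟩, ⟨1, 736, 1⟩, ⟨-1, 69, 1⟩, ⟨1, 22,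
    1⟩]⟩,
  ⟨6, 1, [⟨1, 1, 1⟩, ⟨-1, 1518, 1⟩, ⟨1, 414, 1⟩, ⟨1, 414, 1⟩, ⟨1, 414, 1⟩, ⟨1, 253, 1⟩, ⟨1, 22,
    1⟩]⟩,
  ⟨6, 1, [⟨1, 1, 1⟩, ⟨-1, 1518, 1⟩, ⟨1, 736, 1⟩, ⟨1, 253, 1⟩, ⟨1, 253, 1⟩, ⟨1, 253, 1⟩, ⟨1, 22,
    1⟩]⟩,
  ⟨6, 1, [⟨1, 1, 1⟩, ⟨-1, 1518, 1⟩, ⟨1, 736, 1⟩, ⟨1, 414, 1⟩, ⟨1, 253, 1⟩, ⟨1, 92, 1⟩, ⟨1, 22,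
    1⟩]⟩,
  ⟨6, 1, [⟨1, 1, 1⟩, ⟨-1, 1518, 1⟩, ⟨1, 736, 1⟩, ⟨1, 414, 1⟩, ⟨1, 414, 1⟩, ⟨-1, 69, 1⟩, ⟨1, 22,
    1⟩]⟩,
  ⟨6, 1, [⟨1, 1, 1⟩, ⟨-1, 1518, 1⟩, ⟨1, 736, 1⟩, ⟨1, 736, 1⟩, ⟨1, 92, 1⟩, ⟨-1, 69, 1⟩, ⟨1, 22,
    1⟩]⟩,
  ⟨6, 1, [⟨1, 1, 1⟩, ⟨-1, 1518, 1⟩, ⟨1, 736, 1⟩, ⟨1, 736, 1⟩, ⟨1, 253, 1⟩, ⟨-1, 230, 1⟩, ⟨1, 22,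
    1⟩]⟩,
  ⟨6, 1, [⟨1, 1, 1⟩, ⟨-1, 1518, 1⟩, ⟨1, 1380, 1⟩, ⟨1, 92, 1⟩, ⟨1, 92, 1⟩, ⟨-1, 69, 1⟩, ⟨1, 22,
    1⟩]⟩,
  ⟨6, 1, [⟨1, 1, 1⟩, ⟨-1, 1518, 1⟩, ⟨1, 1380, 1⟩, ⟨1, 253, 1⟩, ⟨-1, 69, 1⟩, ⟨-1, 69, 1⟩, ⟨1, 22,
    1⟩]⟩,
  ⟨6, 1, [⟨1, 1, 1⟩, ⟨-1, 1518, 1⟩, ⟨1, 1380, 1⟩, ⟨1, 253, 1⟩, ⟨-1, 160, 1⟩, ⟨1, 22, 1⟩, ⟨1, 22,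
    1⟩]⟩,
  ⟨6, 1, [⟨1, 1, 1⟩, ⟨-1, 1518, 1⟩, ⟨1, 1380, 1⟩, ⟨1, 253, 1⟩, ⟨-1, 230, 1⟩, ⟨1, 92, 1⟩, ⟨1, 22,
    1⟩]⟩,
  ⟨6, 1, [⟨1, 1, 1⟩, ⟨-1, 1518, 1⟩, ⟨1, 1380, 1⟩, ⟨1, 414, 1⟩, ⟨-1, 230, 1⟩, ⟨-1, 69, 1⟩, ⟨1, 22,
    1⟩]⟩,
  ⟨6, 1, [⟨1, 1, 1⟩, ⟨-1, 1518, 1⟩, ⟨1, 1380, 1⟩, ⟨-1, 552, 1⟩, ⟨1, 414, 1⟩, ⟨1, 253, 1⟩, ⟨1, 22,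
    1⟩]⟩,
  ⟨6, 1, [⟨1, 1, 1⟩, ⟨-1, 1518, 1⟩, ⟨1, 1380, 1⟩, ⟨1, 736, 1⟩, ⟨-1, 552, 1⟩, ⟨-1, 69, 1⟩, ⟨1, 22,
    1⟩]⟩,
  ⟨6, 1, [⟨1, 1, 1⟩, ⟨-1, 1518, 1⟩, ⟨1, 1380, 1⟩, ⟨-1, 1035, 1⟩, ⟨1, 736, 1⟩, ⟨1, 414, 1⟩, ⟨1, 22,
    1⟩]⟩,
  ⟨6, 1, [⟨1, 1, 1⟩, ⟨-1, 1518, 1⟩, ⟨1, 1380, 1⟩, ⟨1, 1380, 1⟩, ⟨-1, 1035, 1⟩, ⟨-1, 230, 1⟩, ⟨1,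
    22, 1⟩]⟩,
  ⟨6, 1, [⟨1, 1, 1⟩, ⟨-1, 1518, 1⟩, ⟨-1, 1518, 1⟩, ⟨1, 1380, 1⟩, ⟨1, 1380, 1⟩, ⟨1, 253, 1⟩, ⟨1,
    22, 1⟩]⟩,
  ⟨6, 1, [⟨1, 1, 1⟩, ⟨-1, 1840, 1⟩, ⟨1, 736, 1⟩, ⟨1, 414, 1⟩, ⟨1, 414, 1⟩, ⟨1, 253, 1⟩, ⟨1, 22,
    1⟩]⟩,
  ⟨6, 1, [⟨1, 1, 1⟩, ⟨-1, 1840, 1⟩, ⟨1, 736, 1⟩, ⟨1, 736, 1⟩, ⟨1, 253, 1⟩, ⟨1, 92, 1⟩, ⟨1, 22,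
    1⟩]⟩,
  ⟨6, 1, [⟨1, 1, 1⟩, ⟨-1, 1840, 1⟩, ⟨1, 736, 1⟩, ⟨1, 736, 1⟩, ⟨1, 414, 1⟩, ⟨-1, 69, 1⟩, ⟨1, 22,
    1⟩]⟩,
  ⟨6, 1, [⟨1, 1, 1⟩, ⟨-1, 1840, 1⟩, ⟨1, 1380, 1⟩, ⟨1, 253, 1⟩, ⟨1, 92, 1⟩, ⟨1, 92, 1⟩, ⟨1, 22,
    1⟩]⟩,
  ⟨6, 1, [⟨1, 1, 1⟩, ⟨-1, 1840, 1⟩, ⟨1, 1380, 1⟩, ⟨1, 253, 1⟩, ⟨1, 253, 1⟩, ⟨-1, 69, 1⟩, ⟨1, 22,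
    1⟩]⟩,
  ⟨6, 1, [⟨1, 1, 1⟩, ⟨-1, 1840, 1⟩, ⟨1, 1380, 1⟩, ⟨1, 414, 1⟩, ⟨1, 92, 1⟩, ⟨-1, 69, 1⟩, ⟨1, 22,
    1⟩]⟩,
  ⟨6, 1, [⟨1, 1, 1⟩, ⟨-1, 1840, 1⟩, ⟨1, 1380, 1⟩, ⟨1, 414, 1⟩, ⟨1, 253, 1⟩, ⟨-1, 230, 1⟩, ⟨1, 22,
    1⟩]⟩,
  ⟨6, 1, [⟨1, 1, 1⟩, ⟨-1, 1840, 1⟩, ⟨1, 1380, 1⟩, ⟨1, 736, 1⟩, ⟨-1, 230, 1⟩, ⟨-1, 69, 1⟩, ⟨1, 22,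
    1⟩]⟩,
  ⟨6, 1, [⟨1, 1, 1⟩, ⟨-1, 1840, 1⟩, ⟨1, 1380, 1⟩, ⟨1, 736, 1⟩, ⟨-1, 552, 1⟩, ⟨1, 253, 1⟩, ⟨1, 22,
    1⟩]⟩,
  ⟨6, 1, [⟨1, 1, 1⟩, ⟨-1, 1840, 1⟩, ⟨1, 1380, 1⟩, ⟨-1, 1035, 1⟩, ⟨1, 736, 1⟩, ⟨1, 736, 1⟩, ⟨1, 22,
    1⟩]⟩,
  ⟨6, 1, [⟨1, 1, 1⟩, ⟨-1, 1840, 1⟩, ⟨1, 1380, 1⟩, ⟨1, 1380, 1⟩, ⟨-1, 1035, 1⟩, ⟨1, 92, 1⟩, ⟨1, 22,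
    1⟩]⟩,
  ⟨6, 1, [⟨1, 1, 1⟩, ⟨1, 2024, 1⟩, ⟨-1, 1035, 1⟩, ⟨-1, 552, 1⟩, ⟨-1, 230, 1⟩, ⟨-1, 230, 1⟩, ⟨1,
    22, 1⟩]⟩,
  ⟨6, 1, [⟨1, 1, 1⟩, ⟨1, 2024, 1⟩, ⟨-1, 1035, 1⟩, ⟨-1, 552, 1⟩, ⟨-1, 552, 1⟩, ⟨1, 92, 1⟩, ⟨1, 22,
    1⟩]⟩,
  ⟨6, 1, [⟨1, 1, 1⟩, ⟨1, 2024, 1⟩, ⟨-1, 1035, 1⟩, ⟨-1, 1035, 1⟩, ⟨1, 92, 1⟩, ⟨-1, 69, 1⟩, ⟨1, 22,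
    1⟩]⟩,
  ⟨6, 1, [⟨1, 1, 1⟩, ⟨1, 2024, 1⟩, ⟨-1, 1035, 1⟩, ⟨-1, 1035, 1⟩, ⟨1, 253, 1⟩, ⟨-1, 230, 1⟩, ⟨1,
    22, 1⟩]⟩,
  ⟨6, 1, [⟨1, 1, 1⟩, ⟨1, 2024, 1⟩, ⟨-1, 1518, 1⟩, ⟨-1, 230, 1⟩, ⟨-1, 230, 1⟩, ⟨-1, 69, 1⟩, ⟨1, 22,
    1⟩]⟩,
  ⟨6, 1, [⟨1, 1, 1⟩, ⟨1, 2024, 1⟩, ⟨-1, 1518, 1⟩, ⟨-1, 552, 1⟩, ⟨1, 92, 1⟩, ⟨-1, 69, 1⟩, ⟨1, 22,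
    1⟩]⟩,
  ⟨6, 1, [⟨1, 1, 1⟩, ⟨1, 2024, 1⟩, ⟨-1, 1518, 1⟩, ⟨-1, 552, 1⟩, ⟨1, 253, 1⟩, ⟨-1, 230, 1⟩, ⟨1, 22,
    1⟩]⟩,
  ⟨6, 1, [⟨1, 1, 1⟩, ⟨1, 2024, 1⟩, ⟨-1, 1518, 1⟩, ⟨-1, 1035, 1⟩, ⟨1, 253, 1⟩, ⟨1, 253, 1⟩, ⟨1, 22,
    1⟩]⟩,
  ⟨6, 1, [⟨1, 1, 1⟩, ⟨1, 2024, 1⟩, ⟨-1, 1518, 1⟩, ⟨-1, 1035, 1⟩, ⟨1, 414, 1⟩, ⟨1, 92, 1⟩, ⟨1, 22,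
    1⟩]⟩,
  ⟨6, 1, [⟨1, 1, 1⟩, ⟨1, 2024, 1⟩, ⟨-1, 1518, 1⟩, ⟨-1, 1035, 1⟩, ⟨1, 736, 1⟩, ⟨-1, 230, 1⟩, ⟨1,
    22, 1⟩]⟩,
  ⟨6, 1, [⟨1, 1, 1⟩, ⟨1, 2024, 1⟩, ⟨-1, 1518, 1⟩, ⟨-1, 1518, 1⟩, ⟨1, 736, 1⟩, ⟨1, 253, 1⟩, ⟨1, 22,
    1⟩]⟩,
  ⟨6, 1, [⟨1, 1, 1⟩, ⟨1, 2024, 1⟩, ⟨-1, 1840, 1⟩, ⟨-1, 69, 1⟩, ⟨-1, 69, 1⟩, ⟨-1, 69, 1⟩, ⟨1, 22,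
    1⟩]⟩,
  ⟨6, 1, [⟨1, 1, 1⟩, ⟨1, 2024, 1⟩, ⟨-1, 1840, 1⟩, ⟨-1, 160, 1⟩, ⟨-1, 69, 1⟩, ⟨1, 22, 1⟩, ⟨1, 22,
    1⟩]⟩,
  ⟨6, 1, [⟨1, 1, 1⟩, ⟨1, 2024, 1⟩, ⟨-1, 1840, 1⟩, ⟨-1, 230, 1⟩, ⟨1, 92, 1⟩, ⟨-1, 69, 1⟩, ⟨1, 22,
    1⟩]⟩,
  ⟨6, 1, [⟨1, 1, 1⟩, ⟨1, 2024, 1⟩, ⟨-1, 1840, 1⟩, ⟨1, 253, 1⟩, ⟨-1, 230, 1⟩, ⟨-1, 230, 1⟩, ⟨1, 22,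
    1⟩]⟩,
  ⟨6, 1, [⟨1, 1, 1⟩, ⟨1, 2024, 1⟩, ⟨-1, 1840, 1⟩, ⟨-1, 552, 1⟩, ⟨1, 253, 1⟩, ⟨1, 92, 1⟩, ⟨1, 22,
    1⟩]⟩,
  ⟨6, 1, [⟨1, 1, 1⟩, ⟨1, 2024, 1⟩, ⟨-1, 1840, 1⟩, ⟨-1, 552, 1⟩, ⟨1, 414, 1⟩, ⟨-1, 69, 1⟩, ⟨1, 22,
    1⟩]⟩,
  ⟨6, 1, [⟨1, 1, 1⟩, ⟨1, 2024, 1⟩, ⟨-1, 1840, 1⟩, ⟨-1, 1035, 1⟩, ⟨1, 414, 1⟩, ⟨1, 414, 1⟩, ⟨1, 22,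
    1⟩]⟩,
  ⟨6, 1, [⟨1, 1, 1⟩, ⟨1, 2024, 1⟩, ⟨-1, 1840, 1⟩, ⟨-1, 1035, 1⟩, ⟨1, 736, 1⟩, ⟨1, 92, 1⟩, ⟨1, 22,
    1⟩]⟩]

/-- The options at 7 with an element of order 77. -/
def tableBad : List Opt := [
  ⟨3, 660, [⟨1, 1, 1⟩, ⟨1, 92, 1⟩, ⟨-1, 69, 1⟩, ⟨-1, 24, 2⟩]⟩,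
  ⟨3, 44, [⟨1, 1, 1⟩, ⟨1, 92, 1⟩, ⟨-1, 69, 1⟩, ⟨-1, 24, 2⟩]⟩]

/-- The families at 11 with a self-centralizing Sylow subgroup. -/
def cfgTable : List (List MTwentyTwo.Slot) := [
  [⟨1, 1, 1⟩, ⟨-1, 736, 1⟩, ⟨-1, 483, 1⟩, ⟨-1, 483, 1⟩, ⟨1, 45, 1⟩, ⟨1, 1656, 2⟩],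
  [⟨1, 1, 1⟩, ⟨-1, 736, 1⟩, ⟨-1, 736, 1⟩, ⟨-1, 230, 1⟩, ⟨1, 45, 1⟩, ⟨1, 1656, 2⟩],
  [⟨1, 1, 1⟩, ⟨1, 1035, 1⟩, ⟨1, 276, 1⟩, ⟨1, 45, 1⟩, ⟨1, 23, 1⟩, ⟨-1, 1380, 2⟩],
  [⟨1, 1, 1⟩, ⟨1, 1035, 1⟩, ⟨1, 1035, 1⟩, ⟨-1, 736, 1⟩, ⟨1, 45, 1⟩, ⟨-1, 1380, 2⟩],
  [⟨1, 1, 1⟩, ⟨1, 1288, 1⟩, ⟨1, 45, 1⟩, ⟨1, 23, 1⟩, ⟨1, 23, 1⟩, ⟨-1, 1380, 2⟩],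
  [⟨1, 1, 1⟩, ⟨1, 1288, 1⟩, ⟨1, 276, 1⟩, ⟨-1, 230, 1⟩, ⟨1, 45, 1⟩, ⟨-1, 1380, 2⟩],
  [⟨1, 1, 1⟩, ⟨1, 1035, 1⟩, ⟨-1, 230, 1⟩, ⟨1, 45, 1⟩, ⟨1, 45, 1⟩, ⟨-1, 896, 2⟩],
  [⟨1, 1, 1⟩, ⟨1, 1288, 1⟩, ⟨-1, 483, 1⟩, ⟨1, 45, 1⟩, ⟨1, 45, 1⟩, ⟨-1, 896, 2⟩],
  [⟨1, 1, 1⟩, ⟨-1, 230, 1⟩, ⟨-1, 230, 1⟩, ⟨-1, 230, 1⟩, ⟨1, 45, 1⟩, ⟨1, 644, 2⟩],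
  [⟨1, 1, 1⟩, ⟨-1, 483, 1⟩, ⟨-1, 230, 1⟩, ⟨1, 45, 1⟩, ⟨1, 23, 1⟩, ⟨1, 644, 2⟩],
  [⟨1, 1, 1⟩, ⟨-1, 483, 1⟩, ⟨-1, 252, 1⟩, ⟨1, 45, 1⟩, ⟨1, 45, 1⟩, ⟨1, 644, 2⟩],
  [⟨1, 1, 1⟩, ⟨-1, 483, 1⟩, ⟨-1, 483, 1⟩, ⟨1, 276, 1⟩, ⟨1, 45, 1⟩, ⟨1, 644, 2⟩],
  [⟨1, 1, 1⟩, ⟨-1, 736, 1⟩, ⟨1, 45, 1⟩, ⟨1, 23, 1⟩, ⟨1, 23, 1⟩, ⟨1, 644, 2⟩],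
  [⟨1, 1, 1⟩, ⟨-1, 736, 1⟩, ⟨1, 276, 1⟩, ⟨-1, 230, 1⟩, ⟨1, 45, 1⟩, ⟨1, 644, 2⟩],
  [⟨1, 1, 1⟩, ⟨1, 276, 1⟩, ⟨1, 45, 1⟩, ⟨1, 23, 1⟩, ⟨1, 23, 1⟩, ⟨-1, 368, 2⟩],
  [⟨1, 1, 1⟩, ⟨1, 276, 1⟩, ⟨1, 276, 1⟩, ⟨-1, 230, 1⟩, ⟨1, 45, 1⟩, ⟨-1, 368, 2⟩],
  [⟨1, 1, 1⟩, ⟨1, 1035, 1⟩, ⟨-1, 483, 1⟩, ⟨-1, 230, 1⟩, ⟨1, 45, 1⟩, ⟨-1, 368, 2⟩],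
  [⟨1, 1, 1⟩, ⟨1, 1035, 1⟩, ⟨-1, 736, 1⟩, ⟨1, 45, 1⟩, ⟨1, 23, 1⟩, ⟨-1, 368, 2⟩],
  [⟨1, 1, 1⟩, ⟨1, 1288, 1⟩, ⟨-1, 483, 1⟩, ⟨-1, 483, 1⟩, ⟨1, 45, 1⟩, ⟨-1, 368, 2⟩],
  [⟨1, 1, 1⟩, ⟨1, 1288, 1⟩, ⟨-1, 736, 1⟩, ⟨-1, 230, 1⟩, ⟨1, 45, 1⟩, ⟨-1, 368, 2⟩],
  [⟨1, 1, 1⟩, ⟨-1, 230, 1⟩, ⟨1, 23, 1⟩, ⟨1, 23, 1⟩, ⟨1, 23, 1⟩, ⟨1, 160, 2⟩],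
  [⟨1, 1, 1⟩, ⟨-1, 230, 1⟩, ⟨1, 45, 1⟩, ⟨1, 12, 1⟩, ⟨1, 12, 1⟩, ⟨1, 160, 2⟩],
  [⟨1, 1, 1⟩, ⟨-1, 252, 1⟩, ⟨1, 45, 1⟩, ⟨1, 23, 1⟩, ⟨1, 23, 1⟩, ⟨1, 160, 2⟩],
  [⟨1, 1, 1⟩, ⟨1, 276, 1⟩, ⟨-1, 230, 1⟩, ⟨-1, 230, 1⟩, ⟨1, 23, 1⟩, ⟨1, 160, 2⟩],
  [⟨1, 1, 1⟩, ⟨1, 276, 1⟩, ⟨-1, 252, 1⟩, ⟨-1, 230, 1⟩, ⟨1, 45, 1⟩, ⟨1, 160, 2⟩],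
  [⟨1, 1, 1⟩, ⟨-1, 483, 1⟩, ⟨1, 276, 1⟩, ⟨1, 23, 1⟩, ⟨1, 23, 1⟩, ⟨1, 160, 2⟩],
  [⟨1, 1, 1⟩, ⟨-1, 483, 1⟩, ⟨1, 276, 1⟩, ⟨1, 276, 1⟩, ⟨-1, 230, 1⟩, ⟨1, 160, 2⟩],
  [⟨1, 1, 1⟩, ⟨-1, 736, 1⟩, ⟨1, 276, 1⟩, ⟨1, 276, 1⟩, ⟨1, 23, 1⟩, ⟨1, 160, 2⟩],
  [⟨1, 1, 1⟩, ⟨1, 1035, 1⟩, ⟨-1, 483, 1⟩, ⟨-1, 483, 1⟩, ⟨-1, 230, 1⟩, ⟨1, 160, 2⟩],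
  [⟨1, 1, 1⟩, ⟨1, 1035, 1⟩, ⟨-1, 736, 1⟩, ⟨-1, 230, 1⟩, ⟨-1, 230, 1⟩, ⟨1, 160, 2⟩],
  [⟨1, 1, 1⟩, ⟨1, 1035, 1⟩, ⟨-1, 736, 1⟩, ⟨-1, 483, 1⟩, ⟨1, 23, 1⟩, ⟨1, 160, 2⟩],
  [⟨1, 1, 1⟩, ⟨1, 1035, 1⟩, ⟨-1, 736, 1⟩, ⟨-1, 736, 1⟩, ⟨1, 276, 1⟩, ⟨1, 160, 2⟩],
  [⟨1, 1, 1⟩, ⟨1, 1288, 1⟩, ⟨-1, 483, 1⟩, ⟨-1, 483, 1⟩, ⟨-1, 483, 1⟩, ⟨1, 160, 2⟩],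
  [⟨1, 1, 1⟩, ⟨1, 1288, 1⟩, ⟨-1, 736, 1⟩, ⟨-1, 483, 1⟩, ⟨-1, 230, 1⟩, ⟨1, 160, 2⟩],
  [⟨1, 1, 1⟩, ⟨1, 1288, 1⟩, ⟨-1, 736, 1⟩, ⟨-1, 736, 1⟩, ⟨1, 23, 1⟩, ⟨1, 160, 2⟩],
  [⟨1, 1, 1⟩, ⟨-1, 230, 1⟩, ⟨1, 45, 1⟩, ⟨1, 23, 1⟩, ⟨1, 23, 1⟩, ⟨1, 138, 2⟩],
  [⟨1, 1, 1⟩, ⟨-1, 252, 1⟩, ⟨1, 45, 1⟩, ⟨1, 45, 1⟩, ⟨1, 23, 1⟩, ⟨1, 138, 2⟩],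
  [⟨1, 1, 1⟩, ⟨1, 276, 1⟩, ⟨-1, 230, 1⟩, ⟨-1, 230, 1⟩, ⟨1, 45, 1⟩, ⟨1, 138, 2⟩],
  [⟨1, 1, 1⟩, ⟨-1, 483, 1⟩, ⟨1, 276, 1⟩, ⟨1, 45, 1⟩, ⟨1, 23, 1⟩, ⟨1, 138, 2⟩],
  [⟨1, 1, 1⟩, ⟨-1, 736, 1⟩, ⟨1, 276, 1⟩, ⟨1, 276, 1⟩, ⟨1, 45, 1⟩, ⟨1, 138, 2⟩],
  [⟨1, 1, 1⟩, ⟨1, 1035, 1⟩, ⟨-1, 736, 1⟩, ⟨-1, 483, 1⟩, ⟨1, 45, 1⟩, ⟨1, 138, 2⟩],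
  [⟨1, 1, 1⟩, ⟨1, 1288, 1⟩, ⟨-1, 736, 1⟩, ⟨-1, 736, 1⟩, ⟨1, 45, 1⟩, ⟨1, 138, 2⟩],
  [⟨1, 1, 1⟩, ⟨1, 45, 1⟩, ⟨1, 45, 1⟩, ⟨1, 23, 1⟩, ⟨1, 12, 1⟩, ⟨-1, 126, 2⟩],
  [⟨1, 1, 1⟩, ⟨1, 45, 1⟩, ⟨1, 23, 1⟩, ⟨1, 23, 1⟩, ⟨1, 23, 1⟩, ⟨-1, 115, 2⟩],
  [⟨1, 1, 1⟩, ⟨1, 45, 1⟩, ⟨1, 45, 1⟩, ⟨1, 12, 1⟩, ⟨1, 12, 1⟩, ⟨-1, 115, 2⟩],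
  [⟨1, 1, 1⟩, ⟨1, 276, 1⟩, ⟨-1, 230, 1⟩, ⟨1, 45, 1⟩, ⟨1, 23, 1⟩, ⟨-1, 115, 2⟩],
  [⟨1, 1, 1⟩, ⟨1, 276, 1⟩, ⟨-1, 252, 1⟩, ⟨1, 45, 1⟩, ⟨1, 45, 1⟩, ⟨-1, 115, 2⟩],
  [⟨1, 1, 1⟩, ⟨-1, 483, 1⟩, ⟨1, 276, 1⟩, ⟨1, 276, 1⟩, ⟨1, 45, 1⟩, ⟨-1, 115, 2⟩],
  [⟨1, 1, 1⟩, ⟨1, 1035, 1⟩, ⟨-1, 483, 1⟩, ⟨-1, 483, 1⟩, ⟨1, 45, 1⟩, ⟨-1, 115, 2⟩],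
  [⟨1, 1, 1⟩, ⟨1, 1035, 1⟩, ⟨-1, 736, 1⟩, ⟨-1, 230, 1⟩, ⟨1, 45, 1⟩, ⟨-1, 115, 2⟩],
  [⟨1, 1, 1⟩, ⟨1, 1288, 1⟩, ⟨-1, 736, 1⟩, ⟨-1, 483, 1⟩, ⟨1, 45, 1⟩, ⟨-1, 115, 2⟩]]

/-- The 11-family of M23. -/
def goalF : List MTwentyTwo.Slot :=
  [⟨1, 1, 1⟩, ⟨1, 1035, 1⟩, ⟨-1, 230, 1⟩, ⟨1, 45, 1⟩, ⟨1, 45, 1⟩, ⟨-1, 896, 2⟩]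

/-- The 5-family of M23. -/
def goal5 : Opt :=
  ⟨4, 3, [⟨1, 1, 1⟩, ⟨-1, 2024, 1⟩, ⟨1, 896, 1⟩, ⟨1, 896, 1⟩, ⟨1, 231, 1⟩]⟩

/-- The 7-family of M23. -/
def goalZ7 : List MTwentyTwo.Slot :=
  [⟨1, 1, 1⟩, ⟨1, 2024, 1⟩, ⟨-1, 1035, 1⟩, ⟨-1, 990, 2⟩]

/-- Whether only the families of M23 survive with an 11-family. -/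
def checkCfg (F : List MTwentyTwo.Slot) : Bool :=
  (alive table5 table7 F).all fun o => decide (F = goalF ∧ o.1 = goal5 ∧ o.2.Z = goalZ7)

/-- The possible centralizer orders of any involution. -/
def genCs : List ℕ :=
  divList.filter fun C => decide (C % 4 = 0 ∧ C % 5 ≠ 0 ∧ C % 11 ≠ 0 ∧ C % 23 ≠ 0 ∧ C ≤ 443520)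

/-- The values of M23 at an involution on the 11-family. -/
def goalVA : List ℤ := [1, 27, 22, -3, -3, 0]

/-- The further members of the block at 23, with doubled signs. -/
def goalQ : List MTwentyTwo.Slot :=
  [⟨2, 990, 1⟩, ⟨2, 990, 1⟩, ⟨2, 231, 1⟩, ⟨2, 231, 1⟩, ⟨2, 231, 1⟩, ⟨-2, 22, 1⟩, ⟨-2, 770, 2⟩]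

/-- The values of M23 at an involution on the further members of the block at 23. -/
def goalVQ : List ℤ := [-18, -18, 7, 7, 7, 6, -14]

/-- The values at any involution are those of M23. -/
def checkCol (o7 : Opt) : Bool :=
  (genCs.all fun C => decide (C = 2688) || !(colOK (fun _ _ _ => true) 0 C goalF goal5 o7)) &&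
    !(colOK (fun vA Q vQ => !(decide (vA = goalVA ∧ Q = goalQ ∧ vQ = goalVQ))) 0 2688 goalF goal5 o7)

end Cfsg.Lib.MTwentyThree
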