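import Cfsg.Agent.Lib.MTwentyTwo.Sound
import Cfsg.Agent.Lib.MTwentyThree.Data

/-!
# The block search for a simple group of order 10200960: completeness of the list functions
-/

set_option autoImplicit false

namespace Cfsg.Lib.MTwentyThree

open MTwentyTwo (Slot withNat withInt normList withNat_eq withInt_eq normList_eq powDivs mem_powDivs valsOf)

theorem divList_check : (((powDivs 2 7).flatMap fun a => (powDivs 3 2).flatMap fun b =>
    (powDivs 5 1).flatMap fun c => (powDivs 7 1).flatMap fun e => (powDivs 11 1).flatMap fun f =>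
      (powDivs 23 1).map fun g => a * (b * (c * (e * (f * g))))).all fun d => divList.contains d) =
    true := by
  decide +kernel

theorem mem_divList {d : ℕ} (h : d ∣ ord) : d ∈ divList := by
  rw [show ord = 2 ^ 7 * (3 ^ 2 * (5 ^ 1 * (7 ^ 1 * (11 ^ 1 * 23 ^ 1)))) from rfl] at h
  obtain ⟨a, x, ha, hx, rfl⟩ := Nat.dvd_mul.1 h
  obtain ⟨b, y, hb, hy, rfl⟩ := Nat.dvd_mul.1 hx
  obtain ⟨c, z, hc, hz, rfl⟩ := Nat.dvd_mul.1 hy
  obtain ⟨e, u, he, hu, rfl⟩ := Nat.dvd_mul.1 hz
  obtain ⟨f, g, hf, hg, rfl⟩ := Nat.dvd_mul.1 hu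
  have := List.all_eq_true.1 divList_check (a * (b * (c * (e * (f * g))))) (by
    simp only [List.mem_flatMap, List.mem_map]
    exact ⟨a, mem_powDivs Nat.prime_two ha, b, mem_powDivs Nat.prime_three hb,
      c, mem_powDivs Nat.prime_five hc, e, mem_powDivs (by norm_num) he,
      f, mem_powDivs (by norm_num) hf, g, mem_powDivs (by norm_num) hg, rfl⟩)
  simpa using this

theorem divList_sorted : divList.Pairwise (fun a b => b ≤ a) := by decide +kernel

theorem rootBound_spec {C u : ℕ} (hC : C ≤ 443520) (h : u * u ≤ C) : u ≤ rootBound C := by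
  unfold rootBound
  cases hf : ([12, 20, 32, 48, 64, 96, 128, 192, 256, 384, 512].find? fun b => decide (C ≤ b * b)) with
  | none =>
    simp only [Option.getD_none]
    nlinarith
  | some b =>
    have := List.find?_some hf
    simp only [decide_eq_true_eq] at this
    simp only [Option.getD_some]
    exact Nat.mul_self_le_mul_self_iff.1 (h.trans this)

theorem mem_dom {d m C : ℕ} {v : ℤ} (hd : d ≠ 1) (hm : 1 ≤ m) (hC : C ≤ 443520)
    (hlt : v.natAbs < d) (hdvd : ((qof d C : ℕ) : ℤ) ∣ v) (h4 : (v - d) % 4 = 0)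
    (hsq : (m : ℤ) * v * v ≤ C) : v ∈ dom d m C := by
  simp only [dom, if_neg hd, withNat_eq, normList_eq, List.mem_filter, List.mem_map]
  obtain ⟨u, rfl⟩ := hdvd
  set q := qof d C with hq
  refine ⟨?_, by simp [h4, hsq]⟩
  have hq0 : 0 < q := by
    rw [hq, qof]
    have hd0 : 0 < d := by omega
    exact Nat.div_pos (Nat.le_of_dvd hd0 (Nat.gcd_dvd_left _ _)) (Nat.gcd_pos_of_pos_left _ hd0)
  have hb : ((q : ℤ) * u).natAbs ≤ rootBound C := by
    refine rootBound_spec hC ?_
    have h0 := Int.natAbs_mul_self (a := (q : ℤ) * u)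
    have h1 : ((q : ℤ) * u) * ((q : ℤ) * u) ≤ (m : ℤ) * ((q : ℤ) * u) * ((q : ℤ) * u) := by
      rw [mul_assoc (m : ℤ)]
      exact le_mul_of_one_le_left (mul_self_nonneg _) (by exact_mod_cast hm)
    have h2 : ((((q : ℤ) * u).natAbs * ((q : ℤ) * u).natAbs : ℕ) : ℤ) ≤ C := by linarith
    exact_mod_cast h2
  have hk : u.natAbs ≤ min (d - 1) (rootBound C) / q := by
    rw [Nat.le_div_iff_mul_le hq0]
    rw [Int.natAbs_mul, Int.natAbs_natCast] at hb hlt
    rw [Nat.mul_comm]
    omega
  generalize hK : min (d - 1) (rootBound C) / q = k at hk ⊢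
  refine ⟨(u + (k : ℤ)).toNat, List.mem_range.2 (by omega), ?_⟩
  rw [Int.toNat_of_nonneg (show 0 ≤ u + (k : ℤ) by omega), add_sub_cancel_right, mul_comm]

theorem mem_cong {p d : ℕ} {l : List ℤ} {v : ℤ} (hv : v ∈ l)
    (h : (v - d) % ((2 * p : ℕ) : ℤ) = 0) : v ∈ cong p d l := by
  simp only [cong, List.mem_filter, decide_eq_true_eq]
  exact ⟨hv, h⟩

/-- The linear sum of a search. -/
def linC : List Cell → List ℤ → ℤ
  | z :: l, v :: vs => z.s * v + linC l vs
  | _, _ => 0

/-- The new squares of a search. -/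
def addC : List Cell → List ℤ → ℤ
  | z :: l, v :: vs => (if z.add then (z.m : ℤ) * v * v else 0) + addC l vs
  | _, _ => 0

/-- The quadratic sum of a search. -/
def qC : List Cell → List ℤ → ℤ
  | z :: l, v :: vs => z.s * (ord / z.d : ℕ) * v * v + qC l vs
  | _, _ => 0

theorem addC_nonneg : ∀ (l : List Cell) (vs : List ℤ), 0 ≤ addC l vs
  | [], _ => le_rfl
  | _ :: _, [] => le_rfl
  | z :: l, v :: vs => by
    have h1 := addC_nonneg l vs
    have h2 : 0 ≤ (z.m : ℤ) * v * v := by
      rw [mul_assoc]; exact mul_nonneg (Int.natCast_nonneg _) (mul_self_nonneg _)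
    simp only [addC]; split_ifs <;> omega

theorem natAbs_sq_le_maxSq : ∀ {l : List ℤ} {v : ℤ}, v ∈ l → v.natAbs * v.natAbs ≤ maxSq l
  | a :: l, v, h => by
    rcases List.mem_cons.1 h with rfl | h
    · exact le_max_left _ _
    · exact (natAbs_sq_le_maxSq h).trans (le_max_right _ _)

theorem headW_cons (z : Pr) (l : List Pr) : headW (z :: l) = (z.wp, z.wn, z.nb) := rfl

theorem prep_bounds : ∀ (l : List Cell) (vs : List ℤ), (∀ z ∈ l, 1 ≤ z.m) →
    List.Forall₂ (fun z v => v ∈ z.cand) l vs →
    qC l vs ≤ ((headW (prep l)).1 : ℤ) * (addC l vs + (headW (prep l)).2.2) ∧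
      -(((headW (prep l)).2.1 : ℤ) * (addC l vs + (headW (prep l)).2.2)) ≤ qC l vs
  | [], vs, _, _ => by simp [qC, addC, prep, headW]
  | z :: l, _, hm, hd => by
    rcases hd with _ | ⟨hv, hrest⟩
    rename_i v vs
    obtain ⟨ih1, ih2⟩ := prep_bounds l vs (fun y hy => hm y (List.mem_cons_of_mem _ hy)) hrest
    simp only [prep, withNat_eq, withInt_eq, qC, addC, headW_cons]
    set P := (headW (prep l)).1
    set N := (headW (prep l)).2.1
    set B := (headW (prep l)).2.2
    set w : ℤ := z.s * ((ord / z.d : ℕ) : ℤ) with hwdef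
    have hA : 0 ≤ addC l vs + (B : ℤ) := add_nonneg (addC_nonneg l vs) (Int.natCast_nonneg _)
    have hvv : 0 ≤ v * v := mul_self_nonneg v
    have hm1 : (1 : ℤ) ≤ z.m := by exact_mod_cast hm z List.mem_cons_self
    have hmax : v * v ≤ (maxSq z.cand : ℤ) := by
      rw [← Int.natAbs_mul_self]; exact_mod_cast natAbs_sq_le_maxSq hv
    have hS : v * v ≤ (if z.add then (z.m : ℤ) * v * v else 0) +
        ((if z.add then 0 else z.m * maxSq z.cand : ℕ) : ℤ) := by
      split_ifs with ha
      · push_cast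
        nlinarith
      · push_cast
        nlinarith
    set S := (if z.add then (z.m : ℤ) * v * v else 0) +
        ((if z.add then 0 else z.m * maxSq z.cand : ℕ) : ℤ) with hSdef
    have hwp : w ≤ (max w.toNat P : ℕ) := le_trans (Int.self_le_toNat w)
      (by exact_mod_cast le_max_left _ _)
    have hwn : -w ≤ (max (-w).toNat N : ℕ) := le_trans (Int.self_le_toNat (-w))
      (by exact_mod_cast le_max_left _ _)
    have hP : (P : ℤ) ≤ (max w.toNat P : ℕ) := by exact_mod_cast le_max_right _ _
    have hN : (N : ℤ) ≤ (max (-w).toNat N : ℕ) := by exact_mod_cast le_max_right _ _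
    have e : (if z.add then (z.m : ℤ) * v * v else 0) + addC l vs +
        ((B + if z.add then 0 else z.m * maxSq z.cand : ℕ) : ℤ) = S + (addC l vs + (B : ℤ)) := by
      rw [hSdef, Nat.cast_add]; ring
    rw [e, show z.s * ((ord / z.d : ℕ) : ℤ) * v * v = w * (v * v) by rw [hwdef]; ring]
    have h1 := mul_le_mul_of_nonneg_right hwp hvv
    have h2 := mul_le_mul_of_nonneg_left hS (Int.natCast_nonneg (max w.toNat P))
    have h3 := mul_le_mul_of_nonneg_right hP hA
    have h4 := mul_le_mul_of_nonneg_right hwn hvv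
    have h5 := mul_le_mul_of_nonneg_left hS (Int.natCast_nonneg (max (-w).toNat N))
    have h6 := mul_le_mul_of_nonneg_right hN hA
    constructor <;> linarith

theorem solve_complete (C : ℕ) (ex : Bool) : ∀ (l : List Cell) (vs : List ℤ) (lin ss qd : ℤ),
    (∀ z ∈ l, 1 ≤ z.m) → List.Forall₂ (fun z v => v ∈ z.cand) l vs →
    lin + linC l vs = 0 → (ex = true → qd + qC l vs = 0) → ss + addC l vs ≤ C →
    (vs, ss + addC l vs, qd + qC l vs) ∈ solve C ex (prep l) lin ss qd
  | [], _, lin, ss, qd, _, hd, h1, h2, _ => by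
    cases hd
    simp only [linC, qC, addC, add_zero] at h1 h2 ⊢
    cases ex <;> simp_all [prep, solve]
  | z :: l, _, lin, ss, qd, hm, hd, h1, h2, h3 => by
    have hb := prep_bounds (z :: l) _ hm hd
    rcases hd with _ | ⟨hv, hrest⟩
    rename_i v vs
    have hcond : (!ex || decide (0 ≤ qd + ((C : ℤ) - ss + (headW (prep (z :: l))).2.2) *
        (headW (prep (z :: l))).1 ∧ qd - ((C : ℤ) - ss + (headW (prep (z :: l))).2.2) *
        (headW (prep (z :: l))).2.1 ≤ 0)) = true := by
      cases ex with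
      | false => rfl
      | true =>
        have h0 := h2 rfl
        obtain ⟨hb1, hb2⟩ := hb
        have hle : addC (z :: l) (v :: vs) + ((headW (prep (z :: l))).2.2 : ℤ) ≤
            (C : ℤ) - ss + (headW (prep (z :: l))).2.2 := by linarith
        have hp := mul_le_mul_of_nonneg_left hle (Int.natCast_nonneg (headW (prep (z :: l))).1)
        have hn := mul_le_mul_of_nonneg_left hle (Int.natCast_nonneg (headW (prep (z :: l))).2.1)
        simp only [Bool.not_true, Bool.false_or, decide_eq_true_eq]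
        constructor <;> linarith
    simp only [prep, withNat_eq, withInt_eq, headW_cons] at hcond
    simp only [prep, withNat_eq, withInt_eq, solve]
    rw [if_pos hcond]
    refine List.mem_flatMap.2 ⟨v, hv, ?_⟩
    have hlast : (if (prep l).isEmpty then decide (lin + z.s * v = 0) else true) = true := by
      cases l with
      | nil =>
        cases hrest
        simp only [linC, add_zero] at h1
        simp [prep, h1]
      | cons y l => simp [prep, withNat_eq, withInt_eq]
    rw [if_pos hlast]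
    have hn := addC_nonneg l vs
    simp only [addC] at h3
    rw [if_pos (by omega)]
    refine List.mem_map.2 ⟨(vs, (ss + if z.add then (z.m : ℤ) * v * v else 0) + addC l vs,
      (qd + z.s * ((ord / z.d : ℕ) : ℤ) * v * v) + qC l vs), solve_complete C ex l vs _ _ _
      (fun y hy => hm y (List.mem_cons_of_mem _ hy)) hrest (by simp only [linC] at h1; linarith)
      (fun e => by have := h2 e; simp only [qC] at this; linarith) (by omega), ?_⟩
    simp only [addC, qC, add_assoc]

theorem mem_valsOf_zip {l : List Slot} {vs : List ℤ} {x : Slot} {v : ℤ} (h : (x, v) ∈ l.zip vs) :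
    v ∈ valsOf l vs x.d :=
  MTwentyTwo.mem_valsOf h

theorem sqrt_any {c q i : ℕ} (hi : i ≤ c) (hq : i * i = q) :
    (decide (q ≤ c * c) && (List.range (c + 1)).any fun i => decide (i * i = q)) = true := by
  simp only [Bool.and_eq_true, decide_eq_true_eq, List.any_eq_true, List.mem_range]
  exact ⟨hq ▸ Nat.mul_le_mul hi hi, i, by omega, hq⟩

theorem fracOK_of_count {p e c C i : ℕ} {qd : ℤ} (hp : 0 < p) (hC : 0 < C) (hc : 0 < c) (hi : i ≤ c)
    (hodd : e % 2 = 1 → qd = 0) (h : (c : ℤ) * qd = ((p * i * i * C * C : ℕ) : ℤ)) :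
    fracOK p e c C qd = true := by
  unfold fracOK
  split_ifs with he
  · simp [hodd he]
  · have h0 : 0 ≤ qd := by
      have h1 : (0 : ℤ) ≤ (c : ℤ) * qd := h ▸ Int.natCast_nonneg _
      exact nonneg_of_mul_nonneg_right h1 (by exact_mod_cast hc)
    obtain ⟨n, rfl⟩ := Int.eq_ofNat_of_zero_le h0
    have hn : c * n = i * i * (p * C * C) := by
      have : c * n = p * i * i * C * C := by exact_mod_cast h
      rw [this]; ring
    simp only [withNat_eq, Int.toNat_natCast, hn, Nat.mul_mod_left,
      Nat.mul_div_cancel _ (show 0 < p * C * C by positivity), decide_true, Bool.true_and,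
      Bool.and_eq_true]
    refine ⟨decide_eq_true h0, ?_⟩
    simpa [Bool.and_eq_true] using sqrt_any hi rfl

end Cfsg.Lib.MTwentyThree
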