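import Cfsg.Agent.Lib.MTwentyThree.Table
import Cfsg.Agent.Lib.MTwelveOrder.Tools

/-!
# Consequences of the table

The characters are told apart by the degree, there is one class of involutions and an involution
commutes with 99 involutions.
-/

set_option autoImplicit false
set_option linter.style.haveILetI false
set_option linter.unusedSectionVars false

namespace Cfsg.Lib.MTwentyThree

open Cfsg Cfsg.Lib
open Cfsg.Lib.Char (classFinset mem_classFinset card_classFinset card_class_product)
open Cfsg.Lib.MTwentyTwo (deg intVal cast_intVal)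
open scoped ComplexConjugate

universe u

/-- The value at an involution as a function of the degree. -/
def invV : ℕ → ℤ
  | 1 => 1
  | 22 => 6
  | 45 => -3
  | 230 => 22
  | 253 => 13
  | 990 => -18
  | 1035 => 27
  | 2024 => 8
  | 231 => 7
  | 770 => -14
  | _ => 0

variable {G : Type u} [Group G] [Fintype G]

namespace Tbl

variable (T : Tbl G)

include T

theorem mem_cases (χ : IrrCharacter G) : χ = Small.one' G ∨ χ = T.a ∨ χ = T.b ∨ χ = T.b' ∨ χ = T.c ∨
    χ = T.e ∨ χ = T.n ∨ χ = T.n' ∨ χ = T.g ∨ χ = T.u ∨ χ ∈ T.R := by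
  classical
  by_contra hno
  simp only [not_or] at hno
  obtain ⟨p0, p1, p2, p3, p4, p5, p6, p7, p8, p9, p10⟩ := hno
  have h := T.sum_eq fun ψ => if ψ = χ then (1 : ℕ) else 0
  rw [Finset.sum_ite_eq', if_pos (Finset.mem_univ _), Finset.sum_ite_eq', if_neg p10,
    if_neg (Ne.symm p0), if_neg (Ne.symm p1), if_neg (Ne.symm p2), if_neg (Ne.symm p3),
    if_neg (Ne.symm p4), if_neg (Ne.symm p5), if_neg (Ne.symm p6), if_neg (Ne.symm p7),
    if_neg (Ne.symm p8), if_neg (Ne.symm p9)] at h
  exact absurd h (by norm_num)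

omit T in
theorem deg_one' : deg (Small.one' G) = 1 := Small.charDegree_one'

theorem of_deg {χ : IrrCharacter G} :
    (deg χ = 22 → χ = T.a) ∧ (deg χ = 45 → χ = T.b ∨ χ = T.b') ∧ (deg χ = 230 → χ = T.c) ∧
      (deg χ = 253 → χ = T.e) ∧ (deg χ = 990 → χ = T.n ∨ χ = T.n') ∧
      (deg χ = 1035 → χ = T.g) ∧ (deg χ = 2024 → χ = T.u) := by
  have := T.ha; have := T.hb; have := T.hb'; have := T.hc; have := T.he; have := T.hn; have := T.hn'
  have := T.hg; have := T.hu; have := deg_one' (G := G)
  rcases T.mem_cases χ with e | e | e | e | e | e | e | e | e | e | e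
  all_goals first
    | (subst e
       refine ⟨?_, ?_, ?_, ?_, ?_, ?_, ?_⟩ <;> intro hd <;>
         first | rfl | exact Or.inl rfl | exact Or.inr rfl | omega)
    | (rcases T.hR χ e with h | h | h <;> rw [h] <;> norm_num)

theorem val_deg {z : G} (hz : orderOf z = 2) (χ : IrrCharacter G) :
    intVal z χ = invV (deg χ) := by
  classical
  obtain ⟨-, h1, h2, h3, h4, h5, h6, h7, h8, h9⟩ := T.inv_val z hz
  rcases T.mem_cases χ with e | e | e | e | e | e | e | e | e | e | e
  rotate_right
  · have h0 := T.sum_R (fun d v => if v = invV d then (0 : ℕ) else 1) z hz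
    rw [show (2 • (if (0 : ℤ) = invV 896 then (0 : ℕ) else 1) +
      3 • (if (7 : ℤ) = invV 231 then (0 : ℕ) else 1) +
      2 • (if (-14 : ℤ) = invV 770 then (0 : ℕ) else 1)) = 0 by simp [invV]] at h0
    have := Finset.sum_eq_zero_iff.1 h0 χ e
    simpa using this
  all_goals subst e
  · rw [deg_one', MTwentyTwo.intVal_eq (z := z) (χ := Small.one' G) (m := 1)
      (by rw [Small.one'_apply, Int.cast_one])]
    rfl
  · rw [T.ha, h1]; rfl
  · rw [T.hb, h2]; rfl
  · rw [T.hb', h3]; rfl
  · rw [T.hc, h4]; rfl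
  · rw [T.he, h5]; rfl
  · rw [T.hn, h6]; rfl
  · rw [T.hn', h7]; rfl
  · rw [T.hg, h8]; rfl
  · rw [T.hu, h9]; rfl

theorem apply_inv_elt {z : G} (hz : orderOf z = 2) (χ : IrrCharacter G) :
    (χ : G → ℂ) z = (invV (deg χ) : ℂ) := by
  rw [← T.val_deg hz χ, cast_intVal _ (hz ▸ pow_orderOf_eq_one z)]

/-- A sum of a function of the degree and the value at an involution. -/
theorem sum_inv {M : Type} [AddCommMonoid M] (f : ℕ → ℤ → M) {z : G} (hz : orderOf z = 2) :
    ∑ χ : IrrCharacter G, f (deg χ) (invV (deg χ)) =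
      f 1 1 + f 22 6 + f 45 (-3) + f 45 (-3) + f 230 22 + f 253 13 + f 990 (-18) + f 990 (-18) +
        f 1035 27 + f 2024 8 + (2 • f 896 0 + 3 • f 231 7 + 2 • f 770 (-14)) := by
  rw [T.sum_eq, deg_one', T.ha, T.hb, T.hb', T.hc, T.he, T.hn, T.hn', T.hg, T.hu, ← T.sum_R f z hz,
    Finset.sum_congr rfl fun χ _ => by rw [← T.val_deg hz χ]]
  rfl

theorem card_centralizer {z : G} (hz : orderOf z = 2) :
    Nat.card (Subgroup.centralizer ({z} : Set G)) = 2688 := (T.inv_val z hz).1

theorem inv_conj {z z' : G} (hz : orderOf z = 2) (hz' : orderOf z' = 2) : IsConj z z' := by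
  classical
  by_contra h
  have h' := Char.column_orthogonality z z'
  rw [if_neg h] at h'
  simp only [T.apply_inv_elt hz, T.apply_inv_elt hz', map_intCast, ← Int.cast_mul] at h'
  rw [← Int.cast_sum, T.sum_inv (fun _ v => v * v) hz] at h'
  norm_num at h'

open Classical in
/-- The involutions commuting with an element. -/
noncomputable def invC (t : G) : Finset G :=
  Finset.univ.filter fun a => orderOf a = 2 ∧ a * t = t * a

omit T in
theorem mem_invC {t a : G} : a ∈ invC t ↔ orderOf a = 2 ∧ a * t = t * a := by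
  simp [invC]

theorem card_invC (hG : IsM23 G) {t : G} (ht : orderOf t = 2) : (invC t).card = 99 := by
  classical
  have ht2 : t * t = 1 := by rw [← pow_two]; exact ht ▸ pow_orderOf_eq_one t
  have hord : ∀ {a : G}, orderOf a = 2 ↔ a * a = 1 ∧ a ≠ 1 := fun {a} => by
    rw [← pow_two, orderOf_eq_prime_iff]
  have hcls : ∀ a : G, a ∈ classFinset t ↔ orderOf a = 2 := fun a => by
    rw [mem_classFinset]
    refine ⟨fun h => ?_, fun h => T.inv_conj ht h⟩
    obtain ⟨w, rfl⟩ := isConj_iff.1 h
    rw [show orderOf (w * t * w⁻¹) = orderOf t from (MulAut.conj w).orderOf_eq t, ht]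
  have hpairs : ((classFinset t ×ˢ classFinset t).filter fun p => p.1 * p.2 = t).card =
      ((invC t).erase t).card := by
    refine Finset.card_nbij' (fun p => p.1) (fun a => (a, a * t)) ?_ ?_ ?_ ?_
    · rintro ⟨a, b⟩ h
      simp only [Finset.coe_filter, Finset.mem_product, Set.mem_ofPred_eq, hcls] at h
      obtain ⟨⟨ha, hb⟩, hab⟩ := h
      obtain ⟨ha2, ha1⟩ := hord.1 ha
      obtain ⟨hb2, hb1⟩ := hord.1 hb
      have hb' : b = a * t := by rw [← hab, ← mul_assoc, ha2, one_mul]
      simp only [Finset.mem_coe, Finset.mem_erase, mem_invC]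
      refine ⟨fun e => hb1 (by rw [hb', e, ht2]), ha, ?_⟩
      rw [hb'] at hb2
      calc a * t = (a * t)⁻¹ := eq_inv_of_mul_eq_one_left hb2
        _ = t * a := by
          rw [mul_inv_rev, inv_eq_of_mul_eq_one_right ht2, inv_eq_of_mul_eq_one_right ha2]
    · intro a h
      simp only [Finset.mem_coe, Finset.mem_erase, mem_invC] at h
      obtain ⟨hat, ha, hc⟩ := h
      obtain ⟨ha2, ha1⟩ := hord.1 ha
      simp only [Finset.coe_filter, Finset.mem_product, Set.mem_ofPred_eq, hcls]
      refine ⟨⟨ha, hord.2 ⟨?_, fun e => hat ?_⟩⟩, ?_⟩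
      · rw [mul_assoc, ← mul_assoc t, ← hc, mul_assoc a t t, ht2, mul_one, ha2]
      · rw [mul_eq_one_iff_eq_inv.1 e, inv_eq_of_mul_eq_one_right ht2]
      · rw [← mul_assoc, ha2, one_mul]
    · rintro ⟨a, b⟩ h
      simp only [Finset.coe_filter, Finset.mem_product, Set.mem_ofPred_eq, hcls] at h
      obtain ⟨⟨ha, -⟩, hab⟩ := h
      simp only [Prod.mk.injEq, true_and]
      rw [← hab, ← mul_assoc, (hord.1 ha).1, one_mul]
    · intro a _; rfl
  have h := card_class_product t t t
  rw [hpairs, card_classFinset] at h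
  have hidx : ((Subgroup.centralizer ({t} : Set G)).index : ℂ) = 3795 := by
    have h' := (Subgroup.centralizer ({t} : Set G)).card_mul_index
    rw [T.card_centralizer ht, card_G hG] at h'
    have : (Subgroup.centralizer ({t} : Set G)).index = 3795 := by rw [ord] at h'; omega
    exact_mod_cast this
  simp only [T.apply_inv_elt ht, MEleven.apply_one, map_intCast] at h
  rw [hidx, T.sum_inv (fun d v => (v : ℂ) * (v : ℂ) * (v : ℂ) / (d : ℂ)) ht, card_G hG, ord] at h
  norm_num at h
  have hn : ((invC t).erase t).card = 98 := by exact_mod_cast h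
  rw [Finset.card_erase_of_mem (mem_invC.2 ⟨ht, rfl⟩)] at hn
  omega

end Tbl

end Cfsg.Lib.MTwentyThree
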