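import Cfsg.Agent.Lib.MTwentyThree.Eleven

/-!
# The principal block at 23 split by divisibility by 11

The members of degree prime to 11 occur in the block at 11; the others form one of the lists
`cfgs23 F`, `F` the family at 11.
-/

set_option autoImplicit false
set_option linter.style.haveILetI false
set_option linter.unusedSectionVars false

namespace Cfsg.Lib.MTwentyThree

open Cfsg Cfsg.Lib
open Cfsg.Lib.MTwentyTwo (Slot cnt valsOf sqSum deg intVal cast_intVal not_dvd_orderOf single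
  msums msums_complete exists_perm_map)

universe u

variable {G : Type u} [Group G] [Fintype G] [Fact (Nat.Prime 23)] [Fact (Nat.Prime 11)]
variable (hG : IsM23 G)
include hG

theorem mem_B_eleven {DA : Dat G 11} {χ : IrrCharacter G} (h : deg χ % 11 ≠ 0) : χ ∈ Lst.B DA :=
  DA.mem_B_of_not_dvd (eleven_data hG DA).2 fun e => h (Nat.mod_eq_zero_of_dvd e)

theorem not_mod_eleven {DA : Dat G 11} {χ : IrrCharacter G} (h : χ ∈ Lst.B DA) : deg χ % 11 ≠ 0 :=
  fun e => DA.not_dvd_deg_B h (Nat.dvd_of_mod_eq_zero e)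

theorem mem_B_iff_eleven {DA : Dat G 11} {χ : IrrCharacter G} : χ ∈ Lst.B DA ↔ deg χ % 11 ≠ 0 :=
  ⟨not_mod_eleven hG, mem_B_eleven hG⟩

theorem mem_B_iff_twentyThree {D : Dat G 23} {χ : IrrCharacter G} :
    χ ∈ Lst.B D ↔ deg χ % 23 ≠ 0 :=
  ⟨fun h e => D.not_dvd_deg_B h (Nat.dvd_of_mod_eq_zero e),
    fun h => D.mem_B_of_not_dvd (D.data_twentyThree hG).2 fun e => h (Nat.mod_eq_zero_of_dvd e)⟩

theorem X_data {D : Dat G 23} {χ : IrrCharacter G} (h : χ ∈ D.S.X) :
    (deg χ % 23 = 1 ∧ D.S.σ χ = 1) ∨ (deg χ % 23 = 22 ∧ D.S.σ χ = -1) := by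
  have h1 := D.S.cong χ h
  change D.S.σ χ * (deg χ : ℤ) % _ = _ % _ at h1
  rcases D.S.sign χ (D.S.mem_Z.2 (Or.inr h)) with e | e <;> rw [e] at h1 ⊢ <;> omega

theorem θ_data {D : Dat G 23} :
    (deg D.S.θ % 23 = 12 ∧ D.S.σ D.S.θ = 1) ∨ (deg D.S.θ % 23 = 11 ∧ D.S.σ D.S.θ = -1) := by
  have h1 := D.S.congθ
  have he := (D.data_twentyThree hG).1
  change D.S.σ D.S.θ * (deg D.S.θ : ℤ) % _ = _ % _ at h1
  rcases D.sign_θ with e | e <;> rw [e] at h1 ⊢ <;> omega

theorem mult_θ_twentyThree {D : Dat G 23} : D.mult D.S.θ = 2 := by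
  rw [D.mult_θ, (D.data_twentyThree hG).1]

theorem mult_w23 {D : Dat G 23} {χ : IrrCharacter G} (h : χ ∈ D.S.Z) :
    (D.mult χ : ℤ) * w23 (deg χ) = 2 * D.S.σ χ := by
  rcases D.S.mem_Z.1 h with rfl | h
  · rw [mult_θ_twentyThree hG]
    rcases θ_data hG (D := D) with ⟨e, s⟩ | ⟨e, s⟩ <;> simp [w23, e, s]
  · rw [D.mult_of_mem_X h]
    rcases X_data hG h with ⟨e, s⟩ | ⟨e, s⟩ <;> simp [w23, e, s]

theorem card_Y_twentyThree {D : Dat G 23} : D.S.Y.card = 2 := by
  have h := D.S.card_Y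
  have he := (D.data_twentyThree hG).1
  have h2 := congrArg ((23 - 1) / ·) he
  exact h.trans h2

theorem w23_eq_zero {χ : IrrCharacter G} (h : deg χ % 23 = 0) : w23 (deg χ) = 0 := by
  have _ := hG
  simp [w23, h]

/-- A sum weighted by the doubled signs over the block. -/
theorem sum_w23 (D : Dat G 23) (f : IrrCharacter G → ℤ) (hf : ∀ θ' ∈ D.S.Y, f θ' = f D.S.θ) :
    ∑ χ ∈ Lst.B D, w23 (deg χ) * f χ = 2 * ∑ χ ∈ D.S.Z, D.S.σ χ * f χ := by
  classical
  rw [Lst.B, Finset.sum_union D.S.disj, Finset.sum_congr (rfl : D.S.Y = D.S.Y)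
    fun θ' h => by rw [D.deg_Y h, hf θ' h], Finset.sum_const, card_Y_twentyThree hG,
    D.sum_Z, mul_add, Finset.mul_sum]
  rw [add_comm, nsmul_eq_mul]
  congr 1
  · have h := mult_w23 hG (D := D) (D.S.mem_Z.2 (Or.inl rfl))
    rw [mult_θ_twentyThree hG] at h
    rw [← mul_assoc, ← mul_assoc]
    exact congrArg (· * _) h
  · refine Finset.sum_congr rfl fun χ h => ?_
    have h' := mult_w23 hG (D := D) (D.S.mem_Z.2 (Or.inr h))
    rw [D.mult_of_mem_X h, Nat.cast_one, one_mul] at h'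
    rw [h', mul_assoc]

omit hG

/-- A listing of the members of degree divisible by 11. -/
structure QLst (D : Dat G 23) where
  /-- the list -/
  L : List (IrrCharacter G)
  nodup : L.Nodup
  mem : ∀ χ, χ ∈ L ↔ χ ∈ D.S.Z ∧ deg χ % 11 = 0

namespace QLst

variable {D : Dat G 23} (q : QLst D)

/-- The slot of a member, with doubled sign. -/
noncomputable def slot (D : Dat G 23) (χ : IrrCharacter G) : Slot := ⟨2 * D.S.σ χ, deg χ, D.mult χ⟩

/-- The slots. -/
noncomputable def slots : List Slot := q.L.map (slot D)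

/-- The values. -/
noncomputable def vals (z : G) : List ℤ := q.L.map (intVal z)

/-- The characters of the block of degree divisible by 11. -/
noncomputable def Q (D : Dat G 23) : Finset (IrrCharacter G) :=
  (Lst.B D).filter fun χ => deg χ % 11 = 0

include q in
theorem sum_Q {M : Type*} [AddCommMonoid M] (f : IrrCharacter G → M)
    (hf : ∀ θ' ∈ D.S.Y, f θ' = f D.S.θ) :
    ∑ χ ∈ Q D, f χ = (q.L.map fun χ => D.mult χ • f χ).sum := by
  classical
  rw [Q, Finset.sum_filter, Lst.B, Finset.sum_union D.S.disj,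
    Finset.sum_congr (rfl : D.S.Y = D.S.Y) fun θ' h => by rw [D.deg_Y h, hf θ' h],
    Finset.sum_const, D.S.card_Y, ← List.sum_toFinset _ q.nodup,
    show q.L.toFinset = D.S.Z.filter (fun χ => deg χ % 11 = 0) by
      ext χ; rw [List.mem_toFinset, q.mem, Finset.mem_filter],
    Finset.sum_filter, D.sum_Z, D.mult_θ, add_comm]
  congr 1
  · split_ifs <;> simp
  · exact Finset.sum_congr rfl fun χ h => by rw [D.mult_of_mem_X h, one_smul]

theorem intVal_rep {χ : IrrCharacter G} (h : χ ∈ Q D) : ∃ χ' ∈ q.L, deg χ' = deg χ ∧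
    ∀ {z : G}, z ^ 2 = 1 → ¬ 23 ∣ orderOf z → intVal z χ' = intVal z χ := by
  obtain ⟨hB, h11⟩ := Finset.mem_filter.1 h
  rcases Lst.mem_B.1 hB with h | h
  · exact ⟨χ, (q.mem χ).2 ⟨D.S.mem_Z.2 (Or.inr h), h11⟩, rfl, fun _ _ => rfl⟩
  · exact ⟨D.S.θ, (q.mem _).2 ⟨D.S.mem_Z.2 (Or.inl rfl), D.deg_Y h ▸ h11⟩, (D.deg_Y h).symm,
      fun hz hzp => (Lst.intVal_Y h hz hzp).symm⟩

theorem cnt_slots (d : ℕ) : cnt q.slots d = ((Q D).filter fun χ => deg χ = d).card := by
  rw [Finset.card_filter, q.sum_Q (fun χ => if deg χ = d then 1 else 0)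
    (fun θ' h => by simp [D.deg_Y h]), slots]
  generalize q.L = L
  induction L with
  | nil => rfl
  | cons a L ih =>
    simp only [List.map_cons, cnt_cons, List.sum_cons, ih, slot, smul_eq_mul]
    split_ifs <;> simp

theorem sqSum_slots : sqSum q.slots = ∑ χ ∈ Q D, deg χ ^ 2 := by
  rw [q.sum_Q (fun χ => deg χ ^ 2) (fun θ' h => by rw [D.deg_Y h]), slots]
  generalize q.L = L
  induction L with
  | nil => rfl
  | cons a L ih => simp only [List.map_cons, sqSum_cons, List.sum_cons, ih, slot, smul_eq_mul]; ring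

theorem slot_mult {x : Slot} (h : x ∈ q.slots) : 1 ≤ x.m := by
  obtain ⟨χ, -, rfl⟩ := List.mem_map.1 h
  exact Lst.one_le_mult χ

variable {z : G} (hz : z ^ 2 = 1) (hzp : ¬ 23 ∣ orderOf z)
include hz hzp

theorem wFun_slots (f : ℕ → ℤ → ℤ) :
    wFun f q.slots (q.vals z) = ∑ χ ∈ Q D, f (deg χ) (intVal z χ) := by
  rw [q.sum_Q (fun χ => f (deg χ) (intVal z χ))
    (fun θ' h => by rw [D.deg_Y h, Lst.intVal_Y h hz hzp]), slots, vals]
  generalize q.L = L
  induction L with
  | nil => rfl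
  | cons a L ih => simp only [List.map_cons, wFun, List.sum_cons, ih, slot, nsmul_eq_mul]

theorem addC_slots (cand : Slot → List ℤ) :
    addC (q.slots.map fun x => ⟨x.s, x.d, x.m, cand x, true⟩) (q.vals z) =
      ∑ χ ∈ Q D, intVal z χ * intVal z χ := by
  rw [q.sum_Q (fun χ => intVal z χ * intVal z χ) (fun θ' h => by rw [Lst.intVal_Y h hz hzp]),
    slots, vals]
  generalize q.L = L
  induction L with
  | nil => rfl
  | cons a L ih =>
    simp only [List.map_cons, addC, List.sum_cons, ih, slot, nsmul_eq_mul, if_true]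
    ring

theorem mem_valsOf_slots {χ : IrrCharacter G} (h : χ ∈ Q D) :
    intVal z χ ∈ valsOf q.slots (q.vals z) (deg χ) := by
  obtain ⟨χ', hL, hd, hv⟩ := q.intVal_rep h
  rw [← hd, ← hv hz hzp]
  refine MTwentyTwo.mem_valsOf (x := slot D χ') ?_
  rw [slots, vals, List.zip_map']
  exact List.mem_map.2 ⟨χ', hL, rfl⟩

include hG in
theorem linC_slots (cand : Slot → List ℤ) :
    linC (q.slots.map fun x => ⟨x.s, x.d, x.m, cand x, true⟩) (q.vals z) =
      ∑ χ ∈ Q D, w23 (deg χ) * intVal z χ := by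
  rw [q.sum_Q (fun χ => w23 (deg χ) * intVal z χ)
    (fun θ' h => by rw [D.deg_Y h, Lst.intVal_Y h hz hzp])]
  have hw : ∀ χ ∈ q.L, (D.mult χ : ℤ) * w23 (deg χ) = 2 * D.S.σ χ :=
    fun χ h => mult_w23 hG ((q.mem χ).1 h).1
  rw [slots, vals]
  generalize q.L = L at hw
  induction L with
  | nil => rfl
  | cons a L ih =>
    simp only [List.map_cons, linC, List.sum_cons, slot, nsmul_eq_mul,
      ih fun χ h => hw χ (List.mem_cons_of_mem _ h), ← hw a List.mem_cons_self]
    ring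

include hG in
theorem qC_slots (cand : Slot → List ℤ) :
    qC (q.slots.map fun x => ⟨x.s, x.d, x.m, cand x, true⟩) (q.vals z) =
      ∑ χ ∈ Q D, w23 (deg χ) * intVal z χ * intVal z χ * (ord / deg χ : ℕ) := by
  rw [q.sum_Q (fun χ => w23 (deg χ) * intVal z χ * intVal z χ * (ord / deg χ : ℕ))
    (fun θ' h => by rw [D.deg_Y h, Lst.intVal_Y h hz hzp])]
  have hw : ∀ χ ∈ q.L, (D.mult χ : ℤ) * w23 (deg χ) = 2 * D.S.σ χ :=
    fun χ h => mult_w23 hG ((q.mem χ).1 h).1
  rw [slots, vals]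
  generalize q.L = L at hw
  induction L with
  | nil => rfl
  | cons a L ih =>
    simp only [List.map_cons, qC, List.sum_cons, slot, nsmul_eq_mul,
      ih fun χ h => hw χ (List.mem_cons_of_mem _ h), ← hw a List.mem_cons_self]
    ring

end QLst

include hG

/-- The members of degree divisible by 11 form one of the lists of configurations. -/
theorem exists_qlst {DA : Dat G 11} (lA : Lst DA) (D : Dat G 23) :
    ∃ q : QLst D, q.slots ∈ cfgs23 lA.slots := by
  classical
  have he := (D.data_twentyThree hG).1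
  set T : Finset (IrrCharacter G) := D.S.X.filter (fun χ => deg χ % 11 = 0) with hT
  set T' : Finset (IrrCharacter G) := D.S.X.filter (fun χ => deg χ % 11 ≠ 0) with hT'
  have hcard : T.card + T'.card = 11 := by
    rw [hT, hT']
    exact (Finset.card_filter_add_card_filter_not (s := D.S.X) (fun χ => deg χ % 11 = 0)).trans
      (D.S.card_X.trans he)
  have hY : ∀ θ' ∈ D.S.Y, deg θ' % 23 = 11 ∨ deg θ' % 23 = 12 := fun θ' h => by
    rw [D.deg_Y h]
    rcases θ_data hG (D := D) with ⟨e, -⟩ | ⟨e, -⟩ <;> omega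
  have hXres : ∀ χ ∈ D.S.X, deg χ % 23 = 1 ∨ deg χ % 23 = 22 := fun χ h => by
    rcases X_data hG h with ⟨e, -⟩ | ⟨e, -⟩ <;> omega
  have h1 : countRes 1 22 lA.slots = T'.card := by
    rw [lA.countRes_slots]
    congr 1
    ext χ
    rw [Finset.mem_filter, hT', Finset.mem_filter, mem_B_iff_eleven hG]
    constructor
    · rintro ⟨hA, h23⟩
      have hB : χ ∈ Lst.B D := (mem_B_iff_twentyThree hG).2 (by omega)
      rcases Lst.mem_B.1 hB with h | h
      · exact ⟨h, hA⟩
      · have := hY χ h; omega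
    · rintro ⟨h, hA⟩
      exact ⟨hA, hXres χ h⟩
  have h2 : countRes 11 12 lA.slots = (D.S.Y.filter fun χ => deg χ % 11 ≠ 0).card := by
    rw [lA.countRes_slots]
    congr 1
    ext χ
    rw [Finset.mem_filter, Finset.mem_filter, mem_B_iff_eleven hG]
    constructor
    · rintro ⟨hA, h23⟩
      have hB : χ ∈ Lst.B D := (mem_B_iff_twentyThree hG).2 (by omega)
      rcases Lst.mem_B.1 hB with h | h
      · have := hXres χ h; omega
      · exact ⟨h, hA⟩
    · rintro ⟨h, hA⟩
      exact ⟨hA, hY χ h⟩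
  set θin : ℤ := if deg D.S.θ % 11 ≠ 0 then D.S.σ D.S.θ * (deg D.S.θ : ℤ) else 0 with hθin
  have hb : deg23 lA.slots = 2 * (∑ χ ∈ T', D.S.σ χ * (deg χ : ℤ) + θin) := by
    rw [lA.deg23_slots]
    have e1 : ∑ χ ∈ Lst.B DA, w23 (deg χ) * (deg χ : ℤ) =
        ∑ χ ∈ Lst.B D, w23 (deg χ) * (if deg χ % 11 ≠ 0 then (deg χ : ℤ) else 0) := by
      rw [Finset.sum_congr (rfl : Lst.B D = Lst.B D) fun χ _ =>
        show w23 (deg χ) * (if deg χ % 11 ≠ 0 then (deg χ : ℤ) else 0) =
          if deg χ % 11 ≠ 0 then w23 (deg χ) * (deg χ : ℤ) else 0 by split_ifs <;> simp,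
        ← Finset.sum_filter]
      symm
      refine Finset.sum_subset_zero_on_sdiff (fun χ h => ?_) (fun χ h => ?_) fun _ _ => rfl
      · exact mem_B_eleven hG (Finset.mem_filter.1 h).2
      · rw [Finset.mem_sdiff, Finset.mem_filter] at h
        have h23 : deg χ % 23 = 0 := by
          by_contra e
          exact h.2 ⟨(mem_B_iff_twentyThree hG).2 e, not_mod_eleven hG h.1⟩
        rw [w23_eq_zero hG h23, zero_mul]
    rw [e1, sum_w23 hG D _ fun θ' h => by rw [D.deg_Y h], D.sum_Z, hθin, hT', Finset.sum_filter,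
      add_comm]
    congr 2
    · exact Finset.sum_congr rfl fun χ _ => by split_ifs <;> simp
    · split_ifs <;> simp
  have hrel : ∑ χ ∈ T', D.S.σ χ * (deg χ : ℤ) + θin + (∑ χ ∈ T, D.S.σ χ * (deg χ : ℤ) +
      if deg D.S.θ % 11 ≠ 0 then 0 else D.S.σ D.S.θ * (deg D.S.θ : ℤ)) = 0 := by
    have h : ∑ χ ∈ D.S.Z, D.S.σ χ * (deg χ : ℤ) = 0 := D.S.rel_deg
    rw [D.sum_Z, ← Finset.sum_filter_add_sum_filter_not D.S.X (fun χ => deg χ % 11 = 0)] at h
    rw [hT, hT', hθin]
    simp only [ne_eq] at h ⊢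
    split_ifs <;> linarith
  have hsq : sqSum lA.slots + ∑ χ ∈ T, deg χ ^ 2 +
      (if deg D.S.θ % 11 ≠ 0 then 0 else 2 * (deg D.S.θ * deg D.S.θ)) ≤ ord := by
    have hYs : ∑ χ ∈ D.S.Y.filter (fun χ => deg χ % 11 = 0), deg χ ^ 2 =
        if deg D.S.θ % 11 ≠ 0 then 0 else 2 * (deg D.S.θ * deg D.S.θ) := by
      rw [Finset.sum_filter, Finset.sum_congr (rfl : D.S.Y = D.S.Y) fun θ' h => by rw [D.deg_Y h],
        Finset.sum_const, card_Y_twentyThree hG, smul_eq_mul]
      split_ifs <;> simp_all [pow_two]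
    rw [lA.sqSum_slots, ← hYs, hT, add_assoc,
      ← Finset.sum_union (Finset.disjoint_filter_filter D.S.disj), ← Finset.sum_union, ← sum_sq_deg hG]
    · exact Finset.sum_le_sum_of_subset (Finset.subset_univ _)
    · rw [Finset.disjoint_left]
      intro χ h h'
      have := not_mod_eleven hG h
      rcases Finset.mem_union.1 h' with h' | h' <;> exact this (Finset.mem_filter.1 h').2
  let g : IrrCharacter G → ℤ × ℕ := fun χ => (D.S.σ χ, deg χ)
  have hlist : ∀ (need : ℤ) (qb : ℕ), need + ∑ χ ∈ T, D.S.σ χ * (deg χ : ℤ) = 0 →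
      ∑ χ ∈ T, deg χ ^ 2 ≤ qb → ∃ l : List (IrrCharacter G), l.Perm T.toList ∧
        l.map (single ∘ g) ∈ msums xList T.card need qb := by
    intro need qb hneed hqb
    have hX : xList.Pairwise (fun a b => b.2 ≤ a.2) := by
      rw [xList, List.pairwise_map]
      exact divList_sorted.filter _
    have hsg : ∀ x ∈ xList, x.1 = 1 ∨ x.1 = -1 := by
      intro x hx
      obtain ⟨d, -, rfl⟩ := List.mem_map.1 hx
      split_ifs <;> simp
    have hs : ∀ x ∈ T.toList.map g, x ∈ xList := by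
      intro x hx
      obtain ⟨χ, hχ, rfl⟩ := List.mem_map.1 hx
      rw [Finset.mem_toList, hT, Finset.mem_filter] at hχ
      refine List.mem_map.2 ⟨deg χ, List.mem_filter.2 ⟨mem_divList (deg_dvd_ord hG χ),
        decide_eq_true ⟨hχ.2, hXres χ hχ.1, ?_⟩⟩, ?_⟩
      · have h1 : deg χ ^ 2 + deg (Small.one' G) ^ 2 ≤ ord := by
          rw [← sum_sq_deg hG, ← Finset.sum_pair (f := fun ψ => deg ψ ^ 2)
            (show χ ≠ Small.one' G from fun e => by
              rw [e, show deg (Small.one' G) = 1 from Small.charDegree_one'] at hχ; omega)]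
          exact Finset.sum_le_sum_of_subset (Finset.subset_univ _)
        rw [show deg (Small.one' G) = 1 from Small.charDegree_one', pow_two] at h1
        omega
      · rcases X_data hG hχ.1 with ⟨e, s⟩ | ⟨e, s⟩ <;> simp [g, e, s]
    obtain ⟨o, ho, hperm⟩ := msums_complete xList T.card need qb (T.toList.map g) hX hsg hs (by simp)
      (by rw [List.map_map, Finset.sum_map_toList T]; exact hneed)
      (by
        rw [List.map_map, Finset.sum_map_toList T]
        exact le_trans (le_of_eq (Finset.sum_congr rfl fun χ _ => by simp [g, pow_two])) hqb)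
    rw [List.map_map] at hperm
    obtain ⟨l, hl, hl'⟩ := exists_perm_map hperm T.toList rfl
    exact ⟨l, hl, hl' ▸ ho⟩
  have hr : 11 - countRes 1 22 lA.slots = T.card := by omega
  have hle : countRes 1 22 lA.slots ≤ 11 := by omega
  have hb2 : deg23 lA.slots / 2 = ∑ χ ∈ T', D.S.σ χ * (deg χ : ℤ) + θin := by omega
  have hTmem : ∀ χ, χ ∈ T ↔ χ ∈ D.S.X ∧ deg χ % 11 = 0 := fun χ => by rw [hT, Finset.mem_filter]
  simp only [cfgs23, if_pos hle, MTwentyTwo.withNat_eq, MTwentyTwo.withInt_eq, hr, hb2]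
  by_cases hθ : deg D.S.θ % 11 = 0
  · have hne : ¬ deg D.S.θ % 11 ≠ 0 := not_not.2 hθ
    have hc0 : countRes 11 12 lA.slots = 0 := by
      rw [h2, Finset.card_eq_zero, Finset.filter_eq_empty_iff]
      intro θ' h
      rw [D.deg_Y h]
      exact hne
    rw [if_pos hc0]
    rw [if_neg hne] at hrel hsq
    obtain ⟨l, hl, hlm⟩ := hlist (∑ χ ∈ T', D.S.σ χ * (deg χ : ℤ) + θin +
      D.S.σ D.S.θ * (deg D.S.θ : ℤ)) (ord - sqSum lA.slots - 2 * deg D.S.θ * deg D.S.θ)
      (by linarith) (by rw [mul_assoc]; omega)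
    refine ⟨⟨l ++ [D.S.θ], ?_, fun χ => ?_⟩, List.mem_flatMap.2 ⟨(D.S.σ D.S.θ, deg D.S.θ), ?_,
      List.mem_map.2 ⟨_, hlm, ?_⟩⟩⟩
    · simp only [List.nodup_append, List.nodup_singleton, true_and, List.mem_singleton,
        hl.nodup_iff.2 (Finset.nodup_toList _)]
      intro a ha b hb e
      rw [hl.mem_iff, Finset.mem_toList, hTmem, e, hb] at ha
      exact D.S.θ_notMem ha.1
    · rw [List.mem_append, List.mem_singleton, hl.mem_iff, Finset.mem_toList, hTmem, D.S.mem_Z]
      constructor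
      · rintro (⟨h, h'⟩ | rfl)
        · exact ⟨Or.inr h, h'⟩
        · exact ⟨Or.inl rfl, hθ⟩
      · rintro ⟨rfl | h, h'⟩
        · exact Or.inr rfl
        · exact Or.inl ⟨h, h'⟩
    · refine List.mem_map.2 ⟨deg D.S.θ, List.mem_filter.2 ⟨mem_divList (deg_dvd_ord hG _),
        decide_eq_true ⟨hθ, hY _ D.S.θ_mem, ?_⟩⟩, ?_⟩
      · have h1 : 1 ≤ sqSum lA.slots := by
          rw [lA.sqSum_slots]
          refine le_trans ?_ (Finset.single_le_sum (f := fun χ => deg χ ^ 2)
            (fun _ _ => Nat.zero_le _) (mem_B_eleven hG (χ := Small.one' G) (by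
              rw [show deg (Small.one' G) = 1 from Small.charDegree_one']; norm_num)))
          rw [show deg (Small.one' G) = 1 from Small.charDegree_one']
          norm_num
        rw [mul_assoc]
        omega
      · rcases θ_data hG (D := D) with ⟨e, s⟩ | ⟨e, s⟩ <;> simp [e, s]
    · show List.map _ (l.map (single ∘ g)) ++ _ = List.map (QLst.slot D) (l ++ [D.S.θ])
      rw [List.map_append, List.map_map]
      congr 1
      · refine List.map_congr_left fun χ h => ?_
        have h' : χ ∈ D.S.X := ((hTmem χ).1 (Finset.mem_toList.1 (hl.mem_iff.1 h))).1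
        simp [QLst.slot, g, single, D.mult_of_mem_X h']
      · simp [QLst.slot, mult_θ_twentyThree hG]
  · have hne : deg D.S.θ % 11 ≠ 0 := hθ
    have hc0 : countRes 11 12 lA.slots ≠ 0 := by
      rw [h2, Finset.card_ne_zero]
      exact ⟨D.S.θ, Finset.mem_filter.2 ⟨D.S.θ_mem, hne⟩⟩
    rw [if_neg hc0]
    rw [if_pos hne] at hrel hsq
    obtain ⟨l, hl, hlm⟩ := hlist (∑ χ ∈ T', D.S.σ χ * (deg χ : ℤ) + θin)
      (ord - sqSum lA.slots) (by linarith) (by omega)
    refine ⟨⟨l, hl.nodup_iff.2 (Finset.nodup_toList _), fun χ => ?_⟩, List.mem_map.2 ⟨_, hlm, ?_⟩⟩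
    · rw [hl.mem_iff, Finset.mem_toList, hTmem, D.S.mem_Z]
      constructor
      · exact fun ⟨h, h'⟩ => ⟨Or.inr h, h'⟩
      · rintro ⟨rfl | h, h'⟩
        · exact absurd h' hne
        · exact ⟨h, h'⟩
    · show List.map _ (l.map (single ∘ g)) = List.map (QLst.slot D) l
      rw [List.map_map]
      refine List.map_congr_left fun χ h => ?_
      have h' : χ ∈ D.S.X := ((hTmem χ).1 (Finset.mem_toList.1 (hl.mem_iff.1 h))).1
      simp [QLst.slot, g, single, D.mult_of_mem_X h']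

end Cfsg.Lib.MTwentyThree
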