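import Cfsg.Agent.Lib.Fusion.Parts
import Cfsg.Agent.Lib.Small.Gap.Orders
import Cfsg.Agent.Lib.Small.Order168Classes
import Cfsg.Agent.Lib.Small.SylowCount

/-!
# A group with the numerical shape of the centralizer of an involution of M23

A group of order 2688 with a central involution, with the 7-local data and the number of involutions
of that centralizer, is an extension of an elementary abelian group of order 16 by a simple group of
order 168, and an involution outside centralizes four elements of the elementary group.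
-/

set_option autoImplicit false
set_option linter.style.haveILetI false
set_option linter.unusedSectionVars false

namespace Cfsg.Lib.MTwentyThree

open Cfsg Cfsg.Lib

universe u

variable {H : Type u} [Group H] [Finite H]

/-- The hypotheses on the group. -/
structure CShape (t x : H) : Prop where
  card : Nat.card H = 2688
  ht : orderOf t = 2
  central : ∀ h : H, h * t = t * h
  hx : orderOf x = 7
  cx : Nat.card (Subgroup.centralizer ({x} : Set H)) = 14
  nx : Nat.card (Subgroup.normalizer ((Subgroup.zpowers x : Subgroup H) : Set H)) = 42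
  inv : Nat.card {a : H // orderOf a = 2} = 99

/-- The fixed points of a permutation of prime order of a finite set. -/
theorem card_fixed_modEq_finset {α : Type*} [DecidableEq α] {p : ℕ} [Fact p.Prime] (Ω : Finset α)
    (f : α → α) (hmem : ∀ a ∈ Ω, f a ∈ Ω) (hp : ∀ a ∈ Ω, f^[p] a = a) :
    (Ω.filter fun a => f a = a).card ≡ Ω.card [MOD p] := by
  classical
  obtain ⟨m, hm⟩ : ∃ m, p = m + 1 := ⟨p - 1, by have := (Fact.out : p.Prime).pos; omega⟩
  let g : Ω → Ω := fun a => ⟨f a, hmem a a.2⟩
  have hg : ∀ (k : ℕ) (a : Ω), ((g^[k] a : Ω) : α) = f^[k] a := by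
    intro k
    induction k with
    | zero => intro a; rfl
    | succ k ih =>
      intro a
      rw [Function.iterate_succ_apply', Function.iterate_succ_apply', ← ih a]
  have hinv : ∀ a : Ω, g^[m] (g a) = a := fun a => Subtype.ext (by
    rw [← Function.iterate_succ_apply, hg, show m.succ = p from hm.symm]
    exact hp a a.2)
  let σ : Equiv.Perm Ω := Equiv.ofBijective g (Finite.injective_iff_bijective.1 fun a b h => by
    rw [← hinv a, ← hinv b, h])
  have hσ : σ ^ p ^ 1 = 1 := Equiv.ext fun a => Subtype.ext (by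
    rw [pow_one, Equiv.Perm.coe_pow, show (σ : Ω → Ω) = g from rfl, hg]
    exact hp a a.2)
  have h := Equiv.Perm.card_compl_support_modEq hσ
  rw [Fintype.card_coe] at h
  rw [show (σ.supportᶜ).card = (Ω.filter fun a => f a = a).card from
      Finset.card_bij (fun a _ => (a : α))
        (fun a ha => by
          rw [Finset.mem_compl, Equiv.Perm.mem_support, not_not] at ha
          exact Finset.mem_filter.2 ⟨a.2, congrArg Subtype.val ha⟩)
        (fun _ _ _ _ h => Subtype.ext h)
        (fun a ha => by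
          obtain ⟨h1, h2⟩ := Finset.mem_filter.1 ha
          refine ⟨⟨a, h1⟩, ?_, rfl⟩
          rw [Finset.mem_compl, Equiv.Perm.mem_support, not_not]
          exact Subtype.ext h2)] at h
  exact h

theorem conj_iterate {x : H} (k : ℕ) (r : H) :
    (fun r => x * r * x⁻¹)^[k] r = x ^ k * r * (x ^ k)⁻¹ := by
  induction k with
  | zero => simp
  | succ k ih => rw [Function.iterate_succ_apply', ih, pow_succ']; group

/-- The fixed points of an element of order 7 acting on a subgroup. -/
theorem card_fix_modEq [Fintype H] [DecidableEq H] {x : H} (hx : orderOf x = 7) (M : Subgroup H)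
    (hM : ∀ m ∈ M, x * m * x⁻¹ ∈ M) [DecidablePred (· ∈ M)] :
    (Finset.univ.filter fun m : H => m ∈ M ∧ x * m = m * x).card ≡ Nat.card M [MOD 7] := by
  classical
  haveI : Fact (Nat.Prime 7) := ⟨by norm_num⟩
  have h := card_fixed_modEq_finset (p := 7) (Finset.univ.filter fun m : H => m ∈ M)
    (fun r => x * r * x⁻¹)
    (fun a ha => Finset.mem_filter.2 ⟨Finset.mem_univ _, hM a (Finset.mem_filter.1 ha).2⟩)
    (fun a _ => by rw [conj_iterate, ← hx, pow_orderOf_eq_one]; simp)
  rw [Finset.filter_filter, ← Fintype.card_subtype (fun m : H => m ∈ M),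
    ← Nat.card_eq_fintype_card] at h
  convert h using 4 with m
  exact mul_inv_eq_iff_eq_mul.symm

namespace CShape

variable {t x : H} (S : CShape t x)
include S

theorem tt : t * t = 1 := by rw [← pow_two, ← S.ht, pow_orderOf_eq_one]

theorem t_ne : t ≠ 1 := fun e => by have := S.ht; rw [e, orderOf_one] at this; norm_num at this

theorem cx_eq : Subgroup.centralizer ({x} : Set H) = Subgroup.zpowers (x * t) := by
  have hc : Commute x t := S.central x
  refine (Subgroup.eq_of_le_of_card_ge (Subgroup.zpowers_le.2 (Subgroup.mem_centralizer_singleton_iff.2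
    ((Commute.refl x).mul_right hc).symm)) ?_).symm
  rw [S.cx, Nat.card_zpowers, hc.orderOf_mul_eq_mul_orderOf_of_coprime
    (by rw [S.hx, S.ht]; norm_num), S.hx, S.ht]

/-- The square roots of one commuting with `x`. -/
theorem two_sol {c : H} (hc : x * c = c * x) (h2 : c * c = 1) : c = 1 ∨ c = t := by
  have hmem : c ∈ Subgroup.zpowers (x * t) :=
    S.cx_eq ▸ Subgroup.mem_centralizer_singleton_iff.2 hc.symm
  obtain ⟨i, hi⟩ := Subgroup.mem_zpowers_iff.1 hmem
  have ho : orderOf (x * t) = 14 := by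
    rw [← Nat.card_zpowers, ← S.cx_eq, S.cx]
  have h7 : (x * t) ^ (7 : ℤ) = t := by
    rw [show (7 : ℤ) = ((7 : ℕ) : ℤ) from rfl, zpow_natCast, (show Commute x t from S.central x).mul_pow,
      show x ^ 7 = 1 by rw [← S.hx, pow_orderOf_eq_one], one_mul,
      show t ^ 7 = (t * t) ^ 3 * t by rw [← pow_two, ← pow_mul, ← pow_succ], S.tt, one_pow, one_mul]
  rw [← hi, ← zpow_add, ← orderOf_dvd_iff_zpow_eq_one, ho] at h2
  obtain ⟨j, hj⟩ := h2
  rw [← hi, show i = 7 * j by push_cast at hj; omega, zpow_mul, h7]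
  rcases Int.even_or_odd j with ⟨k, hk⟩ | ⟨k, hk⟩
  · left; rw [hk, ← two_mul, zpow_mul, zpow_two, S.tt, one_zpow]
  · right; rw [hk, zpow_add, zpow_mul, zpow_two, S.tt, one_zpow, one_mul, zpow_one]

theorem pow_sol {c : H} (hc : x * c = c * x) {k : ℕ} (h2 : c ^ (2 ^ k) = 1) : c = 1 ∨ c = t := by
  refine S.two_sol hc ?_
  have h14 : c ^ 14 = 1 := by
    have hmem : c ∈ Subgroup.centralizer ({x} : Set H) := Subgroup.mem_centralizer_singleton_iff.2 hc.symm
    rw [← orderOf_dvd_iff_pow_eq_one, ← S.cx]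
    exact Subgroup.orderOf_dvd_natCard _ hmem
  rw [← pow_two, ← orderOf_dvd_iff_pow_eq_one]
  refine (Nat.dvd_gcd (orderOf_dvd_of_pow_eq_one h14) (orderOf_dvd_of_pow_eq_one h2)).trans ?_
  rw [show (14 : ℕ) = 7 * 2 by norm_num,
    Nat.Coprime.gcd_mul_left_cancel 2 (Nat.Coprime.pow_right k (by norm_num : Nat.Coprime 7 2))]
  exact Nat.gcd_dvd_left _ _

/-- A normal subgroup of order prime to 7 containing `t` has order 2, 16 or 128. -/
theorem card_of_not_seven {M : Subgroup H} (hM : M.Normal) (ht : t ∈ M) (h7 : ¬ 7 ∣ Nat.card M) :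
    Nat.card M = 2 ∨ Nat.card M = 16 ∨ Nat.card M = 128 := by
  classical
  haveI := Fintype.ofFinite H
  have h := card_fix_modEq S.hx M fun m hm => hM.conj_mem m hm x
  have hdvd : Nat.card M ∣ 384 := by
    have h1 : Nat.card M ∣ 7 * 384 := by
      rw [show 7 * 384 = Nat.card H by rw [S.card]]; exact M.card_subgroup_dvd_card
    exact ((Nat.Prime.coprime_iff_not_dvd (by norm_num : Nat.Prime 7)).2 h7).symm.dvd_of_dvd_mul_left h1
  have hfix : (Finset.univ.filter fun m : H => m ∈ M ∧ x * m = m * x) = {1, t} := by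
    ext c
    simp only [Finset.mem_filter, Finset.mem_univ, true_and, Finset.mem_insert, Finset.mem_singleton]
    constructor
    · rintro ⟨hcM, hc⟩
      refine S.two_sol hc ?_
      have h14 : c ^ 14 = 1 := by
        have hmem : c ∈ Subgroup.centralizer ({x} : Set H) :=
          Subgroup.mem_centralizer_singleton_iff.2 hc.symm
        rw [← orderOf_dvd_iff_pow_eq_one, ← S.cx]
        exact Subgroup.orderOf_dvd_natCard _ hmem
      rw [← pow_two, ← orderOf_dvd_iff_pow_eq_one]
      have hd := (Nat.dvd_gcd (orderOf_dvd_of_pow_eq_one h14)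
        ((Subgroup.orderOf_dvd_natCard _ hcM).trans hdvd))
      exact hd.trans (by norm_num)
    · rintro (rfl | rfl)
      · exact ⟨M.one_mem, by simp⟩
      · exact ⟨ht, S.central x⟩
  rw [hfix, Finset.card_pair (Ne.symm S.t_ne)] at h
  exact (show ∀ d ∈ Nat.divisors 384, d % 7 = 2 → d = 2 ∨ d = 16 ∨ d = 128 by decide) _
    (Nat.mem_divisors.2 ⟨hdvd, by norm_num⟩) h.symm

theorem core_normal : (pCore 2 H).Normal := Subgroup.sSup_normal _ fun _ h => h.1

theorem t_mem_core : t ∈ pCore 2 H := by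
  haveI : (Subgroup.zpowers t).Normal := ⟨fun n hn g => by
    obtain ⟨i, rfl⟩ := Subgroup.mem_zpowers_iff.1 hn
    rw [((show Commute g t from S.central g).zpow_right i).eq, mul_inv_cancel_right]
    exact hn⟩
  exact Fusion.le_pCore inferInstance (IsPGroup.of_card (p := 2) (n := 1)
    (by rw [Nat.card_zpowers, S.ht, pow_one])) (Subgroup.mem_zpowers t)

theorem core_options : Nat.card (pCore 2 H) = 2 ∨ Nat.card (pCore 2 H) = 16 ∨ Nat.card (pCore 2 H) = 128 := by
  haveI : Fact (Nat.Prime 2) := ⟨Nat.prime_two⟩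
  refine S.card_of_not_seven S.core_normal S.t_mem_core fun h => ?_
  obtain ⟨k, hk⟩ := IsPGroup.iff_card.1 (Fusion.pCore_isPGroup (G := H) 2)
  rw [hk] at h
  have := (show Nat.Prime 7 by norm_num).dvd_of_dvd_pow h
  norm_num at this

theorem core_ne_128 : Nat.card (pCore 2 H) ≠ 128 := by
  classical
  intro h128
  haveI := Fintype.ofFinite H
  haveI : Fact (Nat.Prime 2) := ⟨Nat.prime_two⟩
  haveI := S.core_normal
  set R := pCore 2 H
  have hU : ∀ a : H, a * a = 1 → a ∈ R := by
    intro a ha
    have hp : IsPGroup 2 (Subgroup.zpowers a ⊔ R : Subgroup H) := by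
      refine IsPGroup.to_sup_of_normal_right ?_ (Fusion.pCore_isPGroup 2)
      have hd : orderOf a ∣ 2 ^ 1 := orderOf_dvd_of_pow_eq_one (by rw [pow_one, pow_two, ha])
      obtain ⟨i, -, hi⟩ := (Nat.dvd_prime_pow Nat.prime_two).1 hd
      exact IsPGroup.of_card (n := i) (by rw [Nat.card_zpowers, hi])
    obtain ⟨k, hk⟩ := IsPGroup.iff_card.1 hp
    have hd : 2 ^ k ∣ 2 ^ 7 * 21 := by
      rw [← hk, show 2 ^ 7 * 21 = Nat.card H by rw [S.card]; norm_num]
      exact Subgroup.card_subgroup_dvd_card _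
    have hk7 : 2 ^ k ∣ 2 ^ 7 :=
      (Nat.Coprime.pow_left k (by norm_num : Nat.Coprime 2 21)).dvd_of_dvd_mul_right hd
    have e : R = (Subgroup.zpowers a ⊔ R : Subgroup H) := Subgroup.eq_of_le_of_card_ge le_sup_right (by
      rw [hk, h128]; exact Nat.le_of_dvd (by norm_num) hk7)
    rw [e]
    exact Subgroup.mem_sup_left (Subgroup.mem_zpowers a)
  set U := Finset.univ.filter fun a : H => a * a = 1 with hUd
  have hUcard : U.card = 100 := by
    have e : U = insert 1 (Finset.univ.filter fun a : H => orderOf a = 2) := by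
      ext a
      simp only [hUd, Finset.mem_filter, Finset.mem_univ, true_and, Finset.mem_insert,
        orderOf_eq_prime_iff, pow_two]
      by_cases h1 : a = 1
      · simp [h1]
      · simp [h1]
    rw [e, Finset.card_insert_of_notMem (by simp), ← Fintype.card_subtype, ← Nat.card_eq_fintype_card,
      S.inv]
  have hRf : (Finset.univ.filter fun a : H => a ∈ R).card = 128 := by
    rw [← Fintype.card_subtype, ← Nat.card_eq_fintype_card]; exact h128
  have hcomm : ∀ a ∈ U, ∀ b ∈ U, a * b = b * a := by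
    intro a ha b hb
    have ha2 : a * a = 1 := (Finset.mem_filter.1 ha).2
    set D := R ⊓ Subgroup.centralizer ({a} : Set H)
    have hsub : U ∩ U.map (mulLeftEmbedding a) ⊆ Finset.univ.filter (· ∈ D) := by
      intro c hc
      obtain ⟨hc1, hc2⟩ := Finset.mem_inter.1 hc
      obtain ⟨d, hd, rfl⟩ := Finset.mem_map.1 hc2
      have h1 : a * d * (a * d) = 1 := (Finset.mem_filter.1 hc1).2
      have hd2 : d * d = 1 := (Finset.mem_filter.1 hd).2
      refine Finset.mem_filter.2 ⟨Finset.mem_univ _, hU _ h1, Subgroup.mem_centralizer_singleton_iff.2 ?_⟩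
      show a * d * a = a * (a * d)
      have : a * d = d * a := by
        calc a * d = (a * d)⁻¹ := eq_inv_of_mul_eq_one_left h1
          _ = d * a := by
            rw [mul_inv_rev, inv_eq_of_mul_eq_one_right hd2, inv_eq_of_mul_eq_one_right ha2]
      rw [mul_assoc, ← this]
    have hle : (U ∪ U.map (mulLeftEmbedding a)).card ≤ 128 := by
      rw [← hRf]
      refine Finset.card_le_card fun c hc => Finset.mem_filter.2 ⟨Finset.mem_univ _, ?_⟩
      rcases Finset.mem_union.1 hc with h | h
      · exact hU c (Finset.mem_filter.1 h).2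
      · obtain ⟨d, hd, rfl⟩ := Finset.mem_map.1 h
        exact R.mul_mem (hU a ha2) (hU d (Finset.mem_filter.1 hd).2)
    have h72 := Finset.card_union_add_card_inter U (U.map (mulLeftEmbedding a))
    rw [Finset.card_map, hUcard] at h72
    have hD : 72 ≤ Nat.card D := by
      rw [Nat.card_eq_fintype_card, Fintype.card_subtype]
      exact le_trans (by omega) (Finset.card_le_card hsub)
    have hdv : Nat.card D ∣ 128 := h128 ▸ Subgroup.card_dvd_of_le inf_le_left
    have hDR : D = R := Subgroup.eq_of_le_of_card_ge inf_le_left (by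
      rw [h128]
      have := (show ∀ d ∈ Nat.divisors 128, 72 ≤ d → 128 ≤ d by decide) _
        (Nat.mem_divisors.2 ⟨hdv, by norm_num⟩) hD
      exact this)
    have hbD : b ∈ D := by rw [hDR]; exact hU b (Finset.mem_filter.1 hb).2
    exact (Subgroup.mem_centralizer_singleton_iff.1 hbD.2).symm
  let V : Subgroup H :=
    { carrier := {a | a * a = 1}
      one_mem' := one_mul 1
      mul_mem' := fun {a b} (ha : a * a = 1) (hb : b * b = 1) => by
        show a * b * (a * b) = 1
        have hc := hcomm a (Finset.mem_filter.2 ⟨Finset.mem_univ _, ha⟩) b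
          (Finset.mem_filter.2 ⟨Finset.mem_univ _, hb⟩)
        rw [mul_assoc, ← mul_assoc b, ← hc, mul_assoc a b b, hb, mul_one, ha]
      inv_mem' := fun {a} (ha : a * a = 1) => by
        show a⁻¹ * a⁻¹ = 1
        rw [← mul_inv_rev, ha, inv_one] }
  have hV : Nat.card V = 100 := by
    rw [Nat.card_eq_fintype_card, Fintype.card_subtype, ← hUcard]
    exact congrArg Finset.card (by ext a; simp [hUd, V])
  have := Subgroup.card_dvd_of_le (show V ≤ R from fun a ha => hU a ha)
  rw [hV, h128] at this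
  norm_num at this

theorem core_small : Nat.card (pCore 2 H) ≤ 16 := by
  rcases S.core_options with h | h | h
  · omega
  · omega
  · exact absurd h S.core_ne_128

theorem normal_cases {M : Subgroup H} (hM : M.Normal) (hle : pCore 2 H ≤ M) :
    M = pCore 2 H ∨ M = ⊤ := by
  classical
  haveI : Fact (Nat.Prime 2) := ⟨Nat.prime_two⟩
  haveI : Fact (Nat.Prime 7) := ⟨by norm_num⟩
  have ht : t ∈ M := hle S.t_mem_core
  by_cases h7 : 7 ∣ Nat.card M
  swap
  · left
    refine le_antisymm (Fusion.le_pCore hM ?_) hle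
    rcases S.card_of_not_seven hM ht h7 with h | h | h
    · exact IsPGroup.of_card (n := 1) (by rw [h]; norm_num)
    · exact IsPGroup.of_card (n := 4) (by rw [h]; norm_num)
    · exact IsPGroup.of_card (n := 7) (by rw [h]; norm_num)
  -- `x` lies in `M`
  have hP : ∀ Q : Sylow 7 H, Nat.card (Q : Subgroup H) = 7 := fun Q => by
    rw [Small.card_sylow 1 384 (by rw [S.card]; norm_num) (by norm_num) Q, pow_one]
  have hxM : x ∈ M := by
    obtain ⟨y, hy⟩ := exists_prime_orderOf_dvd_card' (G := M) 7 h7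
    obtain ⟨Qy, hQy⟩ := Small.exists_sylow_eq_zpowers hP (z := (y : H))
      (by rw [Subgroup.orderOf_coe, hy])
    obtain ⟨Qx, hQx⟩ := Small.exists_sylow_eq_zpowers hP (z := x) S.hx
    obtain ⟨g, hg⟩ := MulAction.exists_smul_eq H Qy Qx
    have hx' : x ∈ (Qx : Subgroup H) := hQx ▸ Subgroup.mem_zpowers x
    rw [← hg, Sylow.coe_subgroup_smul] at hx'
    obtain ⟨z, hz, hzx⟩ := hx'
    rw [← hzx]
    have hzM : z ∈ M := by
      have : z ∈ Subgroup.zpowers (y : H) := hQy ▸ hz
      exact (Subgroup.zpowers_le.2 y.2) this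
    exact hM.conj_mem z hzM g
  set N := Subgroup.normalizer ((Subgroup.zpowers x : Subgroup H) : Set H)
  have hsup : N ⊔ M = ⊤ := by
    rw [eq_top_iff]
    intro h _
    obtain ⟨Qx, hQx⟩ := Small.exists_sylow_eq_zpowers hP (z := x) S.hx
    have hPM : Nat.card ((Subgroup.zpowers x).subgroupOf M) = 7 := by
      rw [Nat.card_congr (Subgroup.subgroupOfEquivOfLe (Subgroup.zpowers_le.2 hxM)).toEquiv,
        Nat.card_zpowers, S.hx]
    have hQle : (Qx : Subgroup H) ≤ M := hQx ▸ Subgroup.zpowers_le.2 hxM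
    have hfr := Sylow.normalizer_sup_eq_top (N := M) (Qx.subtype hQle)
    have e : ((Qx.subtype hQle : Sylow 7 M) : Subgroup M).map M.subtype = Subgroup.zpowers x := by
      rw [Sylow.coe_subtype, Subgroup.map_subgroupOf_eq_of_le hQle, hQx]
    rw [e] at hfr
    exact hfr ▸ Subgroup.mem_top h
  have hidx : M.index = M.relIndex N := by
    rw [← Subgroup.relIndex_sup_right (H := N) (K := M), hsup, Subgroup.relIndex_top_right]
  have hcard : Nat.card M = 64 * Nat.card (M.subgroupOf N) := by
    have h1 := M.card_mul_index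
    have h2 := (M.subgroupOf N).card_mul_index
    rw [S.card, hidx, Subgroup.relIndex] at h1
    rw [S.nx] at h2
    have hpos : 0 < (M.subgroupOf N).index := Nat.pos_of_ne_zero Subgroup.index_ne_zero_of_finite
    refine Nat.eq_of_mul_eq_mul_right hpos ?_
    rw [h1, mul_assoc, h2]
    norm_num
  have hxt : Subgroup.zpowers (x * t) ≤ M ⊓ N := by
    refine le_inf (Subgroup.zpowers_le.2 (M.mul_mem hxM ht)) ?_
    rw [← S.cx_eq]
    intro c hc
    have hce : c ∈ Subgroup.centralizer ((Subgroup.zpowers x : Subgroup H) : Set H) := by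
      rw [Small.centralizer_zpowers]; exact hc
    exact Subgroup.centralizer_le_normalizer _ hce
  have hsub : (M ⊓ N).subgroupOf N = M.subgroupOf N := by simp
  have hMN : Nat.card (M.subgroupOf N) = Nat.card (M ⊓ N : Subgroup H) := by
    rw [← hsub, Nat.card_congr (Subgroup.subgroupOfEquivOfLe inf_le_right).toEquiv]
  have h14 : 14 ∣ Nat.card (M.subgroupOf N) := by
    rw [hMN, show (14 : ℕ) = Nat.card (Subgroup.zpowers (x * t)) by rw [← S.cx_eq, S.cx]]
    exact Subgroup.card_dvd_of_le hxt
  have h42 : Nat.card (M.subgroupOf N) ∣ 42 := S.nx ▸ Subgroup.card_subgroup_dvd_card _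
  have hv : Nat.card (M.subgroupOf N) = 14 ∨ Nat.card (M.subgroupOf N) = 42 :=
    (show ∀ d ∈ Nat.divisors 42, 14 ∣ d → d = 14 ∨ d = 42 by decide) _
      (Nat.mem_divisors.2 ⟨h42, by norm_num⟩) h14
  rcases hv with hv | hv
  swap
  · right
    exact Subgroup.eq_top_of_card_eq _ (by rw [hcard, hv, S.card])
  exfalso
  have h896 : Nat.card M = 896 := by rw [hcard, hv]
  have hPcard : Nat.card ((Subgroup.zpowers x).subgroupOf M) = 7 := by
    rw [Nat.card_congr (Subgroup.subgroupOfEquivOfLe (Subgroup.zpowers_le.2 hxM)).toEquiv,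
      Nat.card_zpowers, S.hx]
  obtain ⟨P, hP'⟩ : ∃ P : Sylow 7 M, (P : Subgroup M) = Subgroup.zpowers (⟨x, hxM⟩ : M) :=
    Small.exists_sylow_eq_zpowers (fun Q => by
      rw [Small.card_sylow 1 128 (by rw [h896]; norm_num) (by norm_num) Q, pow_one])
      (Subgroup.orderOf_mk x hxM ▸ S.hx)
  have hNC : Subgroup.normalizer ((P : Subgroup M) : Set M) ≤
      Subgroup.centralizer ((P : Subgroup M) : Set M) := by
    have e : (M ⊓ N : Subgroup H) = Subgroup.zpowers (x * t) :=
      (Subgroup.eq_of_le_of_card_ge hxt (by rw [← hMN, hv, ← S.cx_eq, S.cx])).symm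
    intro g hg
    have hgN : (g : H) ∈ M ⊓ N := by
      refine ⟨g.2, ?_⟩
      refine Subgroup.mem_normalizer_iff.2 fun y => ?_
      rw [hP'] at hg
      have himg : ∀ y : M, (y : H) ∈ Subgroup.zpowers x ↔ y ∈ Subgroup.zpowers (⟨x, hxM⟩ : M) := by
        intro y
        rw [Subgroup.mem_zpowers_iff, Subgroup.mem_zpowers_iff]
        exact exists_congr fun i => by rw [Subtype.ext_iff]; simp
      constructor
      · intro hy
        have hyM : y ∈ M := Subgroup.zpowers_le.2 hxM hy
        exact (himg (g * ⟨y, hyM⟩ * g⁻¹)).2 ((Subgroup.mem_normalizer_iff.1 hg _).1 ((himg ⟨y, hyM⟩).1 hy))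
      · intro hy
        have h1 : (g : H) * y * (g : H)⁻¹ ∈ M := Subgroup.zpowers_le.2 hxM hy
        have hyM : y ∈ M := by
          have := M.mul_mem (M.mul_mem (M.inv_mem g.2) h1) g.2
          simpa [mul_assoc] using this
        exact (himg ⟨y, hyM⟩).1 |> fun _ =>
          (himg ⟨y, hyM⟩).2 ((Subgroup.mem_normalizer_iff.1 hg _).2 ((himg (g * ⟨y, hyM⟩ * g⁻¹)).1 hy))
    rw [e, ← S.cx_eq] at hgN
    rw [hP', Small.centralizer_zpowers]
    exact Subgroup.mem_centralizer_singleton_iff.2
      (Subtype.ext (Subgroup.mem_centralizer_singleton_iff.1 hgN))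
  set K0 := (MonoidHom.transferSylow P hNC).ker with hK0
  have hc := (MonoidHom.ker_transferSylow_isComplement' P hNC).card_mul_card
  rw [show Nat.card (P : Subgroup M) = 7 by rw [hP', Nat.card_zpowers, Subgroup.orderOf_mk, S.hx],
    h896, ← hK0] at hc
  have hK : Nat.card K0 = 128 := by omega
  have hiK : K0.index = 7 := by
    have := K0.card_mul_index
    rw [hK, h896] at this; omega
  have hchar : ∀ y : M, y ∈ K0 ↔ y ^ 128 = 1 := by
    intro y
    refine ⟨fun hy => ?_, fun hy => ?_⟩
    · rw [← orderOf_dvd_iff_pow_eq_one, ← hK]; exact Subgroup.orderOf_dvd_natCard _ hy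
    · have h1 : y ^ K0.index ∈ K0 := K0.pow_index_mem y
      rw [hiK] at h1
      rw [show y = (y ^ 7) ^ 55 by rw [← pow_mul, show 7 * 55 = 128 * 3 + 1 by norm_num, pow_add,
        pow_mul, hy, one_pow, one_mul, pow_one]]
      exact K0.pow_mem h1 _
  haveI : (K0.map M.subtype).Normal := ⟨by
    rintro n ⟨y, hy, rfl⟩ g
    refine ⟨⟨g * y * g⁻¹, hM.conj_mem y y.2 g⟩, (hchar _).2 (Subtype.ext ?_), rfl⟩
    rw [Subgroup.coe_pow, conj_pow, ← Subgroup.coe_pow, (hchar y).1 hy]
    simp⟩
  have hKc : Nat.card (K0.map M.subtype) = 128 := by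
    rw [Subgroup.card_map_of_injective M.subtype_injective, hK]
  have := Subgroup.card_le_of_le (Fusion.le_pCore (N := K0.map M.subtype) inferInstance
    (IsPGroup.of_card (p := 2) (n := 7) (by rw [hKc]; norm_num)))
  rw [hKc] at this
  have := S.core_small
  omega

theorem quot_simple : @IsSimpleGroup (H ⧸ pCore 2 H)
    (@QuotientGroup.Quotient.group H _ (pCore 2 H) S.core_normal) := by
  haveI := S.core_normal
  haveI : Nontrivial (H ⧸ pCore 2 H) := by
    rw [← Finite.one_lt_card_iff_nontrivial]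
    have h := Subgroup.card_eq_card_quotient_mul_card_subgroup (pCore 2 H)
    rw [S.card] at h
    have := S.core_small
    nlinarith
  refine ⟨fun N hN => ?_⟩
  have hsur : Function.Surjective (QuotientGroup.mk' (pCore 2 H)) := QuotientGroup.mk'_surjective _
  rcases S.normal_cases (hN.comap (QuotientGroup.mk' (pCore 2 H)))
    (le_trans (QuotientGroup.ker_mk' _).ge (Subgroup.ker_le_comap _ _)) with h | h
  · left
    rw [← Subgroup.map_comap_eq_self_of_surjective hsur N, h, QuotientGroup.map_mk'_self]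
  · right
    rw [← Subgroup.map_comap_eq_self_of_surjective hsur N, h, Subgroup.map_top_of_surjective _ hsur]

theorem core_card : Nat.card (pCore 2 H) = 16 := by
  haveI := S.core_normal
  rcases S.core_options with h | h | h
  · exfalso
    haveI := S.quot_simple
    have hq : Nat.card (H ⧸ pCore 2 H) = 1344 := by
      have h' := Subgroup.card_eq_card_quotient_mul_card_subgroup (pCore 2 H)
      rw [S.card, h] at h'; omega
    refine Small.Gap.ne_1344 (fun hc => ?_) hq
    refine Small.not_isCyclic_of_card (G := H ⧸ pCore 2 H) (by rw [hq]; norm_num) ?_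
    let _ : CommGroup (H ⧸ pCore 2 H) :=
      { (inferInstance : Group (H ⧸ pCore 2 H)) with mul_comm := fun a b => hc.is_comm.comm a b }
    exact IsSimpleGroup.isCyclic
  · exact h
  · exact absurd h S.core_ne_128

theorem quot_card : Nat.card (H ⧸ pCore 2 H) = 168 := by
  have h := Subgroup.card_eq_card_quotient_mul_card_subgroup (pCore 2 H)
  rw [S.card, S.core_card] at h; omega

theorem fix_core {c : H} (hc : c ∈ pCore 2 H) (hcx : x * c = c * x) : c = 1 ∨ c = t := by
  obtain ⟨k, hk⟩ := IsPGroup.iff_orderOf.1 (Fusion.pCore_isPGroup (G := H) 2) ⟨c, hc⟩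
  refine S.pow_sol hcx (k := k) ?_
  rw [← orderOf_dvd_iff_pow_eq_one, ← hk, Subgroup.orderOf_mk]

theorem all_or_none (p : H → Prop) (hx' : ∀ r, p r → p (x * r * x⁻¹)) (ht' : ∀ r, p r → p (r * t)) :
    (∀ r ∈ pCore 2 H, r ≠ 1 → r ≠ t → p r) ∨ ∀ r ∈ pCore 2 H, r ≠ 1 → r ≠ t → ¬ p r := by
  classical
  haveI := Fintype.ofFinite H
  haveI : Fact (Nat.Prime 7) := ⟨by norm_num⟩
  haveI : Fact (Nat.Prime 2) := ⟨Nat.prime_two⟩
  haveI := S.core_normal
  set R := pCore 2 H
  set Ω₀ := (Finset.univ.filter fun r : H => r ∈ R) \ {1, t} with hΩ₀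
  have h14 : Ω₀.card = 14 := by
    rw [hΩ₀, Finset.card_sdiff_of_subset (fun r hr => by
      simp only [Finset.mem_insert, Finset.mem_singleton] at hr
      rcases hr with rfl | rfl
      · simp [R.one_mem]
      · simpa using S.t_mem_core), Finset.card_pair (Ne.symm S.t_ne), ← Fintype.card_subtype,
      ← Nat.card_eq_fintype_card, S.core_card]
  have hm : ∀ {r : H}, r ∈ Ω₀ ↔ r ∈ R ∧ r ≠ 1 ∧ r ≠ t := fun {r} => by simp [hΩ₀]
  set Ω := Ω₀.filter p with hΩ
  have h7 : 7 ∣ Ω.card := by
    have h := card_fixed_modEq_finset (p := 7) Ω (fun r => x * r * x⁻¹) (fun r hr => by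
      obtain ⟨hr, hpr⟩ := Finset.mem_filter.1 hr
      obtain ⟨h1, h2, h3⟩ := hm.1 hr
      refine Finset.mem_filter.2 ⟨hm.2 ⟨S.core_normal.conj_mem r h1 x, fun e => h2 (conj_eq_one_iff.1 e),
        fun e => h3 ?_⟩, hx' r hpr⟩
      rw [mul_inv_eq_iff_eq_mul, ← S.central x] at e
      exact mul_left_cancel e)
      (fun r _ => by rw [conj_iterate, ← S.hx, pow_orderOf_eq_one]; simp)
    rw [Finset.filter_eq_empty_iff.2 (fun r hr e => ?_), Finset.card_empty] at h
    · exact Nat.modEq_zero_iff_dvd.1 h.symm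
    obtain ⟨h1, h2, h3⟩ := hm.1 (Finset.mem_filter.1 hr).1
    rcases S.fix_core h1 (mul_inv_eq_iff_eq_mul.1 e) with e | e
    · exact h2 e
    · exact h3 e
  have h2 : 2 ∣ Ω.card := by
    have h := card_fixed_modEq_finset (p := 2) Ω (fun r => r * t) (fun r hr => by
      obtain ⟨hr, hpr⟩ := Finset.mem_filter.1 hr
      obtain ⟨h1, h2, h3⟩ := hm.1 hr
      refine Finset.mem_filter.2 ⟨hm.2 ⟨R.mul_mem h1 S.t_mem_core, fun e => h3 ?_,
        fun e => h2 (mul_eq_right.1 e)⟩, ht' r hpr⟩
      rw [mul_eq_one_iff_eq_inv.1 e, inv_eq_of_mul_eq_one_right S.tt])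
      (fun r _ => by show r * t * t = r; rw [mul_assoc, S.tt, mul_one])
    rw [Finset.filter_eq_empty_iff.2 (fun r _ e => S.t_ne (mul_eq_left.1 e)), Finset.card_empty] at h
    exact Nat.modEq_zero_iff_dvd.1 h.symm
  have hle : Ω.card ≤ 14 := h14 ▸ Finset.card_filter_le _ _
  rcases Nat.eq_zero_or_pos Ω.card with h0 | h0
  · right
    intro r hr h1 h3 hpr
    have hmem : r ∈ Ω := Finset.mem_filter.2 ⟨hm.2 ⟨hr, h1, h3⟩, hpr⟩
    exact absurd h0 (Finset.card_pos.2 ⟨r, hmem⟩).ne'
  · left
    have he : Ω = Ω₀ := Finset.eq_of_subset_of_card_le (Finset.filter_subset _ _) (by omega)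
    intro r hr h1 h3
    have : r ∈ Ω := he ▸ hm.2 ⟨hr, h1, h3⟩
    exact (Finset.mem_filter.1 this).2

theorem core_sq : ∀ r ∈ pCore 2 H, r * r = 1 := by
  classical
  haveI := Fintype.ofFinite H
  haveI : Fact (Nat.Prime 2) := ⟨Nat.prime_two⟩
  haveI := S.core_normal
  set R := pCore 2 H
  have hcr : ∀ r : H, x * r * x⁻¹ * (x * r * x⁻¹) = x * (r * r) * x⁻¹ := fun r => by group
  have hct : ∀ r : H, r * t * (r * t) = r * r := fun r => by
    rw [mul_assoc, ← mul_assoc t, ← S.central r, mul_assoc r t t, S.tt, mul_one]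
  -- every square is 1 or t
  have hst : ∀ r ∈ R, r * r = 1 ∨ r * r = t := by
    rcases S.all_or_none (fun r => r * r = 1 ∨ r * r = t)
      (fun r h => by
        show x * r * x⁻¹ * (x * r * x⁻¹) = 1 ∨ x * r * x⁻¹ * (x * r * x⁻¹) = t
        rw [hcr]
        rcases h with h | h
        · left; rw [h]; group
        · right; rw [h, S.central x, mul_inv_cancel_right])
      (fun r h => by
        show r * t * (r * t) = 1 ∨ r * t * (r * t) = t
        rw [hct]; exact h) with h | h
    · intro r hr
      by_cases h1 : r = 1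
      · left; rw [h1, one_mul]
      by_cases h2 : r = t
      · left; rw [h2, S.tt]
      exact h r hr h1 h2
    · exfalso
      obtain ⟨r, hr, hr'⟩ := Finset.exists_mem_notMem_of_card_lt_card
        (s := ({1, t} : Finset H)) (t := Finset.univ.filter fun r : H => r ∈ R)
        (by rw [Finset.card_pair (Ne.symm S.t_ne), ← Fintype.card_subtype, ← Nat.card_eq_fintype_card,
          S.core_card]; norm_num)
      simp only [Finset.mem_insert, Finset.mem_singleton, not_or, Finset.mem_filter, Finset.mem_univ,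
        true_and] at hr hr'
      obtain ⟨k, hk⟩ := IsPGroup.iff_orderOf.1 (Fusion.pCore_isPGroup (G := H) 2) ⟨r, hr⟩
      rw [Subgroup.orderOf_mk] at hk
      have hex : ∃ n : ℕ, r ^ (2 ^ n) = 1 ∨ r ^ (2 ^ n) = t := ⟨k, Or.inl (hk ▸ pow_orderOf_eq_one r)⟩
      obtain ⟨m, hm⟩ : ∃ m, Nat.find hex = m + 1 := by
        refine ⟨Nat.find hex - 1, (Nat.sub_add_cancel (Nat.pos_of_ne_zero fun e => ?_)).symm⟩
        have := Nat.find_spec hex
        rw [e, pow_zero, pow_one] at this
        exact this.elim hr'.1 hr'.2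
      have h0 := Nat.find_min hex (show m < Nat.find hex by omega)
      have h1 := Nat.find_spec hex
      rw [hm, pow_succ, pow_mul, pow_two] at h1
      exact h _ (R.pow_mem hr _) (fun e => h0 (Or.inl e)) (fun e => h0 (Or.inr e)) h1
  rcases S.all_or_none (fun r => r * r = 1)
      (fun r h => by
        show x * r * x⁻¹ * (x * r * x⁻¹) = 1
        rw [hcr, h]; group)
      (fun r h => by
        show r * t * (r * t) = 1
        rw [hct, h]) with h | h
  · intro r hr
    by_cases h1 : r = 1
    · rw [h1, one_mul]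
    by_cases h2 : r = t
    · rw [h2, S.tt]
    exact h r hr h1 h2
  exfalso
  have hsq : ∀ r ∈ R, r ≠ 1 → r ≠ t → r * r = t := fun r hr h1 h2 =>
    (hst r hr).resolve_left (h r hr h1 h2)
  have hanti : ∀ a ∈ R, ∀ b ∈ R, a ≠ 1 → a ≠ t → b ≠ 1 → b ≠ t → b ≠ a → b ≠ a * t →
      b * a = a * b * t ∧ a * b ≠ 1 ∧ a * b ≠ t := by
    intro a ha b hb a1 at' b1 bt ne net
    have haa := hsq a ha a1 at'
    have hbb := hsq b hb b1 bt
    have n1 : a * b ≠ 1 := fun e => net (mul_left_cancel (a := a) (by
      rw [e, ← mul_assoc, haa, S.tt]))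
    have n2 : a * b ≠ t := fun e => ne (mul_left_cancel (e.trans haa.symm))
    have h3 := hsq _ (R.mul_mem ha hb) n1 n2
    have e1 : b * a * b = a := mul_left_cancel (a := a) (by
      calc a * (b * a * b) = a * b * (a * b) := by group
        _ = a * a := by rw [h3, haa])
    refine ⟨?_, n1, n2⟩
    calc b * a = b * a * b * (b * (b * b)⁻¹) := by group
      _ = a * b * t⁻¹ := by rw [e1, hbb, mul_assoc]
      _ = a * b * t := by rw [inv_eq_of_mul_eq_one_right S.tt]
  have hR16 : (Finset.univ.filter fun r : H => r ∈ R).card = 16 := by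
    rw [← Fintype.card_subtype, ← Nat.card_eq_fintype_card, S.core_card]
  obtain ⟨r, hr, hr'⟩ := Finset.exists_mem_notMem_of_card_lt_card
    (s := ({1, t} : Finset H)) (t := Finset.univ.filter fun r : H => r ∈ R)
    (lt_of_le_of_lt Finset.card_le_two (by rw [hR16]; norm_num))
  simp only [Finset.mem_insert, Finset.mem_singleton, not_or, Finset.mem_filter, Finset.mem_univ,
    true_and] at hr hr'
  obtain ⟨r1, rt⟩ := hr'
  obtain ⟨s, hs, hs'⟩ := Finset.exists_mem_notMem_of_card_lt_card
    (s := ({1, t, r, r * t} : Finset H)) (t := Finset.univ.filter fun r : H => r ∈ R)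
    (lt_of_le_of_lt Finset.card_le_four (by rw [hR16]; norm_num))
  simp only [Finset.mem_insert, Finset.mem_singleton, not_or, Finset.mem_filter, Finset.mem_univ,
    true_and] at hs hs'
  obtain ⟨s1, st, sr, srt⟩ := hs'
  obtain ⟨w, hw, hw'⟩ := Finset.exists_mem_notMem_of_card_lt_card
    (s := [1, t, r, r * t, s, s * t, r * s, r * s * t].toFinset)
    (t := Finset.univ.filter fun r : H => r ∈ R)
    (lt_of_le_of_lt (List.toFinset_card_le _) (by rw [hR16]; norm_num))
  simp only [List.mem_toFinset, List.mem_cons, List.not_mem_nil, or_false, not_or, Finset.mem_filter,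
    Finset.mem_univ, true_and] at hw hw'
  obtain ⟨w1, wt, wr, wrt, ws, wst, wrs, wrst⟩ := hw'
  obtain ⟨-, n1, n2⟩ := hanti r hr s hs r1 rt s1 st sr srt
  have a1 := (hanti r hr w hw r1 rt w1 wt wr wrt).1
  have a2 := (hanti s hs w hw s1 st w1 wt ws wst).1
  have a3 := (hanti (r * s) (R.mul_mem hr hs) w hw n1 n2 w1 wt wrs wrst).1
  have hcomm : w * (r * s) = r * s * w := by
    calc w * (r * s) = w * r * s := by group
      _ = r * w * t * s := by rw [a1]
      _ = r * w * s * t := by rw [mul_assoc _ t, ← S.central s, ← mul_assoc]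
      _ = r * (s * w * t) * t := by rw [mul_assoc r w s, a2]
      _ = r * s * w := by rw [mul_assoc r, mul_assoc (s * w), S.tt, mul_one, mul_assoc]
  rw [hcomm] at a3
  exact S.t_ne (left_eq_mul.1 a3)

theorem core_cent : Subgroup.centralizer ((pCore 2 H : Subgroup H) : Set H) = pCore 2 H := by
  haveI := S.core_normal
  set R := pCore 2 H
  have hle : R ≤ Subgroup.centralizer ((R : Subgroup H) : Set H) := fun a ha => by
    refine Subgroup.mem_centralizer_iff.2 fun b hb => ?_
    calc b * a = (b * a)⁻¹ := eq_inv_of_mul_eq_one_left (S.core_sq _ (R.mul_mem hb ha))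
      _ = a * b := by
        rw [mul_inv_rev, inv_eq_of_mul_eq_one_right (S.core_sq a ha),
          inv_eq_of_mul_eq_one_right (S.core_sq b hb)]
  haveI : (Subgroup.centralizer ((R : Subgroup H) : Set H)).Normal := ⟨fun c hc g =>
    Subgroup.mem_centralizer_iff.2 fun r hr => by
      have h := Subgroup.mem_centralizer_iff.1 hc (g⁻¹ * r * g)
        (by simpa using S.core_normal.conj_mem r hr g⁻¹)
      calc r * (g * c * g⁻¹) = g * (g⁻¹ * r * g * c) * g⁻¹ := by group
        _ = g * (c * (g⁻¹ * r * g)) * g⁻¹ := by rw [h]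
        _ = g * c * g⁻¹ * r := by group⟩
  refine (S.normal_cases inferInstance hle).resolve_right fun h => ?_
  classical
  haveI := Fintype.ofFinite H
  obtain ⟨r, hr, hr'⟩ := Finset.exists_mem_notMem_of_card_lt_card
    (s := ({1, t} : Finset H)) (t := Finset.univ.filter fun r : H => r ∈ R)
    (lt_of_le_of_lt Finset.card_le_two (by
      rw [← Fintype.card_subtype, ← Nat.card_eq_fintype_card, S.core_card]; norm_num))
  simp only [Finset.mem_insert, Finset.mem_singleton, not_or, Finset.mem_filter, Finset.mem_univ,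
    true_and] at hr hr'
  have hx' : x ∈ Subgroup.centralizer ((R : Subgroup H) : Set H) := h ▸ Subgroup.mem_top x
  rcases S.fix_core hr (Subgroup.mem_centralizer_iff.1 hx' r hr).symm with e | e
  · exact hr'.1 e
  · exact hr'.2 e

/-- An involution outside centralizes four elements of the core. -/
theorem core_four {b : H} (hb : b ∉ pCore 2 H) (hb2 : b * b = 1) :
    Nat.card {r : H // r ∈ pCore 2 H ∧ b * r = r * b} = 4 := by
  classical
  haveI := Fintype.ofFinite H
  haveI := S.core_normal
  haveI := S.quot_simple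
  haveI : Fact (Nat.Prime 2) := ⟨Nat.prime_two⟩
  set R := pCore 2 H with hRd
  set q := QuotientGroup.mk' R
  have hq1 : ∀ {c : H}, q c = 1 ↔ c ∈ R := fun {c} => QuotientGroup.eq_one_iff c
  set I := Finset.univ.filter fun a : H => a ∉ R ∧ a * a = 1 with hI
  set J := Finset.univ.filter fun k : H ⧸ R => orderOf k = 2 with hJ
  have hJc : J.card = 21 := by
    obtain ⟨T⟩ : Nonempty (Sylow 2 (H ⧸ R)) := inferInstance
    rw [← Fintype.card_subtype, ← Nat.card_eq_fintype_card]
    exact (Small.Order168.counts S.quot_card T).1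
  have hIc : I.card = 84 := by
    have hone : ∀ a : H, orderOf a = 2 ↔ a * a = 1 ∧ a ≠ 1 := fun a => by
      rw [← pow_two, orderOf_eq_prime_iff]
    have hdis : Disjoint I ((Finset.univ.filter fun a : H => a ∈ R).erase 1) :=
      Finset.disjoint_left.2 fun a h h' =>
        (Finset.mem_filter.1 h).2.1 (Finset.mem_filter.1 (Finset.mem_of_mem_erase h')).2
    have e : (Finset.univ.filter fun a : H => orderOf a = 2) =
        I ∪ (Finset.univ.filter fun a : H => a ∈ R).erase 1 := by
      ext a
      simp only [hI, Finset.mem_filter, Finset.mem_univ, true_and, Finset.mem_union, Finset.mem_erase,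
        hone]
      constructor
      · rintro ⟨h2, h1⟩
        by_cases hR : a ∈ R
        · exact Or.inr ⟨h1, hR⟩
        · exact Or.inl ⟨hR, h2⟩
      · rintro (⟨hR, h2⟩ | ⟨h1, hR⟩)
        · exact ⟨h2, fun e => hR (e ▸ R.one_mem)⟩
        · exact ⟨S.core_sq a hR, h1⟩
    have h := S.inv
    rw [Nat.card_eq_fintype_card, Fintype.card_subtype, e, Finset.card_union_of_disjoint hdis,
      Finset.card_erase_of_mem (by simp [R.one_mem]), show (Finset.univ.filter fun a : H => a ∈ R).card = 16 by
        rw [← Fintype.card_subtype, ← Nat.card_eq_fintype_card, S.core_card]] at h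
    omega
  have hmaps : Set.MapsTo q I J := fun a ha => by
    obtain ⟨-, h1, h2⟩ := Finset.mem_filter.1 (Finset.mem_coe.1 ha)
    refine Finset.mem_coe.2 (Finset.mem_filter.2 ⟨Finset.mem_univ _, ?_⟩)
    rw [orderOf_eq_prime_iff, pow_two, ← map_mul, h2, map_one]
    exact ⟨rfl, fun e => h1 (hq1.1 e)⟩
  set F := fun k : H ⧸ R => (I.filter fun a => q a = k).card
  have hconj : ∀ k ∈ J, F k = F (q b) := by
    intro k hk
    have hbJ : orderOf (q b) = 2 := by
      rw [orderOf_eq_prime_iff, pow_two, ← map_mul, hb2, map_one]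
      exact ⟨rfl, fun e => hb (hq1.1 e)⟩
    obtain ⟨g', hg'⟩ := isConj_iff.1 (Small.Order168.involutions_conj S.quot_card hbJ (Finset.mem_filter.1 hk).2)
    obtain ⟨g, rfl⟩ := QuotientGroup.mk'_surjective R g'
    refine (Finset.card_nbij' (fun a => g * a * g⁻¹) (fun a => g⁻¹ * a * g) ?_ ?_ ?_ ?_).symm
    · intro a ha
      simp only [hI, Finset.coe_filter, Finset.mem_filter, Finset.mem_univ, true_and,
        Set.mem_ofPred_eq] at ha ⊢
      refine ⟨⟨fun h => ha.1.1 ?_, ?_⟩, ?_⟩
      · simpa [mul_assoc] using S.core_normal.conj_mem _ h g⁻¹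
      · rw [show g * a * g⁻¹ * (g * a * g⁻¹) = g * (a * a) * g⁻¹ by group, ha.1.2]; group
      · rw [map_mul, map_mul, map_inv, ha.2, hg']
    · intro a ha
      simp only [hI, Finset.coe_filter, Finset.mem_filter, Finset.mem_univ, true_and,
        Set.mem_ofPred_eq] at ha ⊢
      refine ⟨⟨fun h => ha.1.1 ?_, ?_⟩, ?_⟩
      · simpa [mul_assoc] using S.core_normal.conj_mem _ h g
      · rw [show g⁻¹ * a * g * (g⁻¹ * a * g) = g⁻¹ * (a * a) * g by group, ha.1.2]; group
      · rw [map_mul, map_mul, map_inv, ha.2, ← hg']; simp [q, mul_assoc]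
    · intro a _; group
    · intro a _; group
  have hsum := Finset.card_eq_sum_card_fiberwise hmaps
  rw [Finset.sum_congr rfl hconj, Finset.sum_const, hJc, hIc, smul_eq_mul] at hsum
  have hF : F (q b) = 4 := by omega
  have hbb : b⁻¹ = b := inv_eq_of_mul_eq_one_right hb2
  rw [Nat.card_eq_fintype_card, Fintype.card_subtype, ← hF]
  refine Finset.card_nbij' (fun r => b * r) (fun a => b⁻¹ * a) ?_ ?_ ?_ ?_
  · intro r hr
    simp only [hI, Finset.coe_filter, Finset.mem_filter, Finset.mem_univ, true_and,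
      Set.mem_ofPred_eq] at hr ⊢
    obtain ⟨hrR, hc⟩ := hr
    refine ⟨⟨fun h => hb ?_, ?_⟩, ?_⟩
    · simpa using R.mul_mem h (R.inv_mem hrR)
    · rw [mul_assoc, ← mul_assoc r, ← hc, mul_assoc b r r, S.core_sq r hrR, mul_one, hb2]
    · rw [map_mul, hq1.2 hrR, mul_one]
  · intro a ha
    simp only [hI, Finset.coe_filter, Finset.mem_filter, Finset.mem_univ, true_and,
      Set.mem_ofPred_eq] at ha ⊢
    obtain ⟨⟨-, ha2⟩, hqa⟩ := ha
    have hr : b⁻¹ * a ∈ R := hq1.1 (by rw [map_mul, map_inv, hqa, inv_mul_cancel])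
    refine ⟨hr, ?_⟩
    rw [hbb] at hr ⊢
    have h1 : b * a * (b * a) = 1 := S.core_sq _ hr
    have hab : b * a = a * b := by
      calc b * a = (b * a)⁻¹ := eq_inv_of_mul_eq_one_left h1
        _ = a * b := by rw [mul_inv_rev, inv_eq_of_mul_eq_one_right ha2, hbb]
    rw [← mul_assoc, hb2, one_mul, hab, mul_assoc, hb2, mul_one]
  · intro r _; simp
  · intro a _; simp

end CShape

end Cfsg.Lib.MTwentyThree
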