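import Cfsg.Agent.Lib.MTwentyThree.Seven
import Cfsg.Agent.Lib.MTwentyThree.CentCore

/-!
# The centralizer of an involution

It is an extension of an elementary abelian group `E t` of order 16 by a simple group of order 168.
-/

set_option autoImplicit false
set_option linter.style.haveILetI false
set_option linter.unusedSectionVars false

namespace Cfsg.Lib.MTwentyThree

open Cfsg Cfsg.Lib
open Cfsg.Lib.MTwentyTwo (deg)

universe u

variable {G : Type u} [Group G]

/-- The centralizer of an element. -/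
abbrev cn (t : G) : Subgroup G := Subgroup.centralizer ({t} : Set G)

theorem mem_cn {t g : G} : g ∈ cn t ↔ g * t = t * g := Subgroup.mem_centralizer_singleton_iff

/-- The largest normal 2-subgroup of the centralizer. -/
def E (t : G) : Subgroup G := (pCore 2 (cn t)).map (cn t).subtype

theorem E_le (t : G) : E t ≤ cn t := Subgroup.map_subtype_le _

theorem mem_normalizer_zpowers [Finite G] {x g : G} (h : g * x * g⁻¹ ∈ Subgroup.zpowers x) :
    g ∈ Subgroup.normalizer ((Subgroup.zpowers x : Subgroup G) : Set G) := by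
  have hle : (Subgroup.zpowers x).map (MulAut.conj g).toMonoidHom ≤ Subgroup.zpowers x := by
    rw [MonoidHom.map_zpowers]
    exact Subgroup.zpowers_le.2 h
  have he := Subgroup.eq_of_le_of_card_ge hle
    (by rw [Subgroup.card_map_of_injective (MulAut.conj g).injective])
  refine Subgroup.mem_normalizer_iff.2 fun y => ⟨fun hy => ?_, fun hy => ?_⟩
  · rw [← he]
    exact ⟨y, hy, rfl⟩
  · rw [← he] at hy
    obtain ⟨z, hz, hzy⟩ := hy
    have : z = y := (MulAut.conj g).injective hzy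
    exact this ▸ hz

variable [Fintype G]

namespace Tbl

variable (T : Tbl G) (hG : IsM23 G)
include T hG

theorem exists_seven {t : G} (ht : orderOf t = 2) : ∃ x ∈ cn t, orderOf x = 7 := by
  haveI : Fact (Nat.Prime 7) := ⟨by norm_num⟩
  obtain ⟨⟨x, hx⟩, hxo⟩ := exists_prime_orderOf_dvd_card' (G := cn t) 7
    (by rw [T.card_centralizer ht]; norm_num)
  exact ⟨x, hx, by rwa [Subgroup.orderOf_mk] at hxo⟩

theorem cn_seven {t x : G} (ht : orderOf t = 2) (hx : x ∈ cn t) (hxo : orderOf x = 7) :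
    Subgroup.centralizer ({x} : Set G) = Subgroup.zpowers (x * t) := by
  haveI : Fact (Nat.Prime 7) := ⟨by norm_num⟩
  have hc : Commute x t := mem_cn.1 hx
  refine (Subgroup.eq_of_le_of_card_ge (Subgroup.zpowers_le.2 (Subgroup.mem_centralizer_singleton_iff.2
    ((Commute.refl x).mul_right hc).symm)) ?_).symm
  rw [(T.seven hG hxo).1, Nat.card_zpowers, hc.orderOf_mul_eq_mul_orderOf_of_coprime
    (by rw [hxo, ht]; norm_num), hxo, ht]

theorem cn_seven_le {t x : G} (ht : orderOf t = 2) (hx : x ∈ cn t) (hxo : orderOf x = 7) :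
    Subgroup.centralizer ({x} : Set G) ≤ cn t := by
  rw [T.cn_seven hG ht hx hxo]
  exact Subgroup.zpowers_le.2 ((cn t).mul_mem hx (mem_cn.2 rfl))

/-- An involution commuting with an element of order 7 is determined by it. -/
theorem invol_unique {t x s : G} (ht : orderOf t = 2) (hx : x ∈ cn t) (hxo : orderOf x = 7)
    (hs : orderOf s = 2) (hsx : s * x = x * s) : s = t := by
  have h1 : s ∈ Subgroup.zpowers (x * t) :=
    T.cn_seven hG ht hx hxo ▸ Subgroup.mem_centralizer_singleton_iff.2 hsx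
  have h2 : t ∈ Subgroup.zpowers (x * t) :=
    T.cn_seven hG ht hx hxo ▸ Subgroup.mem_centralizer_singleton_iff.2 (mem_cn.1 hx).symm
  have h := IsCyclic.card_orderOf_eq_totient (α := Subgroup.zpowers (x * t)) (d := 2) (by
    rw [← Nat.card_eq_fintype_card, ← ht]; exact Subgroup.orderOf_dvd_natCard _ h2)
  rw [Nat.totient_two] at h
  obtain ⟨a, ha⟩ := Finset.card_eq_one.1 h
  have e1 : (⟨s, h1⟩ : Subgroup.zpowers (x * t)) = a := Finset.mem_singleton.1 (ha ▸ by simp [hs])
  have e2 : (⟨t, h2⟩ : Subgroup.zpowers (x * t)) = a := Finset.mem_singleton.1 (ha ▸ by simp [ht])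
  exact congrArg Subtype.val (e1.trans e2.symm)

theorem card_normalizer_seven {x : G} (hxo : orderOf x = 7) :
    Nat.card (Subgroup.normalizer ((Subgroup.zpowers x : Subgroup G) : Set G)) = 42 := by
  haveI : Fact (Nat.Prime 7) := ⟨by norm_num⟩
  obtain ⟨D, k, hy, hy1⟩ := exists_dat_seven hG hxo
  obtain ⟨Q, hQ⟩ := Small.exists_sylow_eq_zpowers (G := G) (p := 7) (fun Q => by
    rw [Q.card_eq_multiplicity, ← D.P.card_eq_multiplicity, D.S.card_P]) hxo
  set N := Subgroup.normalizer ((Subgroup.zpowers x : Subgroup G) : Set G)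
  have h1 := N.card_mul_index
  have hi : N.index = D.n := by
    rw [D.hn_card, Q.card_eq_index_normalizer, show N = Subgroup.normalizer ((Q : Subgroup G) : Set G) by
      rw [hQ]]
    rfl
  rw [hi, card_G hG] at h1
  have hC := D.hc
  rw [← D.centralizer_eq hy hy1, MEleven.card_centralizer_conj, (T.seven hG hxo).1] at hC
  have h2 := D.hn
  rw [T.e_seven D, show D.c = 2 by omega, show ord / 7 = 1457280 by rw [ord]] at h2
  rw [ord] at h1
  have hn0 : 0 < D.n := by rw [D.hn_card]; exact Nat.card_pos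
  refine Nat.eq_of_mul_eq_mul_right hn0 ?_
  omega

theorem normalizer_seven_le {t x : G} (ht : orderOf t = 2) (hx : x ∈ cn t) (hxo : orderOf x = 7) :
    Subgroup.normalizer ((Subgroup.zpowers x : Subgroup G) : Set G) ≤ cn t := by
  intro g hg
  have hmem : g⁻¹ * x * g ∈ Subgroup.zpowers x :=
    (Subgroup.mem_normalizer_iff''.1 hg x).1 (Subgroup.mem_zpowers x)
  obtain ⟨i, hi⟩ := Subgroup.mem_zpowers_iff.1 hmem
  have h : (g * t * g⁻¹) * x = x * (g * t * g⁻¹) := by
    calc (g * t * g⁻¹) * x = g * (t * x ^ i) * g⁻¹ := by rw [hi]; group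
      _ = g * (x ^ i * t) * g⁻¹ := by
        rw [((show Commute t x from (mem_cn.1 hx).symm).zpow_right i).eq]
      _ = x * (g * t * g⁻¹) := by rw [hi]; group
  have e := T.invol_unique hG ht hx hxo
    (by rw [show orderOf (g * t * g⁻¹) = orderOf t from (MulAut.conj g).orderOf_eq t, ht]) h
  rw [mem_cn]
  exact mul_inv_eq_iff_eq_mul.1 e

theorem shape {t x : G} (ht : orderOf t = 2) (hx : x ∈ cn t) (hxo : orderOf x = 7) :
    CShape (⟨t, mem_cn.2 rfl⟩ : cn t) ⟨x, hx⟩ := by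
  classical
  refine ⟨T.card_centralizer ht, by rw [Subgroup.orderOf_mk, ht],
    fun h => Subtype.ext (mem_cn.1 h.2), by rw [Subgroup.orderOf_mk, hxo], ?_, ?_, ?_⟩
  · haveI : Fact (Nat.Prime 7) := ⟨by norm_num⟩
    rw [← (T.seven hG hxo).1,
      ← Nat.card_congr (Subgroup.subgroupOfEquivOfLe (T.cn_seven_le hG ht hx hxo)).toEquiv]
    refine Nat.card_congr (Equiv.subtypeEquivRight fun c => ?_)
    rw [Subgroup.mem_subgroupOf, Subgroup.mem_centralizer_singleton_iff,
      Subgroup.mem_centralizer_singleton_iff, Subtype.ext_iff]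
    rfl
  · rw [← T.card_normalizer_seven hG hxo,
      ← Nat.card_congr (Subgroup.subgroupOfEquivOfLe (T.normalizer_seven_le hG ht hx hxo)).toEquiv]
    refine Nat.card_congr (Equiv.subtypeEquivRight fun c => ?_)
    rw [Subgroup.mem_subgroupOf]
    have himg : ∀ z : cn t, z ∈ Subgroup.zpowers (⟨x, hx⟩ : cn t) ↔ (z : G) ∈ Subgroup.zpowers x := by
      intro z
      rw [Subgroup.mem_zpowers_iff, Subgroup.mem_zpowers_iff]
      exact exists_congr fun i => by rw [Subtype.ext_iff]; simp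
    constructor
    · intro hc
      exact mem_normalizer_zpowers
        ((himg _).1 ((Subgroup.mem_normalizer_iff.1 hc ⟨x, hx⟩).1 (Subgroup.mem_zpowers _)))
    · intro hc
      exact mem_normalizer_zpowers
        ((himg _).2 ((Subgroup.mem_normalizer_iff.1 hc x).1 (Subgroup.mem_zpowers _)))
  · have h := T.card_invC hG ht
    rw [← h, ← Nat.card_eq_finsetCard]
    exact Nat.card_congr
      { toFun := fun a => ⟨a.1.1, mem_invC.2 ⟨(Subgroup.orderOf_coe a.1).trans a.2, mem_cn.1 a.1.2⟩⟩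
        invFun := fun a => ⟨⟨a.1, mem_cn.2 (mem_invC.1 a.2).2⟩,
          by rw [Subgroup.orderOf_mk]; exact (mem_invC.1 a.2).1⟩
        left_inv := fun a => rfl
        right_inv := fun a => rfl }

theorem mem_E_self {t : G} (ht : orderOf t = 2) : t ∈ E t := by
  obtain ⟨x, hx, hxo⟩ := T.exists_seven hG ht
  exact ⟨⟨t, mem_cn.2 rfl⟩, (T.shape hG ht hx hxo).t_mem_core, rfl⟩

theorem card_E {t : G} (ht : orderOf t = 2) : Nat.card (E t) = 16 := by
  obtain ⟨x, hx, hxo⟩ := T.exists_seven hG ht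
  rw [E, Subgroup.card_map_of_injective (cn t).subtype_injective, (T.shape hG ht hx hxo).core_card]

theorem E_sq {t : G} (ht : orderOf t = 2) {a : G} (ha : a ∈ E t) : a * a = 1 := by
  obtain ⟨x, hx, hxo⟩ := T.exists_seven hG ht
  obtain ⟨a, ha, rfl⟩ := ha
  exact congrArg Subtype.val ((T.shape hG ht hx hxo).core_sq a ha)

omit T hG in
theorem E_comm_of_sq {A : Subgroup G} (hA : ∀ a ∈ A, a * a = 1) {a b : G} (ha : a ∈ A) (hb : b ∈ A) :
    a * b = b * a := by
  calc a * b = (a * b)⁻¹ := eq_inv_of_mul_eq_one_left (hA _ (A.mul_mem ha hb))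
    _ = b * a := by
      rw [mul_inv_rev, inv_eq_of_mul_eq_one_right (hA a ha), inv_eq_of_mul_eq_one_right (hA b hb)]

theorem E_comm {t : G} (ht : orderOf t = 2) {a b : G} (ha : a ∈ E t) (hb : b ∈ E t) : a * b = b * a :=
  E_comm_of_sq (fun _ h => T.E_sq hG ht h) ha hb

omit T hG in
theorem E_normal {t g a : G} (hg : g ∈ cn t) (ha : a ∈ E t) : g * a * g⁻¹ ∈ E t := by
  obtain ⟨a, ha, rfl⟩ := ha
  exact ⟨⟨g, hg⟩ * a * ⟨g, hg⟩⁻¹,
    (Subgroup.sSup_normal _ fun _ h => h.1 : (pCore 2 (cn t)).Normal).conj_mem a ha _, rfl⟩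

theorem cent_E {t : G} (ht : orderOf t = 2) :
    Subgroup.centralizer ((E t : Subgroup G) : Set G) = E t := by
  obtain ⟨x, hx, hxo⟩ := T.exists_seven hG ht
  refine le_antisymm (fun c hc => ?_) fun a ha =>
    Subgroup.mem_centralizer_iff.2 fun b hb => T.E_comm hG ht hb ha
  have hct : c ∈ cn t := mem_cn.2 (Subgroup.mem_centralizer_iff.1 hc t (T.mem_E_self hG ht)).symm
  refine ⟨⟨c, hct⟩, ?_, rfl⟩
  rw [← (T.shape hG ht hx hxo).core_cent]
  exact Subgroup.mem_centralizer_iff.2 fun r hr => Subtype.ext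
    (Subgroup.mem_centralizer_iff.1 hc r ⟨r, hr, rfl⟩)

theorem fix_E {t x a : G} (ht : orderOf t = 2) (hx : x ∈ cn t) (hxo : orderOf x = 7) (ha : a ∈ E t)
    (hc : x * a = a * x) : a = 1 ∨ a = t := by
  obtain ⟨a, ha, rfl⟩ := ha
  rcases (T.shape hG ht hx hxo).fix_core ha (Subtype.ext hc) with e | e
  · exact Or.inl (by rw [e]; rfl)
  · exact Or.inr (by rw [e]; rfl)

/-- An involution outside `E t` centralizes four of its elements. -/
theorem four_outside {t b : G} (ht : orderOf t = 2) (hb : b ∈ cn t) (hbE : b ∉ E t) (hb2 : b * b = 1) :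
    Nat.card {a : G // a ∈ E t ∧ b * a = a * b} = 4 := by
  obtain ⟨x, hx, hxo⟩ := T.exists_seven hG ht
  rw [← (T.shape hG ht hx hxo).core_four (b := ⟨b, hb⟩) (fun h => hbE ⟨_, h, rfl⟩) (Subtype.ext hb2)]
  exact Nat.card_congr
    { toFun := fun a => ⟨⟨a.1, E_le t a.2.1⟩, by
        obtain ⟨a', ha', e⟩ := a.2.1
        have : a' = ⟨a.1, E_le t a.2.1⟩ := Subtype.ext e
        exact this ▸ ha', Subtype.ext a.2.2⟩
      invFun := fun r => ⟨r.1.1, ⟨r.1, r.2.1, rfl⟩, congrArg Subtype.val r.2.2⟩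
      left_inv := fun a => rfl
      right_inv := fun r => rfl }

theorem eq_E {t : G} (ht : orderOf t = 2) {M : Subgroup G} (hM : M ≤ cn t)
    (hn : ∀ g ∈ cn t, ∀ a ∈ M, g * a * g⁻¹ ∈ M) (hc : Nat.card M = 16) : M = E t := by
  refine Subgroup.eq_of_le_of_card_ge ?_ (by rw [T.card_E hG ht, hc])
  have hc' : Nat.card (M.subgroupOf (cn t)) = 2 ^ 4 := by
    rw [Nat.card_congr (Subgroup.subgroupOfEquivOfLe hM).toEquiv, hc]; norm_num
  have h := Fusion.le_pCore (p := 2) (N := M.subgroupOf (cn t))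
    ⟨fun a ha g => hn g g.2 a ha⟩ (IsPGroup.of_card (n := 4) hc')
  rw [E, ← Subgroup.map_subgroupOf_eq_of_le hM]
  exact Subgroup.map_mono h

theorem E_conj {t : G} (ht : orderOf t = 2) (g : G) :
    E (g * t * g⁻¹) = (E t).map (MulAut.conj g).toMonoidHom := by
  refine (T.eq_E hG (by rw [show orderOf (g * t * g⁻¹) = orderOf t from (MulAut.conj g).orderOf_eq t, ht])
    ?_ ?_ ?_).symm
  · rintro _ ⟨a, ha, rfl⟩
    refine mem_cn.2 ?_
    show g * a * g⁻¹ * (g * t * g⁻¹) = g * t * g⁻¹ * (g * a * g⁻¹)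
    calc g * a * g⁻¹ * (g * t * g⁻¹) = g * (a * t) * g⁻¹ := by group
      _ = g * (t * a) * g⁻¹ := by rw [mem_cn.1 (E_le t ha)]
      _ = g * t * g⁻¹ * (g * a * g⁻¹) := by group
  · rintro h hh _ ⟨a, ha, rfl⟩
    have hh' : g⁻¹ * h * g ∈ cn t := by
      rw [mem_cn] at hh ⊢
      calc g⁻¹ * h * g * t = g⁻¹ * (h * (g * t * g⁻¹)) * g := by group
        _ = g⁻¹ * (g * t * g⁻¹ * h) * g := by rw [hh]
        _ = t * (g⁻¹ * h * g) := by group
    refine ⟨g⁻¹ * h * g * a * (g⁻¹ * h * g)⁻¹, E_normal hh' ha, ?_⟩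
    show g * _ * g⁻¹ = h * (g * a * g⁻¹) * h⁻¹
    group
  · rw [Subgroup.card_map_of_injective (MulAut.conj g).injective, T.card_E hG ht]

theorem normal_between {t : G} (ht : orderOf t = 2) {M : Subgroup G} (h1 : E t ≤ M) (h2 : M ≤ cn t)
    (hn : ∀ g ∈ cn t, ∀ a ∈ M, g * a * g⁻¹ ∈ M) : M = E t ∨ M = cn t := by
  obtain ⟨x, hx, hxo⟩ := T.exists_seven hG ht
  rcases (T.shape hG ht hx hxo).normal_cases (M := M.subgroupOf (cn t)) ⟨fun a ha g => hn g g.2 a ha⟩
    (fun r hr => h1 ⟨r, hr, rfl⟩) with e | e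
  · left
    rw [← Subgroup.map_subgroupOf_eq_of_le h2, e]
    rfl
  · exact Or.inr (le_antisymm h2 (Subgroup.subgroupOf_eq_top.1 e))

/-- An element of order 3 commutes with no involution outside `E t`. -/
theorem three_outside {t b y : G} (ht : orderOf t = 2) (hb : b ∈ cn t) (hb2 : b * b = 1) (hy : y ∈ cn t)
    (hyo : orderOf y = 3) (hc : y * b = b * y) : b ∈ E t := by
  obtain ⟨x, hx, hxo⟩ := T.exists_seven hG ht
  set S := T.shape hG ht hx hxo
  haveI := S.core_normal
  haveI := S.quot_simple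
  set q := QuotientGroup.mk' (pCore 2 (cn t))
  have hy1 : q ⟨y, hy⟩ ≠ 1 := fun e => by
    have hm : y ∈ E t := ⟨⟨y, hy⟩, (QuotientGroup.eq_one_iff _).1 e, rfl⟩
    have := T.E_sq hG ht hm
    rw [← pow_two, ← orderOf_dvd_iff_pow_eq_one, hyo] at this
    norm_num at this
  have hy3 : (⟨y, hy⟩ : cn t) ^ 3 = 1 := Subtype.ext (by rw [Subgroup.coe_pow, ← hyo]; exact pow_orderOf_eq_one y)
  haveI : Fact (Nat.Prime 3) := ⟨Nat.prime_three⟩
  have hqy : orderOf (q ⟨y, hy⟩) = 3 := orderOf_eq_prime (by rw [← map_pow, hy3, map_one]) hy1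
  have hC := Small.Order168.centralizer_orderOf_three S.quot_card hqy
  have hmem : q ⟨b, hb⟩ ∈ Subgroup.centralizer ({q ⟨y, hy⟩} : Set _) := by
    rw [Subgroup.mem_centralizer_singleton_iff, ← map_mul, ← map_mul]
    exact congrArg q (Subtype.ext hc.symm)
  have h3 : orderOf (q ⟨b, hb⟩) ∣ 3 := by
    rw [← hC]; exact Subgroup.orderOf_dvd_natCard _ hmem
  have h2 : orderOf (q ⟨b, hb⟩) ∣ 2 := by
    refine orderOf_dvd_of_pow_eq_one ?_
    rw [pow_two, ← map_mul, show (⟨b, hb⟩ : cn t) * ⟨b, hb⟩ = 1 from Subtype.ext hb2, map_one]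
  have h1 : orderOf (q ⟨b, hb⟩) = 1 := Nat.dvd_one.1 (Nat.dvd_gcd h3 h2)
  exact ⟨⟨b, hb⟩, (QuotientGroup.eq_one_iff _).1 (orderOf_eq_one_iff.1 h1), rfl⟩

/-- An element of order 3 normalizes no Sylow 2-subgroup of the centralizer. -/
theorem three_not_normalize {t y : G} (ht : orderOf t = 2) {W : Subgroup G} (hEW : E t ≤ W)
    (hWC : W ≤ cn t) (hW : Nat.card W = 128) (hy : y ∈ cn t) (hyo : orderOf y = 3)
    (hn : ∀ a ∈ W, y * a * y⁻¹ ∈ W) : False := by
  obtain ⟨x, hx, hxo⟩ := T.exists_seven hG ht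
  set S := T.shape hG ht hx hxo
  haveI := S.core_normal
  haveI := S.quot_simple
  haveI : Fact (Nat.Prime 2) := ⟨Nat.prime_two⟩
  set R := pCore 2 (cn t)
  set q := QuotientGroup.mk' R
  set V := (W.subgroupOf (cn t)).map q
  have hRW : R ≤ W.subgroupOf (cn t) := fun r hr => hEW ⟨r, hr, rfl⟩
  have hV : Nat.card V = 8 := by
    have h1 : V.index = 21 := by
      rw [Subgroup.index_map_eq _ (QuotientGroup.mk'_surjective R)]
      swap; · rw [QuotientGroup.ker_mk']; exact hRW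
      have h := (W.subgroupOf (cn t)).card_mul_index
      rw [Nat.card_congr (Subgroup.subgroupOfEquivOfLe hWC).toEquiv, hW, T.card_centralizer ht] at h
      omega
    have h2 := V.card_mul_index
    rw [h1, S.quot_card] at h2
    omega
  obtain ⟨P, hP⟩ := (IsPGroup.of_card (p := 2) (n := 3) (by rw [hV]; norm_num)).exists_le_sylow
  have hPV : (P : Subgroup _) = V :=
    (Subgroup.eq_of_le_of_card_ge hP (by rw [Small.Order168.sylow_two_card S.quot_card P, hV])).symm
  set z : cn t := ⟨y, hy⟩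
  have hle : V.map (MulAut.conj (q z)).toMonoidHom ≤ V := by
    rintro _ ⟨_, ⟨a, ha, rfl⟩, rfl⟩
    refine ⟨z * a * z⁻¹, hn a ha, ?_⟩
    show q (z * a * z⁻¹) = q z * q a * (q z)⁻¹
    rw [map_mul, map_mul, map_inv]
  have he := Subgroup.eq_of_le_of_card_ge hle
    (le_of_eq (Subgroup.card_map_of_injective (K := V) (f := (MulAut.conj (q z)).toMonoidHom)
      (MulAut.conj (q z)).injective).symm)
  have hzN : q z ∈ Subgroup.normalizer
      ((P : Subgroup (↥(cn t) ⧸ R)) : Set (↥(cn t) ⧸ R)) := by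
    rw [hPV]
    refine Subgroup.mem_normalizer_iff.2 fun v => ⟨fun hv => hle ⟨v, hv, rfl⟩, fun hv => ?_⟩
    rw [← he] at hv
    obtain ⟨w, hw, hwe⟩ := hv
    exact ((MulAut.conj (q z)).injective hwe) ▸ hw
  rw [Small.Order168.normalizer_two S.quot_card P] at hzN
  have h8 : orderOf (q z) ∣ 8 := by
    rw [← Small.Order168.sylow_two_card S.quot_card P]; exact Subgroup.orderOf_dvd_natCard _ hzN
  have h3 : orderOf (q z) ∣ 3 := by
    refine orderOf_dvd_of_pow_eq_one ?_
    rw [← map_pow, show z ^ 3 = 1 from Subtype.ext (by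
      rw [Subgroup.coe_pow, ← hyo]; exact pow_orderOf_eq_one y), map_one]
  have h1 : orderOf (q z) = 1 := Nat.dvd_one.1 (Nat.dvd_gcd h8 h3)
  have hm : y ∈ E t := ⟨z, (QuotientGroup.eq_one_iff _).1 (orderOf_eq_one_iff.1 h1), rfl⟩
  have := T.E_sq hG ht hm
  rw [← pow_two, ← orderOf_dvd_iff_pow_eq_one, hyo] at this
  norm_num at this

end Tbl

end Cfsg.Lib.MTwentyThree
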