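import Cfsg.Agent.Lib.MTwentyThree.Data

/-!
# The block search, configurations 0 to 17
-/

set_option autoImplicit false
set_option maxRecDepth 100000
set_option maxHeartbeats 20000000

namespace Cfsg.Lib.MTwentyThree

theorem search_0 : (((cfgTable.drop 0).take 1).all fun F => checkCfg F) = true := by
  decide +kernel

theorem search_1 : (((cfgTable.drop 1).take 1).all fun F => checkCfg F) = true := by
  decide +kernel

theorem search_2 : (((cfgTable.drop 2).take 1).all fun F => checkCfg F) = true := by
  decide +kernel

theorem search_3 : (((cfgTable.drop 3).take 1).all fun F => checkCfg F) = true := by
  decide +kernel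

theorem search_4 : (((cfgTable.drop 4).take 1).all fun F => checkCfg F) = true := by
  decide +kernel

theorem search_5 : (((cfgTable.drop 5).take 1).all fun F => checkCfg F) = true := by
  decide +kernel

theorem search_6 : (((cfgTable.drop 6).take 1).all fun F => checkCfg F) = true := by
  decide +kernel

theorem search_7 : (((cfgTable.drop 7).take 1).all fun F => checkCfg F) = true := by
  decide +kernel

theorem search_8 : (((cfgTable.drop 8).take 1).all fun F => checkCfg F) = true := by
  decide +kernel

theorem search_9 : (((cfgTable.drop 9).take 1).all fun F => checkCfg F) = true := by
  decide +kernel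

theorem search_10 : (((cfgTable.drop 10).take 1).all fun F => checkCfg F) = true := by
  decide +kernel

theorem search_11 : (((cfgTable.drop 11).take 1).all fun F => checkCfg F) = true := by
  decide +kernel

theorem search_12 : (((cfgTable.drop 12).take 1).all fun F => checkCfg F) = true := by
  decide +kernel

theorem search_13 : (((cfgTable.drop 13).take 1).all fun F => checkCfg F) = true := by
  decide +kernel

theorem search_14 : (((cfgTable.drop 14).take 1).all fun F => checkCfg F) = true := by
  decide +kernel

theorem search_15 : (((cfgTable.drop 15).take 1).all fun F => checkCfg F) = true := by
  decide +kernel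

theorem search_16 : (((cfgTable.drop 16).take 1).all fun F => checkCfg F) = true := by
  decide +kernel

theorem search_17 : (((cfgTable.drop 17).take 1).all fun F => checkCfg F) = true := by
  decide +kernel

end Cfsg.Lib.MTwentyThree
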