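import Cfsg.Agent.Lib.MTwentyThree.Data

/-!
# The block search, configurations 18 to 26
-/

set_option autoImplicit false
set_option maxRecDepth 100000
set_option maxHeartbeats 20000000

namespace Cfsg.Lib.MTwentyThree

theorem search_18 : (((cfgTable.drop 18).take 1).all fun F => checkCfg F) = true := by
  decide +kernel

theorem search_19 : (((cfgTable.drop 19).take 1).all fun F => checkCfg F) = true := by
  decide +kernel

theorem search_20 : (((cfgTable.drop 20).take 1).all fun F => checkCfg F) = true := by
  decide +kernel

theorem search_21 : (((cfgTable.drop 21).take 1).all fun F => checkCfg F) = true := by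
  decide +kernel

theorem search_22 : (((cfgTable.drop 22).take 1).all fun F => checkCfg F) = true := by
  decide +kernel

theorem search_23 : (((cfgTable.drop 23).take 1).all fun F => checkCfg F) = true := by
  decide +kernel

theorem search_24 : (((cfgTable.drop 24).take 1).all fun F => checkCfg F) = true := by
  decide +kernel

theorem search_25 : (((cfgTable.drop 25).take 1).all fun F => checkCfg F) = true := by
  decide +kernel

theorem search_26 : (((cfgTable.drop 26).take 1).all fun F => checkCfg F) = true := by
  decide +kernel

end Cfsg.Lib.MTwentyThree
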