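import Cfsg.Agent.Lib.MTwentyThree.Data

/-!
# The block search, configurations 27 to 29
-/

set_option autoImplicit false
set_option maxRecDepth 100000
set_option maxHeartbeats 20000000

namespace Cfsg.Lib.MTwentyThree

theorem search_27 : (((cfgTable.drop 27).take 1).all fun F => checkCfg F) = true := by
  decide +kernel

theorem search_28 : (((cfgTable.drop 28).take 1).all fun F => checkCfg F) = true := by
  decide +kernel

theorem search_29 : (((cfgTable.drop 29).take 1).all fun F => checkCfg F) = true := by
  decide +kernel

end Cfsg.Lib.MTwentyThree
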