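import Cfsg.Agent.Lib.MTwentyThree.Data

/-!
# The block search, configurations 30 to 39
-/

set_option autoImplicit false
set_option maxRecDepth 100000
set_option maxHeartbeats 20000000

namespace Cfsg.Lib.MTwentyThree

theorem search_30 : (((cfgTable.drop 30).take 1).all fun F => checkCfg F) = true := by
  decide +kernel

theorem search_31 : (((cfgTable.drop 31).take 1).all fun F => checkCfg F) = true := by
  decide +kernel

theorem search_32 : (((cfgTable.drop 32).take 1).all fun F => checkCfg F) = true := by
  decide +kernel

theorem search_33 : (((cfgTable.drop 33).take 1).all fun F => checkCfg F) = true := by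
  decide +kernel

theorem search_34 : (((cfgTable.drop 34).take 1).all fun F => checkCfg F) = true := by
  decide +kernel

theorem search_35 : (((cfgTable.drop 35).take 1).all fun F => checkCfg F) = true := by
  decide +kernel

theorem search_36 : (((cfgTable.drop 36).take 1).all fun F => checkCfg F) = true := by
  decide +kernel

theorem search_37 : (((cfgTable.drop 37).take 1).all fun F => checkCfg F) = true := by
  decide +kernel

theorem search_38 : (((cfgTable.drop 38).take 1).all fun F => checkCfg F) = true := by
  decide +kernel

theorem search_39 : (((cfgTable.drop 39).take 1).all fun F => checkCfg F) = true := by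
  decide +kernel

end Cfsg.Lib.MTwentyThree
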