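import Cfsg.Agent.Lib.MTwentyThree.Data

/-!
# The block search, configurations 40 to 50
-/

set_option autoImplicit false
set_option maxRecDepth 100000
set_option maxHeartbeats 20000000

namespace Cfsg.Lib.MTwentyThree

theorem search_40 : (((cfgTable.drop 40).take 1).all fun F => checkCfg F) = true := by
  decide +kernel

theorem search_41 : (((cfgTable.drop 41).take 1).all fun F => checkCfg F) = true := by
  decide +kernel

theorem search_42 : (((cfgTable.drop 42).take 1).all fun F => checkCfg F) = true := by
  decide +kernel

theorem search_43 : (((cfgTable.drop 43).take 1).all fun F => checkCfg F) = true := by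
  decide +kernel

theorem search_44 : (((cfgTable.drop 44).take 1).all fun F => checkCfg F) = true := by
  decide +kernel

theorem search_45 : (((cfgTable.drop 45).take 1).all fun F => checkCfg F) = true := by
  decide +kernel

theorem search_46 : (((cfgTable.drop 46).take 1).all fun F => checkCfg F) = true := by
  decide +kernel

theorem search_47 : (((cfgTable.drop 47).take 1).all fun F => checkCfg F) = true := by
  decide +kernel

theorem search_48 : (((cfgTable.drop 48).take 1).all fun F => checkCfg F) = true := by
  decide +kernel

theorem search_49 : (((cfgTable.drop 49).take 1).all fun F => checkCfg F) = true := by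
  decide +kernel

theorem search_50 : (((cfgTable.drop 50).take 1).all fun F => checkCfg F) = true := by
  decide +kernel

end Cfsg.Lib.MTwentyThree
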