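import Cfsg.Agent.Lib.MTwentyThree.Data

/-!
# The column of M23 at an involution
-/

set_option autoImplicit false
set_option maxRecDepth 100000
set_option maxHeartbeats 20000000

namespace Cfsg.Lib.MTwentyThree

theorem check_col_two : checkCol ⟨3, 2, goalZ7⟩ = true := by decide +kernel

theorem check_col_sixteen : checkCol ⟨3, 16, goalZ7⟩ = true := by decide +kernel

theorem goal_seven_cofactor :
    (table7.all fun o => decide (o.Z ≠ goalZ7 ∨ (o.e = 3 ∧ (o.c = 2 ∨ o.c = 16)))) = true := by
  decide +kernel

end Cfsg.Lib.MTwentyThree
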