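import Cfsg.Agent.Lib.MTwentyTwo.Defs

/-!
# The block search for a simple group of order 10200960: computable part

The families of the principal blocks at 11, 7 and 5 are listed, and for every choice the possible
columns at a suitable involution are searched. A column has to respect the congruences, the
integrality of class sums, the block relations, the class multiplication count and the
orthogonality relations; the block at 23 and the remaining degrees, which are multiples of 253,
come last.
-/

set_option autoImplicit false

namespace Cfsg.Lib.MTwentyThree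

open MTwentyTwo (Slot withNat withInt normList msums cnt valsOf sqSum signs oneSlot pow2)

/-- The group order. -/
def ord : ℕ := 10200960

/-- The divisors of the order, in descending order. -/
def divList : List ℕ :=
  [10200960, 5100480, 3400320, 2550240, 2040192, 1700160, 1457280, 1275120, 1133440, 1020096,
    927360, 850080, 728640, 680064, 637560, 566720, 510048, 485760, 463680, 443520, 425040,
    364320, 340032, 318780, 309120, 291456, 283360, 255024, 242880, 231840, 226688, 221760,
    212520, 185472, 182160, 170016, 161920, 159390, 154560, 147840, 145728, 141680, 132480,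
    127512, 121440, 115920, 113344, 110880, 106260, 103040, 97152, 92736, 91080, 88704, 85008,
    80960, 79695, 77280, 73920, 72864, 70840, 66240, 63756, 63360, 61824, 60720, 57960, 56672,
    55440, 53130, 51520, 49280, 48576, 46368, 45540, 44352, 44160, 42504, 40480, 40320, 38640,
    36960, 36432, 35420, 33120, 32384, 31878, 31680, 30912, 30360, 29568, 28980, 28336, 27720,
    26565, 26496, 25760, 24640, 24288, 23184, 22770, 22176, 22080, 21252, 21120, 20608, 20240,
    20160, 19320, 18480, 18216, 17710, 16560, 16192, 15939, 15840, 15456, 15180, 14784, 14720,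
    14490, 14168, 13860, 13440, 13248, 12880, 12672, 12320, 12144, 11592, 11385, 11088, 11040,
    10626, 10560, 10304, 10120, 10080, 9856, 9660, 9240, 9108, 8855, 8832, 8280, 8096, 8064,
    7920, 7728, 7590, 7392, 7360, 7245, 7084, 7040, 6930, 6720, 6624, 6440, 6336, 6160, 6072,
    5796, 5760, 5544, 5520, 5313, 5280, 5152, 5060, 5040, 4928, 4830, 4620, 4554, 4480, 4416,
    4224, 4140, 4048, 4032, 3960, 3864, 3795, 3696, 3680, 3542, 3520, 3465, 3360, 3312, 3220,
    3168, 3080, 3036, 2944, 2898, 2880, 2772, 2760, 2688, 2640, 2576, 2530, 2520, 2464, 2415,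
    2310, 2277, 2240, 2208, 2112, 2070, 2024, 2016, 1980, 1932, 1920, 1848, 1840, 1771, 1760,
    1680, 1656, 1610, 1584, 1540, 1518, 1472, 1449, 1440, 1408, 1386, 1380, 1344, 1320, 1288,
    1265, 1260, 1232, 1155, 1152, 1120, 1104, 1056, 1035, 1012, 1008, 990, 966, 960, 924, 920,
    896, 880, 840, 828, 805, 792, 770, 759, 736, 720, 704, 693, 690, 672, 660, 644, 640, 630,
    616, 576, 560, 552, 528, 506, 504, 495, 483, 480, 462, 460, 448, 440, 420, 414, 396, 385,
    384, 368, 360, 352, 345, 336, 330, 322, 320, 315, 308, 288, 280, 276, 264, 253, 252, 240,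
    231, 230, 224, 220, 210, 207, 198, 192, 184, 180, 176, 168, 165, 161, 160, 154, 144, 140,
    138, 132, 128, 126, 120, 115, 112, 110, 105, 99, 96, 92, 90, 88, 84, 80, 77, 72, 70, 69, 66,
    64, 63, 60, 56, 55, 48, 46, 45, 44, 42, 40, 36, 35, 33, 32, 30, 28, 24, 23, 22, 21, 20, 18,
    16, 15, 14, 12, 11, 10, 9, 8, 7, 6, 5, 4, 3, 2, 1]

/-- The degrees allowed by the block at 23, when the flag is set. -/
def ok23 (f : Bool) (d : ℕ) : Bool :=
  !f || decide (d = 1 ∨ d % 23 = 0 ∨ d % 23 = 1 ∨ d % 23 = 11 ∨ d % 23 = 12 ∨ d % 23 = 22)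

/-- The degrees available at a prime with centraliser cofactor `c`, in descending order. -/
def degs (f : Bool) (p c : ℕ) : List ℕ :=
  divList.filter fun d => decide ((ord / p / c) % d = 0 ∧ (if c = 1 then 2 else 2 * p) ≤ d ∧
    d * d < ord) && ok23 f d

/-- The signed degrees of non-exceptional members. -/
def xCands (f : Bool) (p c : ℕ) : List (ℤ × ℕ) :=
  (degs f p c).flatMap fun (d : ℕ) =>
    (signs.filter fun s => (s * d - 1) % (p : ℤ) = 0).map fun s => (s, d)

/-- The signed degrees of exceptional members. -/
def tCands (f : Bool) (p e c : ℕ) : List (ℤ × ℕ) :=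
  (degs f p c).flatMap fun (d : ℕ) =>
    (signs.filter fun s => (s * d + e) % (p : ℤ) = 0 ∧ (p - 1) / e * d * d < ord).map fun s => (s, d)

/-- The possible families. -/
def std (f : Bool) (p e c : ℕ) : List (List Slot) :=
  if (p - 1) / e = 1 then (msums (xCands f p c) e 1 (ord - 1)).map (oneSlot :: ·)
  else (tCands f p e c).flatMap fun x =>
    (msums (xCands f p c) (e - 1) (1 + x.1 * x.2) (ord - 1 - (p - 1) / e * x.2 * x.2)).map
      fun l => oneSlot :: (l ++ [⟨x.1, x.2, (p - 1) / e⟩])

/-- The possible automizer orders and centraliser cofactors. -/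
def options (p : ℕ) : List (ℕ × ℕ) :=
  ((List.range p).filter fun e => decide (2 ≤ e ∧ (p - 1) % e = 0)).flatMap fun e =>
    (divList.filter fun c => decide ((ord / p) % (e * c) = 0 ∧ (ord / p / (e * c)) % p = 1 ∧
      ord / p / (e * c) ≠ 1)).map fun c => (e, c)

/-- An option with its family. -/
structure Opt where
  /-- the automizer order -/
  e : ℕ
  /-- the centraliser cofactor -/
  c : ℕ
  /-- the family -/
  Z : List Slot
deriving DecidableEq

/-- The options at a prime whose cofactor passes a test. -/
def opts (p : ℕ) (P : ℕ → Bool) : List Opt :=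
  ((options p).filter fun ec => P ec.2).flatMap fun ec =>
    (std true p ec.1 ec.2).map fun Z => ⟨ec.1, ec.2, Z⟩

/-- The options at 11. -/
def opts11 : List Opt := opts 11 fun c => decide (c % 23 ≠ 0)

/-- The options at 5 and 7 when the Sylow 11-subgroup is self-centralizing. -/
def optsSmall (p : ℕ) : List Opt := opts p fun c => decide (c % 23 ≠ 0 ∧ c % 11 ≠ 0)

/-- The options at 7 with an element of order 77. -/
def optsBad : List Opt := opts 7 fun c => decide (c % 23 ≠ 0 ∧ c % 11 = 0)

/-- The orders of the possible normalisers inside a centraliser. -/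
def normOrders (p e c : ℕ) : List ℕ :=
  divList.filter fun N => decide (N % (p * pow2 c) = 0 ∧ (p * c * e) % N = 0)

/-- The possible centraliser orders of an involution centralizing the Sylow subgroup. -/
def cents (p e c : ℕ) : List ℕ :=
  divList.filter fun C => decide (C % 23 ≠ 0 ∧ C ≤ 443520 ∧ C % 4 = 0 ∧ C % (p * pow2 c) = 0) &&
    (normOrders p e c).any fun N => decide (C % N = 0 ∧ (C / N) % p = 1)

/-- The divisor forced on a value. -/
def qof (d C : ℕ) : ℕ := d / Nat.gcd d (ord / C)

/-- A bound for the square root of a centraliser order. -/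
def rootBound (C : ℕ) : ℕ :=
  ([12, 20, 32, 48, 64, 96, 128, 192, 256, 384, 512].find? fun b => decide (C ≤ b * b)).getD 666

/-- The possible values at an involution of a character of degree `d` standing for `m`. -/
def dom (d m C : ℕ) : List ℤ :=
  if d = 1 then [1] else
    withNat (qof d C) fun q =>
      withNat (min (d - 1) (rootBound C) / q) fun k =>
        normList (((List.range (2 * k + 1)).map fun (i : ℕ) => ((i : ℤ) - k) * q).filter fun v =>
          decide ((v - d) % 4 = 0 ∧ (m : ℤ) * v * v ≤ C))

/-- The values congruent to the degree modulo `2 p`. -/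
def cong (p d : ℕ) (l : List ℤ) : List ℤ :=
  l.filter fun v => decide ((v - d) % ((2 * p : ℕ) : ℤ) = 0)

/-- An unknown of a search: weight, degree, multiplicity, candidates, whether the square is new. -/
structure Cell where
  /-- the weight in the linear relation -/
  s : ℤ
  /-- the degree -/
  d : ℕ
  /-- the number of characters -/
  m : ℕ
  /-- the candidates -/
  cand : List ℤ
  /-- whether the squares are new -/
  add : Bool

/-- A prepared unknown, with bounds for the rest of the list. -/
structure Pr where
  /-- the unknown -/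
  x : Cell
  /-- the weight in the quadratic relation -/
  w : ℤ
  /-- the largest positive weight from here on -/
  wp : ℕ
  /-- the largest negative weight from here on -/
  wn : ℕ
  /-- a bound for the squares that are not new -/
  nb : ℕ

/-- The largest square in a list. -/
def maxSq : List ℤ → ℕ
  | [] => 0
  | v :: l => max (v.natAbs * v.natAbs) (maxSq l)

/-- The bounds of the first entry. -/
def headW : List Pr → ℕ × ℕ × ℕ
  | [] => (0, 0, 0)
  | z :: _ => (z.wp, z.wn, z.nb)

/-- Preparation of a search. -/
def prep : List Cell → List Pr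
  | [] => []
  | x :: l =>
    let r := prep l
    withInt (x.s * (ord / x.d : ℕ)) fun w =>
      withNat (max w.toNat (headW r).1) fun wp =>
        withNat (max (-w).toNat (headW r).2.1) fun wn =>
          withNat ((headW r).2.2 + if x.add then 0 else x.m * maxSq x.cand) fun nb =>
            ⟨x, w, wp, wn, nb⟩ :: r

/-- The values with vanishing linear sum, small squares and, if `ex`, vanishing quadratic sum,
together with the sums of squares and of weighted squares. -/
def solve (C : ℕ) (ex : Bool) : List Pr → ℤ → ℤ → ℤ → List (List ℤ × ℤ × ℤ)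
  | [], lin, ss, qd => if decide (lin = 0) && (!ex || decide (qd = 0)) then [([], ss, qd)] else []
  | z :: l, lin, ss, qd =>
    if !ex || decide (0 ≤ qd + ((C : ℤ) - ss + z.nb) * z.wp ∧
      qd - ((C : ℤ) - ss + z.nb) * z.wn ≤ 0) then
      z.x.cand.flatMap fun v =>
        withInt (lin + z.x.s * v) fun lin' =>
          if (if l.isEmpty then decide (lin' = 0) else true) then
            withInt (ss + if z.x.add then (z.x.m : ℤ) * v * v else 0) fun ss' =>
              if ss' ≤ C then
                withInt (qd + z.w * v * v) fun qd' =>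
                  (solve C ex l lin' ss' qd').map fun r => (v :: r.1, r.2)
              else []
          else []
    else []

/-- The class multiplication test at a prime. -/
def fracOK (p e c C : ℕ) (qd : ℤ) : Bool :=
  if e % 2 = 1 then decide (qd = 0) else
    decide (0 ≤ qd) && withNat (c * qd.toNat) fun a => withNat (p * C * C) fun b =>
      decide (a % b = 0) && withNat (a / b) fun q =>
        decide (q ≤ c * c) && (List.range (c + 1)).any fun i => decide (i * i = q)

/-- Whether the degrees prime to 11 fit the 11-family. -/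
def fits (F Z : List Slot) : Bool :=
  Z.all fun x => decide (x.d % 11 = 0 ∨ cnt Z x.d ≤ cnt F x.d)

/-- The squares of the degrees divisible by 11 not occurring in a previous list. -/
def newSq (prev : List Slot) : List Slot → ℕ
  | [] => 0
  | x :: l => (if x.d % 11 = 0 ∧ cnt prev x.d = 0 then x.m * x.d * x.d else 0) + newSq prev l

/-- The options at a small prime fitting an 11-family. -/
def fitting (F : List Slot) (O : List Opt) : List Opt :=
  O.filter fun o => fits F o.Z && decide (sqSum F + newSq [] o.Z ≤ ord)

/-- The candidates at a small prime. -/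
def smallCells (g p C : ℕ) (F : List Slot) (vA : List ℤ) (prev Z : List Slot) : List Cell :=
  Z.map fun x =>
    let b := if x.d = 1 then [1] else if x.d % 11 ≠ 0 then valsOf F vA x.d else dom x.d 1 C
    ⟨x.s, x.d, x.m, if g = p then cong p x.d b else b,
      decide (x.d % 11 = 0 ∧ cnt prev x.d = 0)⟩

/-- Twice the sign of a member of the block at 23, or the sign of an exceptional one. -/
def w23 (d : ℕ) : ℤ :=
  if d % 23 = 1 then 2 else if d % 23 = 22 then -2 else if d % 23 = 12 then 1
  else if d % 23 = 11 then -1 else 0

/-- The non-exceptional degrees at 23 divisible by 11. -/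
def xList : List (ℤ × ℕ) :=
  (divList.filter fun d => decide (d % 11 = 0 ∧ (d % 23 = 1 ∨ d % 23 = 22) ∧ d * d < ord)).map
    fun d => (if d % 23 = 1 then 1 else -1, d)

/-- The exceptional degrees at 23 divisible by 11. -/
def eList : List (ℤ × ℕ) :=
  (divList.filter fun d => decide (d % 11 = 0 ∧ (d % 23 = 11 ∨ d % 23 = 12) ∧
    2 * d * d < ord)).map fun d => (if d % 23 = 12 then 1 else -1, d)

/-- The number of members with degree in the given residues modulo 23. -/
def countRes (a b : ℕ) : List Slot → ℕ
  | [] => 0
  | x :: l => (if x.d % 23 = a ∨ x.d % 23 = b then x.m else 0) + countRes a b l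

/-- A weighted sum over a family. -/
def wFun (f : ℕ → ℤ → ℤ) : List Slot → List ℤ → ℤ
  | x :: l, v :: vs => (x.m : ℤ) * f x.d v + wFun f l vs
  | _, _ => 0

/-- Twice the signed degree sum at 23. -/
def deg23 : List Slot → ℤ
  | [] => 0
  | x :: l => (x.m : ℤ) * w23 x.d * x.d + deg23 l

/-- The members of the block at 23 with degree divisible by 11, with doubled signs. -/
def cfgs23 (F : List Slot) : List (List Slot) :=
  if countRes 1 22 F ≤ 11 then
    withNat (11 - countRes 1 22 F) fun r => withInt (deg23 F / 2) fun b =>
      if countRes 11 12 F = 0 then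
        eList.flatMap fun x =>
          (msums xList r (b + x.1 * x.2) (ord - sqSum F - 2 * x.2 * x.2)).map fun l =>
            (l.map fun y => ⟨2 * y.s, y.d, 1⟩) ++ [⟨2 * x.1, x.2, 2⟩]
      else
        (msums xList r b (ord - sqSum F)).map fun l => l.map fun y => ⟨2 * y.s, y.d, 1⟩
  else []

/-- Whether the degrees of a small family at 23 fit the configuration. -/
def fits23 (Q Z : List Slot) : Bool :=
  Z.all fun x => decide (x.d % 11 ≠ 0 ∨ x.d % 23 = 0 ∨ cnt Z x.d ≤ cnt Q x.d)

/-- Whether the values of a small family agree with the block at 23. -/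
def agree23 (Q : List Slot) (vQ : List ℤ) : List Slot → List ℤ → Bool
  | x :: l, v :: vs =>
    (decide (x.d % 11 ≠ 0 ∨ x.d % 23 = 0) || (valsOf Q vQ x.d).contains v) && agree23 Q vQ l vs
  | _, _ => true

/-- A sum over the members of degree divisible by 253 not occurring in a previous list. -/
def sum253 (f : ℕ → ℤ → ℤ) (prev : List Slot) : List Slot → List ℤ → ℤ
  | x :: l, v :: vs =>
    (if x.d % 253 = 0 ∧ cnt prev x.d = 0 then (x.m : ℤ) * f x.d v else 0) + sum253 f prev l vs
  | _, _ => 0

/-- The squared degrees divisible by 253 not occurring in a previous list. -/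
def sq253 (prev : List Slot) : List Slot → ℕ
  | [] => 0
  | x :: l => (if x.d % 253 = 0 ∧ cnt prev x.d = 0 then x.m * x.d * x.d else 0) + sq253 prev l

/-- The remaining degrees: multiples of 253 with total weighted value and squares. -/
def remOK (C : ℕ) (F Q Z5 Z7 : List Slot) (vA vQ v5 v7 : List ℤ) (ss : ℤ) : Bool :=
  withNat (sqSum F + sqSum Q + sq253 [] Z5 + sq253 Z5 Z7) fun S =>
  withInt (wFun (fun d v => d * v) F vA + wFun (fun d v => d * v) Q vQ +
    sum253 (fun d v => d * v) [] Z5 v5 + sum253 (fun d v => d * v) Z5 Z7 v7) fun tot =>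
  withInt ((C : ℤ) - ss - sum253 (fun _ v => v * v) [] Z5 v5 -
    sum253 (fun _ v => v * v) Z5 Z7 v7) fun r =>
  decide (S ≤ ord ∧ (ord - S) % 64009 = 0 ∧ tot % 253 = 0 ∧ 0 ≤ r ∧ (S = ord → r = 0) ∧
    (tot / 253) * (tot / 253) ≤ (((ord - S) / 64009 : ℕ) : ℤ) * r)

/-- The columns of an 11-family. -/
def colsA (C : ℕ) (F : List Slot) : List (List ℤ × ℤ × ℤ) :=
  solve C true (prep (F.map fun x => ⟨x.s, x.d, x.m, dom x.d x.m C, true⟩)) 0 0 0

/-- Whether some columns at an involution with centralizer order `C` fit three families, and pass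
the final test `P`. -/
def colOK (P : List ℤ → List Slot → List ℤ → Bool) (g C : ℕ) (F : List Slot) (o5 o7 : Opt) :
    Bool :=
  (colsA C F).any fun a =>
    (solve C (decide (o5.e % 2 = 1)) (prep (smallCells g 5 C F a.1 [] o5.Z)) 0 a.2.1 0).any
      fun r5 => fracOK 5 o5.e o5.c C r5.2.2 &&
        (solve C (decide (o7.e % 2 = 1)) (prep (smallCells g 7 C F a.1 o5.Z o7.Z)) 0 r5.2.1 0).any
          fun r7 => fracOK 7 o7.e o7.c C r7.2.2 &&
            (cfgs23 F).any fun Q => fits23 Q o5.Z && fits23 Q o7.Z &&
              (solve C true (prep (Q.map fun x => ⟨x.s, x.d, x.m, dom x.d x.m C, true⟩))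
                (wFun (fun d v => w23 d * v) F a.1) a.2.1
                (wFun (fun d v => w23 d * v * v * (ord / d : ℕ)) F a.1)).any
                  fun rQ => agree23 Q rQ.1 o5.Z r5.1 && agree23 Q rQ.1 o7.Z r7.1 &&
                    remOK C F Q o5.Z o7.Z a.1 rQ.1 r5.1 r7.1 rQ.2.1 && P a.1 Q rQ.1

/-- The prime whose Sylow centralizer contains the involution. -/
def gOf (o5 o7 : Opt) : ℕ := if o7.c % 2 = 0 then 7 else if o5.c % 2 = 0 then 5 else 0

/-- The centraliser orders to be considered. -/
def csOf (o5 o7 : Opt) : List ℕ :=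
  if o7.c % 2 = 0 then
    (cents 7 o7.e o7.c).filter fun C => decide (C % 11 ≠ 0 ∧ (o5.c % 2 = 0 ∨ C % 5 ≠ 0))
  else if o5.c % 2 = 0 then
    (cents 5 o5.e o5.c).filter fun C => decide (C % 11 ≠ 0 ∧ C % 7 ≠ 0)
  else [1152, 384, 128]

/-- Whether the family at the prime `g` alone allows the centraliser order. -/
def preOK (g C : ℕ) (o : Opt) : Bool :=
  (solve C (decide (o.e % 2 = 1))
    (prep (o.Z.map fun x => ⟨x.s, x.d, x.m, cong g x.d (dom x.d x.m C), true⟩)) 0 0 0).any
      fun r => fracOK g o.e o.c C r.2.2

/-- Whether no involution centralizing the Sylow subgroup fits a family. -/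
def kill (p : ℕ) (o : Opt) : Bool :=
  (cents p o.e o.c).all fun C => !(preOK p C o)

/-- The pairs of small options fitting an 11-family for which an involution may exist. -/
def alive (T5 T7 : List Opt) (F : List Slot) : List (Opt × Opt) :=
  let A7 := fitting F T7
  (fitting F T5).flatMap fun o5 => (A7.filter fun o7 =>
    decide ((o5.c % 7 = 0 ↔ o7.c % 5 = 0) ∧
      sqSum F + newSq [] o5.Z + newSq o5.Z o7.Z ≤ ord) &&
    (csOf o5 o7).any fun C =>
      (decide (gOf o5 o7 = 0) || preOK (gOf o5 o7) C (if gOf o5 o7 = 7 then o7 else o5)) &&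
        colOK (fun _ _ _ => true) (gOf o5 o7) C F o5 o7).map fun o7 => (o5, o7)

end Cfsg.Lib.MTwentyThree
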