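import Cfsg.Agent.Lib.MTwentyThree.TwentyThree

/-!
# A simple group of order 10200960: the Sylow 11-subgroup is self-centralizing
-/

set_option autoImplicit false
set_option linter.style.haveILetI false
set_option linter.unusedSectionVars false

namespace Cfsg.Lib.MTwentyThree

open Cfsg Cfsg.Lib
open Cfsg.Lib.MTwentyTwo (deg intVal cast_intVal not_dvd_orderOf)

universe u

variable {G : Type u} [Group G] [Fintype G] [Fact (Nat.Prime 23)] [Fact (Nat.Prime 11)]

theorem not_twentyThree_dvd_centralizer (hG : IsM23 G) {z : G} (hz : orderOf z = 2) :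
    ¬ 23 ∣ Nat.card (Subgroup.centralizer ({z} : Set G)) := by
  obtain ⟨D⟩ := exists_dat hG 23 (by norm_num)
  exact D.not_dvd_centralizer (by rw [(D.data_twentyThree hG).2]; norm_num) (by norm_num) hz

theorem not_twentyThree_dvd_c (hG : IsM23 G) {p : ℕ} [Fact p.Prime] (D : Dat G p) (hp : p ≠ 23) :
    D.c % 23 ≠ 0 := fun h => by
  obtain ⟨D'⟩ := exists_dat hG 23 (by norm_num)
  have := D.dvd_c_symm D' (Ne.symm hp) (Nat.dvd_of_mod_eq_zero h)
  rw [(D'.data_twentyThree hG).2] at this
  exact (Fact.out : p.Prime).not_dvd_one this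

/-- The family of a subgroup centralized by an involution allows the centralizer order. -/
theorem preOK_true (hG : IsM23 G) {p : ℕ} [Fact p.Prime] {D : Dat G p} (l : Lst D)
    (hp : p = 5 ∨ p = 7 ∨ p = 11) {z : G} (hz : orderOf z = 2) (hzC : z ∈ D.C) :
    preOK p (Nat.card (Subgroup.centralizer ({z} : Set G))) ⟨D.e, D.c, l.slots⟩ = true := by
  classical
  have hp2 : p ≠ 2 := by omega
  have hz2 : z ^ 2 = 1 := hz ▸ pow_orderOf_eq_one z
  have hzp := not_dvd_orderOf (G := G) Fact.out hp2 hz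
  set C := Nat.card (Subgroup.centralizer ({z} : Set G)) with hC
  set cells := l.slots.map fun x =>
    ({ s := x.s, d := x.d, m := x.m, cand := cong p x.d (dom x.d x.m C), add := true } : Cell)
    with hcells
  have hlin : linC cells (l.vals z) = 0 :=
    l.linC_slots hz2 hzp (fun x => cong p x.d (dom x.d x.m C)) fun _ => true
  have hq : ((qC cells (l.vals z) : ℤ) : ℂ) = (ord : ℂ) * Lst.T D z :=
    l.qC_slots hz2 (deg_dvd_ord hG) (fun x => cong p x.d (dom x.d x.m C)) fun _ => true
  have hfrac := D.fracOK_of hG hp hz hq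
  have hadd : addC cells (l.vals z) ≤ C := by
    rw [hcells, l.addC_slots hz2 hzp (fun x => cong p x.d (dom x.d x.m C)) fun _ => true]
    exact sq_le_centralizer hG hz2 _
  have hmem := solve_complete C (decide (D.e % 2 = 1)) cells (l.vals z) 0 0 0
    (fun c hc => by
      obtain ⟨x, hx, rfl⟩ := List.mem_map.1 hc
      exact l.slot_mult hx)
    (by
      rw [hcells, Lst.slots, Lst.vals, List.map_map, List.forall₂_map_left_iff,
        List.forall₂_map_right_iff, List.forall₂_same]
      intro χ hχ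
      exact mem_cong (mem_dom_mult hG D hz hp2 χ) (D.mod_two_mul hp2 hz hzC ((l.mem χ).1 hχ)))
    (by rw [hlin, add_zero])
    (fun he => by
      rw [decide_eq_true_eq] at he
      have h := hfrac
      simp only [fracOK, if_pos he, decide_eq_true_eq] at h
      rw [h, add_zero])
    (by rw [zero_add]; exact hadd)
  simp only [preOK, List.any_eq_true]
  refine ⟨_, hmem, ?_⟩
  simp only [zero_add]
  exact hfrac

theorem kill_sound (hG : IsM23 G) {p : ℕ} [Fact p.Prime] {D : Dat G p} (l : Lst D)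
    (hp : p = 5 ∨ p = 7 ∨ p = 11)
    (h : (decide (D.c % 2 = 0) && kill p ⟨D.e, D.c, l.slots⟩) = true) : False := by
  simp only [Bool.and_eq_true, decide_eq_true_eq, kill, List.all_eq_true, Bool.not_eq_true'] at h
  obtain ⟨z, hz, hzC, hcs⟩ := D.exists_involution_center hG hp (Nat.dvd_of_mod_eq_zero h.1)
    fun z hz => not_twentyThree_dvd_centralizer hG hz
  have := h.2 _ hcs
  rw [preOK_true hG l hp hz hzC] at this
  exact Bool.noConfusion this

theorem exists_opts (hG : IsM23 G) {p : ℕ} [Fact p.Prime] (D : Dat G p)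
    (hp : p = 5 ∨ p = 7 ∨ p = 11) (P : ℕ → Bool) (hP : P D.c = true) :
    ∃ l : Lst D, (⟨D.e, D.c, l.slots⟩ : Opt) ∈ opts p P := by
  obtain ⟨L, h1, h2, h3⟩ := D.exists_std true hG (not_sq_dvd hG (by omega)) (ok_deg hG)
  refine ⟨⟨L, h1, h2⟩, ?_⟩
  rw [opts, List.mem_flatMap]
  exact ⟨_, List.mem_filter.2 ⟨D.mem_options hG, hP⟩, List.mem_map.2 ⟨_, h3, rfl⟩⟩

theorem eleven_data (hG : IsM23 G) (D : Dat G 11) : D.e = 5 ∧ D.c = 1 := by
  obtain ⟨l, hl⟩ := exists_opts hG D (by norm_num) (fun c => decide (c % 23 ≠ 0))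
    (decide_eq_true (not_twentyThree_dvd_c hG D (by norm_num)))
  rw [show opts 11 (fun c => decide (c % 23 ≠ 0)) = table11 from opts_eleven] at hl
  have h := List.all_eq_true.1 eleven_check _ hl
  rw [Bool.or_eq_true, decide_eq_true_eq] at h
  rcases h with (h | h) | h
  · exact h
  · exfalso
    haveI : Fact (Nat.Prime 7) := ⟨by norm_num⟩
    obtain ⟨D'⟩ := exists_dat hG 7 (by norm_num)
    have h11 : D'.c % 11 = 0 := Nat.mod_eq_zero_of_dvd
      (D.dvd_c_symm D' (by norm_num) (Nat.dvd_of_mod_eq_zero h))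
    obtain ⟨l', hl'⟩ := exists_opts hG D' (by norm_num)
      (fun c => decide (c % 23 ≠ 0 ∧ c % 11 = 0))
      (decide_eq_true ⟨not_twentyThree_dvd_c hG D' (by norm_num), h11⟩)
    rw [show opts 7 (fun c => decide (c % 23 ≠ 0 ∧ c % 11 = 0)) = tableBad from opts_bad] at hl'
    exact kill_sound hG l' (by norm_num) (List.all_eq_true.1 bad_check _ hl')
  · exact (kill_sound hG l (by norm_num) h).elim

theorem not_eleven_dvd_centralizer (hG : IsM23 G) {z : G} (hz : orderOf z = 2) :
    ¬ 11 ∣ Nat.card (Subgroup.centralizer ({z} : Set G)) := by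
  obtain ⟨D⟩ := exists_dat hG 11 (by norm_num)
  exact D.not_dvd_centralizer (by rw [(eleven_data hG D).2]; norm_num) (by norm_num) hz

theorem not_eleven_dvd_c (hG : IsM23 G) {p : ℕ} [Fact p.Prime] (D : Dat G p) (hp : p ≠ 11) :
    D.c % 11 ≠ 0 := fun h => by
  obtain ⟨D'⟩ := exists_dat hG 11 (by norm_num)
  have := D.dvd_c_symm D' (Ne.symm hp) (Nat.dvd_of_mod_eq_zero h)
  rw [(eleven_data hG D').2] at this
  exact (Fact.out : p.Prime).not_dvd_one this

end Cfsg.Lib.MTwentyThree
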