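import Cfsg.Agent.Lib.MTwentyThree.Basic

/-!
# Bookkeeping for a signed family: the list functions as sums over the principal block
-/

set_option autoImplicit false
set_option linter.style.haveILetI false
set_option linter.unusedSectionVars false

namespace Cfsg.Lib.MTwentyThree

open Cfsg Cfsg.Lib
open Cfsg.Lib.MTwentyTwo (Slot cnt valsOf sqSum deg intVal cast_intVal intVal_eq)

universe u

variable {G : Type u} [Group G] [Fintype G] {p : ℕ} [Fact p.Prime]

/-- A listing of the members of the family. -/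
structure Lst (D : Dat G p) where
  /-- the list -/
  L : List (IrrCharacter G)
  nodup : L.Nodup
  mem : ∀ χ, χ ∈ L ↔ χ ∈ D.S.Z

namespace Lst

variable {D : Dat G p} (l : Lst D)

/-- The slots. -/
noncomputable def slots : List Slot := l.L.map D.slot

/-- The values at an element. -/
noncomputable def vals (z : G) : List ℤ := l.L.map (intVal z)

/-- The signed weighted square sum of the values. -/
noncomputable def T (D : Dat G p) (z : G) : ℂ :=
  ∑ χ ∈ D.S.Z, (D.S.σ χ : ℂ) * ((intVal z χ : ℂ) * (intVal z χ : ℂ) / (deg χ : ℂ))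

theorem sum_L {M : Type*} [AddCommMonoid M] (f : IrrCharacter G → M) :
    (l.L.map f).sum = ∑ χ ∈ D.S.Z, f χ := by
  classical
  rw [← List.sum_toFinset f l.nodup]
  exact Finset.sum_congr (by ext χ; rw [List.mem_toFinset, l.mem]) fun _ _ => rfl

/-- The characters of the principal block. -/
noncomputable def B (D : Dat G p) : Finset (IrrCharacter G) :=
  open Classical in D.S.X ∪ D.S.Y

theorem mem_B {χ : IrrCharacter G} : χ ∈ B D ↔ χ ∈ D.S.X ∨ χ ∈ D.S.Y := by
  classical
  exact Finset.mem_union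

include l in
theorem sum_B {M : Type*} [AddCommMonoid M] (f : IrrCharacter G → M)
    (hf : ∀ θ' ∈ D.S.Y, f θ' = f D.S.θ) :
    ∑ χ ∈ B D, f χ = (l.L.map fun χ => D.mult χ • f χ).sum := by
  classical
  rw [l.sum_L, D.sum_Z, D.mult_θ,
    Finset.sum_congr (rfl : D.S.X = D.S.X) (f := fun χ => D.mult χ • f χ) (g := f)
      fun χ h => by rw [D.mult_of_mem_X h, one_smul],
    B, Finset.sum_union D.S.disj, Finset.sum_congr (rfl : D.S.Y = D.S.Y) hf, Finset.sum_const,
    D.S.card_Y, add_comm]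

theorem mem_B_of_mem_L {χ : IrrCharacter G} (h : χ ∈ l.L) : χ ∈ B D := by
  rw [mem_B]
  rcases D.S.mem_Z.1 ((l.mem χ).1 h) with rfl | h
  · exact Or.inr D.S.θ_mem
  · exact Or.inl h

theorem intVal_Y {θ' : IrrCharacter G} (h : θ' ∈ D.S.Y) {z : G} (hz : z ^ 2 = 1)
    (hzp : ¬ p ∣ orderOf z) : intVal z θ' = intVal z D.S.θ :=
  intVal_eq (by rw [cast_intVal D.S.θ hz, D.S.agree θ' h z hzp])

theorem exists_rep {χ : IrrCharacter G} (h : χ ∈ B D) : ∃ χ' ∈ l.L, deg χ' = deg χ ∧
    ∀ {z : G}, z ^ 2 = 1 → ¬ p ∣ orderOf z → intVal z χ' = intVal z χ := by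
  rcases mem_B.1 h with h | h
  · exact ⟨χ, (l.mem χ).2 (D.S.mem_Z.2 (Or.inr h)), rfl, fun _ _ => rfl⟩
  · exact ⟨D.S.θ, (l.mem _).2 (D.S.mem_Z.2 (Or.inl rfl)), (D.deg_Y h).symm,
      fun hz hzp => (intVal_Y h hz hzp).symm⟩

theorem one_le_mult (χ : IrrCharacter G) : 1 ≤ D.mult χ := by
  rw [Dat.mult]
  split_ifs
  · exact D.div_pos
  · exact le_rfl

theorem mem_slots {x : Slot} (h : x ∈ l.slots) : ∃ χ ∈ l.L, D.slot χ = x := List.mem_map.1 h

theorem slot_mult {x : Slot} (h : x ∈ l.slots) : 1 ≤ x.m := by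
  obtain ⟨χ, -, rfl⟩ := l.mem_slots h
  exact one_le_mult χ

theorem cnt_map (L : List (IrrCharacter G)) (d : ℕ) :
    cnt (L.map D.slot) d = (L.map fun χ => D.mult χ • (if deg χ = d then 1 else 0)).sum := by
  induction L with
  | nil => rfl
  | cons a L ih =>
    simp only [List.map_cons, cnt_cons, List.sum_cons, ih, Dat.slot, smul_eq_mul]
    split_ifs <;> simp

theorem cnt_slots (d : ℕ) : cnt l.slots d = ((B D).filter fun χ => deg χ = d).card := by
  rw [slots, cnt_map, ← l.sum_B (fun χ => if deg χ = d then 1 else 0)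
    (fun θ' h => by simp [D.deg_Y h]), Finset.sum_boole]
  simp

theorem cnt_slots_eq_zero {d : ℕ} : cnt l.slots d = 0 ↔ ∀ χ ∈ B D, deg χ ≠ d := by
  rw [l.cnt_slots, Finset.card_eq_zero, Finset.filter_eq_empty_iff]

theorem sqSum_slots : sqSum l.slots = ∑ χ ∈ B D, deg χ ^ 2 := by
  rw [l.sum_B (fun χ => deg χ ^ 2) (fun θ' h => by rw [D.deg_Y h]), slots]
  generalize l.L = L
  induction L with
  | nil => rfl
  | cons a L ih => simp only [List.map_cons, sqSum_cons, List.sum_cons, ih, Dat.slot, smul_eq_mul]; ring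

theorem newSq_slots (prev : List Slot) : newSq prev l.slots =
    ∑ χ ∈ (B D).filter (fun χ => deg χ % 11 = 0 ∧ cnt prev (deg χ) = 0), deg χ ^ 2 := by
  rw [Finset.sum_filter, l.sum_B (fun χ => if deg χ % 11 = 0 ∧ cnt prev (deg χ) = 0 then deg χ ^ 2 else 0)
    (fun θ' h => by rw [D.deg_Y h]), slots]
  generalize l.L = L
  induction L with
  | nil => rfl
  | cons a L ih =>
    simp only [List.map_cons, newSq, List.sum_cons, ih, Dat.slot, smul_eq_mul]
    split_ifs <;> ring

theorem sq253_slots (prev : List Slot) : sq253 prev l.slots =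
    ∑ χ ∈ (B D).filter (fun χ => deg χ % 253 = 0 ∧ cnt prev (deg χ) = 0), deg χ ^ 2 := by
  rw [Finset.sum_filter, l.sum_B
    (fun χ => if deg χ % 253 = 0 ∧ cnt prev (deg χ) = 0 then deg χ ^ 2 else 0)
    (fun θ' h => by rw [D.deg_Y h]), slots]
  generalize l.L = L
  induction L with
  | nil => rfl
  | cons a L ih =>
    simp only [List.map_cons, sq253, List.sum_cons, ih, Dat.slot, smul_eq_mul]
    split_ifs <;> ring

theorem countRes_slots (a b : ℕ) : countRes a b l.slots =
    ((B D).filter fun χ => deg χ % 23 = a ∨ deg χ % 23 = b).card := by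
  rw [Finset.card_filter, l.sum_B (fun χ => if deg χ % 23 = a ∨ deg χ % 23 = b then 1 else 0)
    (fun θ' h => by rw [D.deg_Y h]), slots]
  generalize l.L = L
  induction L with
  | nil => rfl
  | cons x L ih =>
    simp only [List.map_cons, countRes, List.sum_cons, ih, Dat.slot, smul_eq_mul]
    split_ifs <;> simp

theorem deg23_slots : deg23 l.slots = ∑ χ ∈ B D, w23 (deg χ) * (deg χ : ℤ) := by
  rw [l.sum_B (fun χ => w23 (deg χ) * (deg χ : ℤ)) (fun θ' h => by rw [D.deg_Y h]), slots]
  generalize l.L = L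
  induction L with
  | nil => rfl
  | cons a L ih =>
    simp only [List.map_cons, deg23, List.sum_cons, ih, Dat.slot, nsmul_eq_mul]
    ring

variable {z : G} (hz : z ^ 2 = 1) (hzp : ¬ p ∣ orderOf z)
include hz hzp

theorem wFun_slots (f : ℕ → ℤ → ℤ) :
    wFun f l.slots (l.vals z) = ∑ χ ∈ B D, f (deg χ) (intVal z χ) := by
  rw [l.sum_B (fun χ => f (deg χ) (intVal z χ)) (fun θ' h => by rw [D.deg_Y h, intVal_Y h hz hzp]),
    slots, vals]
  generalize l.L = L
  induction L with
  | nil => rfl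
  | cons a L ih => simp only [List.map_cons, wFun, List.sum_cons, ih, Dat.slot, nsmul_eq_mul]

theorem sum253_slots (f : ℕ → ℤ → ℤ) (prev : List Slot) :
    sum253 f prev l.slots (l.vals z) =
      ∑ χ ∈ (B D).filter (fun χ => deg χ % 253 = 0 ∧ cnt prev (deg χ) = 0),
        f (deg χ) (intVal z χ) := by
  rw [Finset.sum_filter, l.sum_B
    (fun χ => if deg χ % 253 = 0 ∧ cnt prev (deg χ) = 0 then f (deg χ) (intVal z χ) else 0)
    (fun θ' h => by rw [D.deg_Y h, intVal_Y h hz hzp]), slots, vals]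
  generalize l.L = L
  induction L with
  | nil => rfl
  | cons a L ih =>
    simp only [List.map_cons, sum253, List.sum_cons, ih, Dat.slot, nsmul_eq_mul]
    split_ifs <;> ring

theorem addC_slots (cand : Slot → List ℤ) (P : ℕ → Bool) :
    addC (l.slots.map fun x => ⟨x.s, x.d, x.m, cand x, P x.d⟩) (l.vals z) =
      ∑ χ ∈ (B D).filter (fun χ => P (deg χ) = true), intVal z χ * intVal z χ := by
  rw [Finset.sum_filter, l.sum_B (fun χ => if P (deg χ) = true then intVal z χ * intVal z χ else 0)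
    (fun θ' h => by rw [intVal_Y h hz hzp, D.deg_Y h]), slots, vals]
  generalize l.L = L
  induction L with
  | nil => rfl
  | cons a L ih =>
    simp only [List.map_cons, addC, List.sum_cons, ih, Dat.slot, nsmul_eq_mul]
    split_ifs <;> ring

theorem linC_slots (cand : Slot → List ℤ) (P : ℕ → Bool) :
    linC (l.slots.map fun x => ⟨x.s, x.d, x.m, cand x, P x.d⟩) (l.vals z) = 0 := by
  have e : linC (l.slots.map fun x => ⟨x.s, x.d, x.m, cand x, P x.d⟩) (l.vals z) =
      (l.L.map fun χ => D.S.σ χ * intVal z χ).sum := by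
    rw [slots, vals]
    generalize l.L = L
    induction L with
    | nil => rfl
    | cons a L ih => simp only [List.map_cons, linC, List.sum_cons, ih, Dat.slot]
  rw [e, l.sum_L]
  have h := D.S.rel z hzp
  rw [Finset.sum_congr rfl fun χ _ => by rw [← cast_intVal χ hz]] at h
  exact_mod_cast h

theorem mem_valsOf_slots {χ : IrrCharacter G} (h : χ ∈ B D) :
    intVal z χ ∈ valsOf l.slots (l.vals z) (deg χ) := by
  obtain ⟨χ', hL, hd, hv⟩ := l.exists_rep h
  rw [← hd, ← hv hz hzp]
  refine MTwentyTwo.mem_valsOf (x := D.slot χ') ?_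
  rw [slots, vals, List.zip_map']
  exact List.mem_map.2 ⟨χ', hL, rfl⟩

omit hzp in
theorem qC_slots (hdvd : ∀ χ : IrrCharacter G, deg χ ∣ ord) (cand : Slot → List ℤ) (P : ℕ → Bool) :
    ((qC (l.slots.map fun x => ⟨x.s, x.d, x.m, cand x, P x.d⟩) (l.vals z) : ℤ) : ℂ) =
      (ord : ℂ) * T D z := by
  have _ := hz
  have e : qC (l.slots.map fun x => ⟨x.s, x.d, x.m, cand x, P x.d⟩) (l.vals z) =
      (l.L.map fun χ => D.S.σ χ * ((ord / deg χ : ℕ) : ℤ) * intVal z χ * intVal z χ).sum := by
    rw [slots, vals]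
    generalize l.L = L
    induction L with
    | nil => rfl
    | cons a L ih => simp only [List.map_cons, qC, List.sum_cons, ih, Dat.slot]
  rw [e, l.sum_L, Int.cast_sum, T, Finset.mul_sum]
  refine Finset.sum_congr rfl fun χ _ => ?_
  rw [Int.cast_mul, Int.cast_mul, Int.cast_mul, Int.cast_natCast,
    Nat.cast_div (hdvd χ) (Nat.cast_ne_zero.2 (Block.charDegree_pos χ).ne')]
  ring

end Lst

end Cfsg.Lib.MTwentyThree
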