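import Cfsg.Agent.Lib.Small.Gap.SimpleData
import Cfsg.Agent.Lib.StrongEmb.TwoNilp

/-!
# Characters of degree 7 of a simple group of order 2520

The nontrivial irreducible characters of degree at most 6 have degree 4 or 6, and only one has degree
6; so a character of degree 7 with one trivial constituent has two on a subgroup of index 7.
-/

set_option autoImplicit false
set_option linter.style.haveILetI false
set_option linter.unusedSectionVars false

namespace Cfsg.Lib.MTwentyThree.Order2520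

open Cfsg Cfsg.Lib Cfsg.Lib.Small Cfsg.Lib.Small.Gap Cfsg.Lib.StrongEmb.TwoNilp

universe u

variable {S : Type u} [Group S] [Fintype S] [IsSimpleGroup S]

/-- The small degrees. -/
theorem small_degrees (hS : Nat.card S = 2520) :
    (∀ χ : IrrCharacter S, χ ≠ one' S → charDegree (χ : S → ℂ) ≤ 6 →
      charDegree (χ : S → ℂ) = 4 ∨ charDegree (χ : S → ℂ) = 6) ∧
    ∀ χ χ' : IrrCharacter S, charDegree (χ : S → ℂ) = 6 → charDegree (χ' : S → ℂ) = 6 → χ = χ' := by
  classical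
  haveI : Fact (Nat.Prime 5) := ⟨by norm_num⟩
  haveI : Fact (Nat.Prime 7) := ⟨by norm_num⟩
  have hnc : ¬ IsCyclic S := not_isCyclic_of_card (by rw [hS]; norm_num)
  have hcomm : ¬ IsMulCommutative S := fun h => hnc (by
    let _ : CommGroup S := { (inferInstance : Group S) with mul_comm := fun a b => h.is_comm.comm a b }
    exact IsSimpleGroup.isCyclic)
  obtain ⟨P5, e5, k5, ⟨S5⟩, he5, hk5, -, hC5, hopt5⟩ :=
    option_count (p := 5) hcomm (by norm_num) hS (by norm_num) (by norm_num) (by norm_num) (by norm_num)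
  obtain ⟨rfl, rfl⟩ := (show ∀ e ∈ List.range 5, ∀ k ∈ List.range (2520 / 5 / 5 + 1),
    OrderFilter.optK 2520 5 (fun _ => true) e k = true → e = 4 ∧ k = 25 by decide +kernel) e5 he5 k5 hk5 hopt5
  have hC5' : Nat.card (Subgroup.centralizer ((P5 : Subgroup S) : Set S)) = 5 := by
    rw [hC5]; decide +kernel
  obtain ⟨P7, e7, k7, ⟨S7⟩, he7, hk7, -, hC7, hopt7⟩ :=
    option_count (p := 7) hcomm (by norm_num) hS (by norm_num) (by norm_num) (by norm_num) (by norm_num)
  obtain ⟨rfl, rfl⟩ := (show ∀ e ∈ List.range 7, ∀ k ∈ List.range (2520 / 7 / 7 + 1),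
    OrderFilter.optK 2520 7 (fun _ => true) e k = true → e = 3 ∧ k = 17 by decide +kernel) e7 he7 k7 hk7 hopt7
  have hC7' : Nat.card (Subgroup.centralizer ((P7 : Subgroup S) : Set S)) = 7 := by
    rw [hC7]; decide +kernel
  have hm5 : Nat.card S = 5 * 504 := by rw [hS]
  have hm7 : Nat.card S = 7 * 360 := by rw [hS]
  have hY5 : S5.Y = {S5.θ} := by
    have h1 : S5.Y.card = 1 := by rw [S5.card_Y]
    obtain ⟨w, hw⟩ := Finset.card_eq_one.1 h1
    have := S5.θ_mem
    rw [hw, Finset.mem_singleton] at this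
    rw [hw, this]
  have hmod5 : ∀ χ : IrrCharacter S, charDegree (χ : S → ℂ) % 5 = 0 ∨
      charDegree (χ : S → ℂ) % 5 = 1 ∨ charDegree (χ : S → ℂ) % 5 = 4 := fun χ => by
    have hcov : χ ∈ S5.Z ∨ 5 ∣ charDegree (χ : S → ℂ) := by
      rcases mem_block_or_dvd S5 hC5' hm5 (by norm_num) χ with h | h | h
      · exact Or.inl (S5.mem_Z.2 (Or.inr h))
      · rw [hY5, Finset.mem_singleton] at h; exact Or.inl (S5.mem_Z.2 (Or.inl h))
      · exact Or.inr h
    rcases hcov with h | h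
    · have hc := Int.emod_eq_zero_of_dvd (Int.modEq_iff_dvd.1 (S5.cong_all rfl h).symm)
      rcases S5.sign χ h with hs | hs <;> rw [hs] at hc <;> omega
    · left; omega
  obtain ⟨a, b, d₁, d₂, f, ⟨ha, hane, had⟩, ⟨hb, hbne, hbd⟩, ⟨hθ, hθd⟩, h1, h2, h3, hd1, hd2, hd3, hsq,
    s₁, hs₁, s₂, hs₂, s, hs, hc1, hc2, hc3, hsum⟩ := S7.three_cases hnc hm7 rfl (by norm_num)
  have hblock : (f = 4 ∧ (d₁ = 15 ∧ d₂ = 20 ∨ d₁ = 20 ∧ d₂ = 15)) ∨
      (f = 10 ∧ (d₁ = 6 ∧ d₂ = 15 ∨ d₁ = 15 ∧ d₂ = 6)) :=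
    (show ∀ d₁ ∈ Nat.divisors 360, 2 ≤ d₁ → (d₁ % 5 = 0 ∨ d₁ % 5 = 1 ∨ d₁ % 5 = 4) →
      ∀ s₁ ∈ ([1, -1] : List ℤ), (s₁ * (d₁ : ℤ) - 1) % 7 = 0 → ∀ d₂ ∈ Nat.divisors 360, 2 ≤ d₂ →
      (d₂ % 5 = 0 ∨ d₂ % 5 = 1 ∨ d₂ % 5 = 4) →
      ∀ s₂ ∈ ([1, -1] : List ℤ), (s₂ * (d₂ : ℤ) - 1) % 7 = 0 → ∀ f ∈ Nat.divisors 360, 2 ≤ f →
      (f % 5 = 0 ∨ f % 5 = 1 ∨ f % 5 = 4) → ∀ s ∈ ([1, -1] : List ℤ),
      (s * (f : ℤ) + 3) % 7 = 0 → 1 + s₁ * d₁ + s₂ * d₂ + s * f = 0 →
      1 + d₁ ^ 2 + d₂ ^ 2 + (7 - 1) / 3 * f ^ 2 ≤ 2520 →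
      (f = 4 ∧ (d₁ = 15 ∧ d₂ = 20 ∨ d₁ = 20 ∧ d₂ = 15)) ∨
      (f = 10 ∧ (d₁ = 6 ∧ d₂ = 15 ∨ d₁ = 15 ∧ d₂ = 6)) by decide +kernel)
      d₁ (Nat.mem_divisors.2 ⟨hd1, by norm_num⟩) h1 (had ▸ hmod5 a) s₁ hs₁ hc1
      d₂ (Nat.mem_divisors.2 ⟨hd2, by norm_num⟩) h2 (hbd ▸ hmod5 b) s₂ hs₂ hc2
      f (Nat.mem_divisors.2 ⟨hd3, by norm_num⟩) h3 (hθd ▸ hmod5 _) s hs hc3 hsum (by rwa [hS] at hsq)
  have hab : a ≠ b := fun e => by
    have : d₁ = d₂ := by rw [← had, ← hbd, e]
    omega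
  have hane' : a ≠ S7.θ := fun e => by
    have : d₁ = f := by rw [← had, ← hθd, e]
    omega
  have hbne' : b ≠ S7.θ := fun e => by
    have : d₂ = f := by rw [← hbd, ← hθd, e]
    omega
  have hZ7 : S7.Z = {S7.θ, one' S, a, b} := by
    refine (Finset.eq_of_subset_of_card_le ?_ ?_).symm
    · intro χ hχ
      simp only [Finset.mem_insert, Finset.mem_singleton] at hχ
      rcases hχ with rfl | rfl | rfl | rfl
      exacts [S7.mem_Z.2 (Or.inl rfl), S7.one_mem, ha, hb]
    · rw [S7.card_Z, Finset.card_insert_of_notMem (by simp [hθ, hane'.symm, hbne'.symm]),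
        Finset.card_insert_of_notMem (by simp [hane.symm, hbne.symm]), Finset.card_pair hab]
  have hY7 : ∀ χ ∈ S7.Y, charDegree (χ : S → ℂ) = f := fun χ hχ => by
    have h := S7.agree χ hχ 1 (by rw [orderOf_one]; norm_num)
    rw [Block.apply_one_eq_charDegree, Block.apply_one_eq_charDegree, Nat.cast_inj] at h
    rw [h, hθd]
  have hcases : ∀ χ : IrrCharacter S, charDegree (χ : S → ℂ) ≤ 6 →
      χ = one' S ∨ χ = a ∨ χ = b ∨ charDegree (χ : S → ℂ) = f := fun χ hle => by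
    rcases mem_block_or_dvd S7 hC7' hm7 (by norm_num) χ with h | h | h
    · have hZ := S7.mem_Z.2 (Or.inr h)
      rw [hZ7] at hZ
      simp only [Finset.mem_insert, Finset.mem_singleton] at hZ
      rcases hZ with rfl | hZ
      · exact absurd h S7.θ_notMem
      · rcases hZ with h | h | h
        · exact Or.inl h
        · exact Or.inr (Or.inl h)
        · exact Or.inr (Or.inr (Or.inl h))
    · exact Or.inr (Or.inr (Or.inr (hY7 χ h)))
    · have := Block.charDegree_pos χ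
      have := Nat.le_of_dvd this h
      omega
  refine ⟨fun χ h1' hle => ?_, fun χ χ' h6 h6' => ?_⟩
  · rcases hcases χ hle with rfl | rfl | rfl | h
    · exact absurd rfl h1'
    all_goals omega
  · have e1 := hcases χ h6.le
    have e2 := hcases χ' h6'.le
    have hone : charDegree ((one' S : IrrCharacter S) : S → ℂ) = 1 := charDegree_one'
    rcases e1 with rfl | rfl | rfl | h <;> rcases e2 with rfl | rfl | rfl | h' <;>
      first | rfl | omega

/-- The multiplicities in a character of degree 7 with one trivial constituent. -/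
theorem mult_seven (hS : Nat.card S = 2520) (m : IrrCharacter S → ℕ) (h1 : m (one' S) = 1)
    (hsum : ∑ χ : IrrCharacter S, charDegree (χ : S → ℂ) * m χ = 7) :
    ∀ χ : IrrCharacter S, m χ = if χ = one' S ∨ charDegree (χ : S → ℂ) = 6 then 1 else 0 := by
  classical
  obtain ⟨hdeg, huniq⟩ := small_degrees hS
  rw [← Finset.add_sum_erase _ _ (Finset.mem_univ (one' S)), h1, mul_one, charDegree_one'] at hsum
  set U := (Finset.univ : Finset (IrrCharacter S)).erase (one' S) with hU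
  have h6 : ∑ χ ∈ U, charDegree (χ : S → ℂ) * m χ = 6 := by omega
  have hsmall : ∀ χ ∈ U, m χ ≠ 0 → charDegree (χ : S → ℂ) = 4 ∨ charDegree (χ : S → ℂ) = 6 := by
    intro χ hχ hm
    refine hdeg χ (Finset.ne_of_mem_erase hχ) ?_
    have := Finset.single_le_sum (f := fun χ : IrrCharacter S => charDegree (χ : S → ℂ) * m χ)
      (fun _ _ => Nat.zero_le _) hχ
    rw [h6] at this
    exact le_trans (Nat.le_mul_of_pos_right _ (Nat.pos_of_ne_zero hm)) this
  obtain ⟨χ₆, hχ₆, hm₆⟩ : ∃ χ ∈ U, charDegree (χ : S → ℂ) * m χ ≠ 0 :=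
    Finset.exists_ne_zero_of_sum_ne_zero (by rw [h6]; norm_num)
  have hm0 : m χ₆ ≠ 0 := fun e => hm₆ (by rw [e, mul_zero])
  have hrest := Finset.add_sum_erase U (fun χ : IrrCharacter S => charDegree (χ : S → ℂ) * m χ) hχ₆
  rw [h6] at hrest
  have hzero : ∀ χ ∈ U.erase χ₆, m χ = 0 := by
    intro χ hχ
    by_contra hm
    have h4 := Finset.single_le_sum (f := fun χ : IrrCharacter S => charDegree (χ : S → ℂ) * m χ)
      (fun _ _ => Nat.zero_le _) hχ
    have hd := hsmall χ (Finset.mem_of_mem_erase hχ) hm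
    have := Nat.le_mul_of_pos_right (charDegree (χ : S → ℂ)) (Nat.pos_of_ne_zero hm)
    have := Nat.le_mul_of_pos_right (charDegree (χ₆ : S → ℂ)) (Nat.pos_of_ne_zero hm0)
    have := hsmall χ₆ hχ₆ hm0
    omega
  have hd6 : charDegree (χ₆ : S → ℂ) = 6 ∧ m χ₆ = 1 := by
    rw [Finset.sum_eq_zero fun χ hχ => by rw [hzero χ hχ, mul_zero], add_zero] at hrest
    rcases hsmall χ₆ hχ₆ hm0 with h | h <;> rw [h] at hrest
    · omega
    · exact ⟨h, by omega⟩
  intro χ
  by_cases hχ : χ = one' S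
  · rw [if_pos (Or.inl hχ), hχ, h1]
  by_cases he : charDegree (χ : S → ℂ) = 6
  · rw [if_pos (Or.inr he), huniq χ χ₆ he hd6.1, hd6.2]
  · rw [if_neg (by tauto)]
    exact hzero χ (Finset.mem_erase.2 ⟨fun e => he (e ▸ hd6.1),
      Finset.mem_erase.2 ⟨hχ, Finset.mem_univ _⟩⟩)

/-- A subgroup of index 7 has two fixed points in such a character. -/
theorem avg_two (hS : Nat.card S = 2520) {φ : S → ℂ} (hφ : IsCharacter S φ) (h7 : φ 1 = 7)
    (hinv : (Nat.card S : ℂ)⁻¹ * ∑ g, φ g = 1) (M : Subgroup S) [Fintype M] (hM : M.index = 7) :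
    (Nat.card M : ℂ)⁻¹ * ∑ g : M, φ (g : S) = 2 := by
  classical
  have hex : ∀ χ : IrrCharacter S, ∃ n : ℕ, classInner φ (χ : S → ℂ) = n := fun χ =>
    hφ.exists_nat_classInner χ.2.isCharacter
  choose m hm using hex
  have hexp : ∀ g, φ g = ∑ χ : IrrCharacter S, (m χ : ℂ) * (χ : S → ℂ) g := fun g => by
    have h := congrFun (Char.eq_sum_classInner hφ.isClassFunction) g
    simp only [Finset.sum_apply, Pi.smul_apply, smul_eq_mul, hm] at h
    exact h
  have hm1 : m (one' S) = 1 := by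
    have h := hm (one' S)
    simp only [classInner, one'_apply, map_one, mul_one, hinv] at h
    exact_mod_cast h.symm
  have hmv := mult_seven hS m hm1 (by
    have h := hexp 1
    rw [h7] at h
    simp only [Block.apply_one_eq_charDegree] at h
    have h' : ((∑ χ : IrrCharacter S, charDegree (χ : S → ℂ) * m χ : ℕ) : ℂ) = ((7 : ℕ) : ℂ) := by
      push_cast
      rw [h]
      exact Finset.sum_congr rfl fun χ _ => mul_comm _ _
    exact_mod_cast h')
  have hM0 : (Nat.card M : ℂ) ≠ 0 := Nat.cast_ne_zero.2 Nat.card_pos.ne'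
  have hk1 : fixDim M (one' S) = 1 := by
    have h := avg_eq M (one' S)
    simp only [one'_apply, Finset.sum_const, Finset.card_univ, nsmul_eq_mul, mul_one,
      ← Nat.card_eq_fintype_card] at h
    rw [inv_mul_cancel₀ hM0] at h
    exact_mod_cast h.symm
  have hkv := mult_seven hS (fun χ => fixDim M χ) hk1 (by
    have h := sum_degree_fixDim M
    have hd : (Nat.card S : ℂ) / Nat.card M = 7 := by
      rw [div_eq_iff hM0, ← M.card_mul_index, hM]; push_cast; ring
    rw [hd] at h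
    simp only [Block.apply_one_eq_charDegree] at h
    exact_mod_cast h)
  simp only [hexp]
  rw [Finset.sum_comm, Finset.mul_sum,
    Finset.sum_congr rfl (g := fun χ : IrrCharacter S => ((m χ * fixDim M χ : ℕ) : ℂ)) fun χ _ => by
      rw [← Finset.mul_sum, ← mul_left_comm, avg_eq]; push_cast; rfl,
    ← Nat.cast_sum, ← Finset.add_sum_erase _ _ (Finset.mem_univ (one' S)), hm1, hk1,
    Finset.sum_congr rfl (g := fun χ => m χ) fun χ _ => by
      rw [hmv χ, show fixDim M χ = _ from hkv χ]; split <;> rfl]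
  have h7' : ((∑ χ : IrrCharacter S, charDegree (χ : S → ℂ) * m χ : ℕ) : ℂ) = 7 := by
    have h := hexp 1
    rw [h7] at h
    simp only [Block.apply_one_eq_charDegree] at h
    push_cast
    rw [h]
    exact Finset.sum_congr rfl fun χ _ => mul_comm _ _
  have h7n : ∑ χ : IrrCharacter S, charDegree (χ : S → ℂ) * m χ = 7 := by exact_mod_cast h7'
  rw [← Finset.add_sum_erase _ _ (Finset.mem_univ (one' S)), hm1, mul_one, charDegree_one',
    Finset.sum_congr rfl (g := fun χ : IrrCharacter S => 6 * m χ) fun χ hχ => by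
      rw [hmv χ]
      by_cases h6 : charDegree (χ : S → ℂ) = 6
      · simp [h6]
      · simp [h6, Finset.ne_of_mem_erase hχ],
    ← Finset.mul_sum] at h7n
  have h1 : ∑ χ ∈ (Finset.univ : Finset (IrrCharacter S)).erase (one' S), m χ = 1 := by omega
  rw [h1]
  norm_num

end Cfsg.Lib.MTwentyThree.Order2520
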