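import Cfsg.Agent.Lib.MTwentyThree.Pairs
import Cfsg.Agent.Lib.MTwentyThree.QuotSeven

/-!
# Fixed vectors of the character of degree 22

A subgroup of order 360 of the normalizer meeting the elementary group trivially spans with it a
subgroup with two independent fixed vectors, and fixes at most three.
-/

set_option autoImplicit false
set_option linter.style.haveILetI false
set_option linter.unusedSectionVars false

namespace Cfsg.Lib.MTwentyThree

open Cfsg Cfsg.Lib Cfsg.Lib.StrongEmb.TwoNilp
open Cfsg.Lib.Linear.MinDegree (sum_char_eq_finrank_invariants)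
open Cfsg.Lib.MTwentyTwo (deg)

universe u

noncomputable local instance (priority := high) fintypeSubgroupMTwentyThreeFix {A : Type u}
    [Group A] [Fintype A] (H : Subgroup A) : Fintype H := Fintype.ofFinite H

variable {G : Type u} [Group G]

/-- A complement of the elementary group in a maximal subgroup of the normalizer. -/
structure Comp (t : G) (L : Subgroup G) : Prop where
  ht : orderOf t = 2
  le : L ≤ nE t
  card : Nat.card L = 360
  disj : E t ⊓ L = ⊥

theorem fixedVec_le_one (χ : IrrCharacter G) (v : Fin χ.2.choose → ℂ) : rep χ 1 v = v := by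
  simp

variable [Fintype G]

namespace Tbl

variable (T : Tbl G) (hG : IsM23 G)
include T hG

theorem nE_conj {t : G} (ht : orderOf t = 2) (g : G) :
    nE (g * t * g⁻¹) = (nE t).map (MulAut.conj g).toMonoidHom := by
  have ht' : orderOf (g * t * g⁻¹) = 2 := by
    rw [show orderOf (g * t * g⁻¹) = orderOf t from (MulAut.conj g).orderOf_eq t, ht]
  refine (Subgroup.eq_of_le_of_card_ge ?_ ?_).symm
  · rintro _ ⟨n, hn, rfl⟩
    refine Subgroup.mem_normalizer_iff.2 fun b => ?_
    show b ∈ E (g * t * g⁻¹) ↔ g * n * g⁻¹ * b * (g * n * g⁻¹)⁻¹ ∈ E (g * t * g⁻¹)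
    rw [T.E_conj hG ht, Subgroup.mem_map_equiv, Subgroup.mem_map_equiv, MulAut.conj_symm_apply,
      MulAut.conj_symm_apply,
      show g⁻¹ * (g * n * g⁻¹ * b * (g * n * g⁻¹)⁻¹) * g = n * (g⁻¹ * b * g) * n⁻¹ by group]
    exact Subgroup.mem_normalizer_iff.1 hn _
  · rw [Subgroup.card_map_of_injective (K := nE t) (f := (MulAut.conj g).toMonoidHom)
      (MulAut.conj g).injective, T.card_nE hG ht, T.card_nE hG ht']

/-- Two elementary groups with a common complement. -/
theorem exists_comp {t : G} (ht : orderOf t = 2) : ∃ (t' : G) (L : Subgroup G),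
    Comp t L ∧ Comp t' L ∧ E t' ⊓ nE t = ⊥ := by
  obtain ⟨⟨g, hg⟩, hdis⟩ := T.pairs hG ht
  obtain ⟨h1, h2⟩ := hdis g hg
  set t' := g * t * g⁻¹
  have hN : nE t' = (nE t).map (MulAut.conj g).toMonoidHom := T.nE_conj hG ht g
  have hA : E t' = (E t).map (MulAut.conj g).toMonoidHom := T.E_conj hG ht g
  refine ⟨t', nE t ⊓ (nE t).map (MulAut.conj g).toMonoidHom, ⟨ht, inf_le_left, hg, ?_⟩,
    ⟨?_, hN ▸ inf_le_right, hg, ?_⟩, hA ▸ h2⟩
  · exact le_antisymm (le_trans (inf_le_inf_left _ inf_le_right) h1.le) bot_le
  · rw [show orderOf t' = orderOf t from (MulAut.conj g).orderOf_eq t, ht]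
  · exact le_antisymm (le_trans (inf_le_inf (hA ▸ le_rfl) inf_le_left) h2.le) bot_le

theorem comp_trans {t : G} {L : Subgroup G} (hL : Comp t L) {a b : G} (ha : a ∈ E t) (ha1 : a ≠ 1)
    (hb : b ∈ E t) (hb1 : b ≠ 1) : ∃ l ∈ L, l * a * l⁻¹ = b := by
  classical
  set A := (Finset.univ.filter fun x : G => x ∈ E t).erase 1
  have hA15 : A.card = 15 := by
    rw [Finset.card_erase_of_mem (by simp [(E t).one_mem]), T.card_E_finset hG hL.ht]
  have hsub : orb L a ⊆ A := fun x hx => by
    obtain ⟨l, hl, rfl⟩ := mem_orb.1 hx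
    exact Finset.mem_erase.2 ⟨fun e => ha1 (conj_eq_one_iff.1 e),
      Finset.mem_filter.2 ⟨Finset.mem_univ _, mem_nE (hL.le hl) ha⟩⟩
  have h24 : Nat.card (L ⊓ cn a : Subgroup G) ∣ 24 := by
    rw [show (24 : ℕ) = Nat.gcd 360 2688 by norm_num]
    exact Nat.dvd_gcd (hL.card ▸ Subgroup.card_dvd_of_le inf_le_left)
      (T.card_centralizer (T.orderOf_E hG hL.ht ha ha1) ▸ Subgroup.card_dvd_of_le inf_le_right)
  have h360 := card_eq_orb_mul L a
  rw [hL.card] at h360
  have h24' := Nat.le_of_dvd (by norm_num) h24
  have hle := Finset.card_le_card hsub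
  have hge : 15 ≤ (orb L a).card := by nlinarith
  have he : orb L a = A := Finset.eq_of_subset_of_card_le hsub (by omega)
  exact mem_orb.1 (he ▸ Finset.mem_erase.2 ⟨hb1, Finset.mem_filter.2 ⟨Finset.mem_univ _, hb⟩⟩)

theorem mem_join {t : G} {L : Subgroup G} (hL : Comp t L) {k : G} (hk : k ∈ E t ⊔ L) :
    ∃ a ∈ E t, ∃ l ∈ L, a * l = k := by
  rw [← SetLike.mem_coe, Subgroup.coe_mul_of_right_le_normalizer_left (E t) L hL.le] at hk
  obtain ⟨a, ha, l, hl, e⟩ := hk
  exact ⟨a, ha, l, hl, e⟩

theorem card_join {t : G} {L : Subgroup G} (hL : Comp t L) :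
    Nat.card (E t ⊔ L : Subgroup G) = 5760 := by
  rw [← Nat.card_congr (Equiv.ofBijective (fun p : E t × L =>
    (⟨(p.1 : G) * p.2, Subgroup.mul_mem_sup p.1.2 p.2.2⟩ : (E t ⊔ L : Subgroup G))) ⟨?_, ?_⟩),
    Nat.card_prod, T.card_E hG hL.ht, hL.card]
  · rintro ⟨⟨a, ha⟩, ⟨l, hl⟩⟩ ⟨⟨b, hb⟩, ⟨m, hm⟩⟩ h
    have h' : a * l = b * m := congrArg Subtype.val h
    have hmem : b⁻¹ * a ∈ E t ⊓ L := ⟨(E t).mul_mem ((E t).inv_mem hb) ha, by
      rw [show b⁻¹ * a = m * l⁻¹ from (by
        rw [inv_mul_eq_iff_eq_mul, ← mul_assoc, ← h', mul_inv_cancel_right])]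
      exact L.mul_mem hm (L.inv_mem hl)⟩
    rw [hL.disj, Subgroup.mem_bot, inv_mul_eq_one] at hmem
    subst hmem
    have : l = m := mul_left_cancel h'
    subst this
    rfl
  · rintro ⟨k, hk⟩
    obtain ⟨a, ha, l, hl, e⟩ := T.mem_join hG hL hk
    exact ⟨(⟨a, ha⟩, ⟨l, hl⟩), Subtype.ext e⟩

theorem join_le {t : G} {L : Subgroup G} (hL : Comp t L) : E t ⊔ L ≤ nE t :=
  sup_le (E_le_nE t) hL.le

theorem a_ne_one : T.a ≠ Small.one' G := fun e => by
  have h := congrArg deg e
  rw [T.ha, deg_one'] at h
  norm_num at h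

theorem fix_E_dim {t : G} (ht : orderOf t = 2) : fixDim (E t) T.a = 7 := by
  classical
  have h := avg_eq (E t) T.a
  rw [← Finset.add_sum_erase _ _ (Finset.mem_univ (1 : E t)),
    Finset.sum_congr rfl (g := fun _ => ((6 : ℤ) : ℂ)) fun a ha => by
      rw [T.apply_inv_elt (T.orderOf_E hG ht a.2 fun e => Finset.ne_of_mem_erase ha (Subtype.ext e)) T.a,
        T.ha]; rfl,
    Finset.sum_const, Finset.card_erase_of_mem (Finset.mem_univ _), Finset.card_univ,
    ← Nat.card_eq_fintype_card, T.card_E hG ht, OneMemClass.coe_one, MEleven.apply_one,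
    show MEleven.deg T.a = 22 from T.ha] at h
  norm_num at h
  exact_mod_cast h.symm

theorem fix_nE_dim {t : G} (ht : orderOf t = 2) : fixDim (nE t) T.a = 1 := (T.constituents hG ht).2.1

/-- A subgroup of index 7 of the normalizer containing `E t` has a fixed space of dimension 2. -/
theorem fix_seven_index {t : G} (ht : orderOf t = 2) {K : Subgroup G} (h1 : E t ≤ K) (h2 : K ≤ nE t)
    (hK : Nat.card K = 5760) : fixDim K T.a = 2 := by
  classical
  set N := nE t
  set A' := (E t).subgroupOf N
  haveI hA'n : A'.Normal := ⟨fun a ha n => mem_nE n.2 ha⟩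
  set q := QuotientGroup.mk' A'
  haveI : Fintype (↥N ⧸ A') := Fintype.ofFinite _
  have hQ : Nat.card (↥N ⧸ A') = 2520 := by
    have h := A'.card_eq_card_quotient_mul_card_subgroup
    rw [T.card_nE hG ht, Nat.card_congr (Subgroup.subgroupOfEquivOfLe (E_le_nE t)).toEquiv,
      T.card_E hG ht] at h
    omega
  haveI : Nontrivial (↥N ⧸ A') := by rw [← Finite.one_lt_card_iff_nontrivial, hQ]; norm_num
  haveI : IsSimpleGroup (↥N ⧸ A') := ⟨fun M hM => by
    have hsur : Function.Surjective q := QuotientGroup.mk'_surjective _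
    have hAM : A' ≤ M.comap q := (QuotientGroup.ker_mk' A').ge.trans (Subgroup.ker_le_comap _ _)
    rcases T.nE_normal_cases hG ht (M := (M.comap q).map N.subtype)
      (fun a ha => ⟨⟨a, E_le_nE t ha⟩, hAM (show (⟨a, E_le_nE t ha⟩ : N) ∈ A' from ha), rfl⟩)
      (Subgroup.map_subtype_le _) (fun g hg m hm => by
        obtain ⟨m, hm, rfl⟩ := hm
        exact ⟨⟨g, hg⟩ * m * ⟨g, hg⟩⁻¹, (hM.comap q).conj_mem m hm _, rfl⟩) with h | h
    · left
      rw [← Subgroup.map_comap_eq_self_of_surjective hsur M]
      refine (Subgroup.map_eq_bot_iff _).2 fun m hm => ?_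
      rw [QuotientGroup.ker_mk']
      show (m : G) ∈ E t
      rw [← h]
      exact ⟨m, hm, rfl⟩
    · right
      refine top_le_iff.1 fun m _ => ?_
      obtain ⟨n, rfl⟩ := hsur m
      obtain ⟨n', hn', e⟩ : (n : G) ∈ (M.comap q).map N.subtype := h.symm ▸ n.2
      rw [← Subtype.ext e]
      exact hn'⟩
  set ρN : Representation ℂ N (Fin T.a.2.choose → ℂ) := MonoidHom.comp (rep T.a) N.subtype
  set ρQ := Representation.quotientToInvariants ρN A'
  set M := (K.subgroupOf N).map q
  have hMi : M.index = 7 := by
    rw [Subgroup.index_map_eq _ (QuotientGroup.mk'_surjective A') (by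
      rw [QuotientGroup.ker_mk']; exact fun a ha => h1 ha)]
    have h := (K.subgroupOf N).card_mul_index
    rw [T.card_nE hG ht, Nat.card_congr (Subgroup.subgroupOfEquivOfLe h2).toEquiv, hK] at h
    omega
  have hE : Module.finrank ℂ (Representation.invariants (MonoidHom.comp ρN A'.subtype)) =
      fixDim (E t) T.a :=
    LinearEquiv.finrank_eq
      { toFun := fun v => ⟨v.1, (Representation.mem_invariants _ _).2 fun a =>
          ((Representation.mem_invariants _ _).1 v.2 ⟨⟨a, E_le_nE t a.2⟩, a.2⟩ :)⟩
        invFun := fun v => ⟨v.1, (Representation.mem_invariants _ _).2 fun a =>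
          ((Representation.mem_invariants _ _).1 v.2 ⟨a.1.1, a.2⟩ :)⟩
        left_inv := fun v => rfl
        right_inv := fun v => rfl
        map_add' := fun v w => rfl
        map_smul' := fun c v => rfl }
  have hN' : Module.finrank ℂ ρQ.invariants = fixDim N T.a :=
    LinearEquiv.finrank_eq
      { toFun := fun v => ⟨v.1.1, (Representation.mem_invariants _ _).2 fun n =>
          congrArg Subtype.val ((Representation.mem_invariants _ _).1 v.2 (q n))⟩
        invFun := fun v => ⟨⟨v.1, (Representation.mem_invariants _ _).2 fun a =>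
          ((Representation.mem_invariants _ _).1 v.2 a.1 :)⟩, (Representation.mem_invariants _ _).2 fun g => by
            obtain ⟨n, rfl⟩ := QuotientGroup.mk'_surjective A' g
            exact Subtype.ext ((Representation.mem_invariants _ _).1 v.2 n :)⟩
        left_inv := fun v => rfl
        right_inv := fun v => rfl
        map_add' := fun v w => rfl
        map_smul' := fun c v => rfl }
  have hK' : Module.finrank ℂ (Representation.invariants (MonoidHom.comp ρQ M.subtype)) = fixDim K T.a :=
    LinearEquiv.finrank_eq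
      { toFun := fun v => ⟨v.1.1, (Representation.mem_invariants _ _).2 fun k =>
          congrArg Subtype.val ((Representation.mem_invariants _ _).1 v.2
            ⟨q ⟨k, h2 k.2⟩, ⟨⟨k, h2 k.2⟩, k.2, rfl⟩⟩)⟩
        invFun := fun v => ⟨⟨v.1, (Representation.mem_invariants _ _).2 fun a =>
          ((Representation.mem_invariants _ _).1 v.2 ⟨a.1.1, h1 a.2⟩ :)⟩,
            (Representation.mem_invariants _ _).2 fun g => by
            obtain ⟨g, k, hk, rfl⟩ := g
            exact Subtype.ext ((Representation.mem_invariants _ _).1 v.2 ⟨k.1, hk⟩ :)⟩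
        left_inv := fun v => rfl
        right_inv := fun v => rfl
        map_add' := fun v w => rfl
        map_smul' := fun c v => rfl }
  have h := Order2520.avg_two hQ (φ := ρQ.character) (Char.isCharacter_character ρQ)
    (by rw [Representation.char_one, hE, T.fix_E_dim hG ht]; norm_num)
    (by rw [sum_char_eq_finrank_invariants, hN', T.fix_nE_dim hG ht]; norm_num) M hMi
  have h' := sum_char_eq_finrank_invariants (G := M) (MonoidHom.comp ρQ M.subtype)
  rw [hK'] at h'
  have h'' : (fixDim K T.a : ℂ) = 2 := h'.symm.trans h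
  exact_mod_cast h''

theorem fix_join {t : G} {L : Subgroup G} (hL : Comp t L) : fixDim (E t ⊔ L) T.a = 2 :=
  T.fix_seven_index hG hL.ht le_sup_left (T.join_le hG hL) (T.card_join hG hL)

/-- The fixed space of the complement is at most one larger. -/
theorem fix_comp_le {t : G} {L : Subgroup G} (hL : Comp t L) : fixDim L T.a ≤ 3 := by
  classical
  have hA := T.card_E hG hL.ht
  haveI : Fact (Nat.Prime 2) := ⟨Nat.prime_two⟩
  obtain ⟨H, hH⟩ := Sylow.exists_subgroup_card_pow_prime (G := E t) 2 (n := 3)
    (by rw [hA]; norm_num)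
  have hHi : H.index = 2 := by
    have h := H.card_mul_index
    rw [hH, hA] at h
    omega
  set V := Fin T.a.2.choose → ℂ
  set ρ : Representation ℂ G V := rep T.a
  set lam : E t → ℂ := fun a => if a ∈ H then 1 else -1 with hlam
  have hlam_mul : ∀ a b : E t, lam (a * b) = lam a * lam b := by
    intro a b
    have h := Subgroup.mul_mem_iff_of_index_two hHi (a := a) (b := b)
    simp only [hlam]
    by_cases ha : a ∈ H <;> by_cases hb : b ∈ H <;> simp [ha, hb, h]
  have hlam1 : lam 1 = 1 := by simp [hlam, H.one_mem]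
  have hlamsum : ∑ a : E t, lam a = 0 := by
    simp only [hlam, Finset.sum_ite, Finset.sum_const, nsmul_eq_mul]
    rw [show (Finset.univ.filter fun a : E t => ¬ a ∈ H).card = 8 by
      rw [← Finset.compl_filter, Finset.card_compl, ← Nat.card_eq_fintype_card, hA,
        ← Fintype.card_subtype, ← Nat.card_eq_fintype_card, hH]; norm_num,
      ← Fintype.card_subtype, ← Nat.card_eq_fintype_card, hH]
    norm_num
  -- the eigenspace
  let σ : Representation ℂ (E t) V :=
    { toFun := fun a => lam a • ρ (a : G)
      map_one' := by rw [hlam1, one_smul, OneMemClass.coe_one, map_one]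
      map_mul' := fun a b => by
        rw [hlam_mul, MulMemClass.coe_mul, map_mul, smul_mul_smul_comm] }
  have hσ : Module.finrank ℂ σ.invariants = 1 := by
    have h := sum_char_eq_finrank_invariants σ
    have hc : ∀ a : E t, σ.character a = lam a * (T.a : G → ℂ) (a : G) := fun a => by
      show LinearMap.trace ℂ V (lam a • ρ (a : G)) = _
      rw [map_smul, smul_eq_mul]
      exact congrArg (lam a * ·) (congrFun (rep_char T.a) (a : G))
    have hsum : ∑ a : E t, σ.character a = 16 := by
      simp only [hc]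
      rw [← Finset.add_sum_erase _ _ (Finset.mem_univ (1 : E t)), hlam1, OneMemClass.coe_one,
        MEleven.apply_one, show MEleven.deg T.a = 22 from T.ha,
        Finset.sum_congr rfl (g := fun a => lam a * 6) fun a ha => by
          rw [T.apply_inv_elt (T.orderOf_E hG hL.ht a.2 fun e =>
            Finset.ne_of_mem_erase ha (Subtype.ext e)) T.a, T.ha]
          norm_num [invV],
        ← Finset.sum_mul, Finset.sum_erase_eq_sub (Finset.mem_univ _), hlamsum, hlam1]
      norm_num
    rw [hsum, hA] at h
    norm_num at h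
    exact_mod_cast h.symm
  -- the map
  let Ψ : (resRep L T.a).invariants →ₗ[ℂ] σ.invariants :=
    { toFun := fun v => ⟨∑ a : E t, lam a • ρ (a : G) v.1, (Representation.mem_invariants _ _).2 fun b => by
        show lam b • ρ (b : G) (∑ a : E t, lam a • ρ (a : G) v.1) = _
        rw [map_sum, Finset.smul_sum]
        refine Fintype.sum_equiv (Equiv.mulLeft b) _ _ fun a => ?_
        rw [map_smul, smul_smul, ← Module.End.mul_apply, ← map_mul, ← hlam_mul, ← MulMemClass.coe_mul]
        rfl⟩
      map_add' := fun v w => Subtype.ext (by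
        simp [smul_add, Finset.sum_add_distrib])
      map_smul' := fun c v => Subtype.ext (by
        simp [Finset.smul_sum, smul_comm c]) }
  have hker : Module.finrank ℂ (LinearMap.ker Ψ) ≤ fixDim (E t ⊔ L) T.a := by
    let Φ : LinearMap.ker Ψ →ₗ[ℂ] (resRep (E t ⊔ L) T.a).invariants :=
      LinearMap.codRestrict _ ((Submodule.subtype _).comp (LinearMap.ker Ψ).subtype) fun v => by
        refine (Representation.mem_invariants _ _).2 fun k => ?_
        have hvL : ∀ l ∈ L, ρ l v.1.1 = v.1.1 := fun l hl =>
          ((Representation.mem_invariants _ _).1 v.1.2 ⟨l, hl⟩ :)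
        have hv : ∑ a : E t, lam a • ρ (a : G) v.1.1 = 0 := congrArg Subtype.val (LinearMap.mem_ker.1 v.2)
        -- averaging the map over the complement
        set f : E t → V := fun a => ρ (a : G) v.1.1
        set c : L → E t → E t := fun l a => ⟨(l : G) * a * (l : G)⁻¹, mem_nE (hL.le l.2) a.2⟩
        have hcl : ∀ (l : L) (a : E t), ρ (l : G) (f a) = f (c l a) := fun l a => by
          show ρ (l : G) (ρ (a : G) v.1.1) = ρ ((l : G) * a * (l : G)⁻¹) v.1.1
          conv_rhs => rw [map_mul, Module.End.mul_apply, hvL _ (L.inv_mem l.2), map_mul,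
            Module.End.mul_apply]
        have hS1 : ∑ l : L, f (c l 1) = (360 : ℂ) • f 1 := by
          rw [Finset.sum_congr rfl fun l _ => show f (c l 1) = f 1 by
            rw [show c l 1 = 1 from Subtype.ext (by simp [c])],
            Finset.sum_const, Finset.card_univ, ← Nat.card_eq_fintype_card, hL.card,
            ← Nat.cast_smul_eq_nsmul ℂ]
          norm_num
        set F := ∑ b ∈ (Finset.univ : Finset (E t)).erase 1, f b
        have hF : ∀ l : L, ∑ a ∈ (Finset.univ : Finset (E t)).erase 1, f (c l a) = F := fun l => by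
          refine Finset.sum_nbij' (c l) (c l⁻¹) ?_ ?_ ?_ ?_ fun a _ => rfl
          · intro a ha
            rw [Finset.mem_erase] at ha ⊢
            refine ⟨?_, Finset.mem_univ _⟩
            replace ha := ha.1
            exact fun e => ha (Subtype.ext (conj_eq_one_iff.1 (congrArg Subtype.val e)))
          · intro a ha
            rw [Finset.mem_erase] at ha ⊢
            refine ⟨?_, Finset.mem_univ _⟩
            replace ha := ha.1
            exact fun e => ha (Subtype.ext (conj_eq_one_iff.1 (congrArg Subtype.val e)))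
          · intro a _; exact Subtype.ext (by simp [c, mul_assoc])
          · intro a _; exact Subtype.ext (by simp [c, mul_assoc])
        have hSa : ∀ a ∈ (Finset.univ : Finset (E t)).erase 1, ∑ l : L, f (c l a) = (24 : ℂ) • F := by
          intro a ha
          have hconst : ∀ b ∈ (Finset.univ : Finset (E t)).erase 1,
              ∑ l : L, f (c l b) = ∑ l : L, f (c l a) := fun b hb => by
            obtain ⟨l₀, hl₀, e⟩ := T.comp_trans hG hL a.2
              (fun e => Finset.ne_of_mem_erase ha (Subtype.ext e)) b.2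
              (fun e => Finset.ne_of_mem_erase hb (Subtype.ext e))
            refine Fintype.sum_equiv (Equiv.mulRight ⟨l₀, hl₀⟩) _ _ fun l => congrArg f (Subtype.ext ?_)
            show (l : G) * b * (l : G)⁻¹ = (l : G) * l₀ * a * ((l : G) * l₀)⁻¹
            rw [← e]; group
          have htot : (15 : ℂ) • ∑ l : L, f (c l a) = (360 : ℂ) • F := by
            have h := Finset.sum_comm (s := (Finset.univ : Finset (E t)).erase 1)
              (t := (Finset.univ : Finset L)) (f := fun b l => f (c l b))
            rw [Finset.sum_congr rfl hconst, Finset.sum_congr rfl fun l _ => hF l, Finset.sum_const,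
              Finset.sum_const, Finset.card_erase_of_mem (Finset.mem_univ _), Finset.card_univ,
              Finset.card_univ, ← Nat.card_eq_fintype_card, ← Nat.card_eq_fintype_card, hA, hL.card,
              ← Nat.cast_smul_eq_nsmul ℂ, ← Nat.cast_smul_eq_nsmul ℂ] at h
            norm_num at h
            exact h
          calc ∑ l : L, f (c l a) = (15 : ℂ)⁻¹ • ((15 : ℂ) • ∑ l : L, f (c l a)) := by
                rw [inv_smul_smul₀ (by norm_num)]
            _ = (24 : ℂ) • F := by rw [htot, smul_smul]; norm_num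
        have havg : (384 : ℂ) • f 1 = (24 : ℂ) • ∑ a : E t, f a := by
          have h0 : ∑ l : L, ρ (l : G) (∑ a : E t, lam a • f a) = 0 := by simp [f, hv]
          simp only [map_sum, map_smul, hcl] at h0
          rw [Finset.sum_comm] at h0
          simp only [← Finset.smul_sum] at h0
          rw [← Finset.add_sum_erase _ _ (Finset.mem_univ (1 : E t)), hlam1, one_smul, hS1,
            Finset.sum_congr rfl fun a ha => by rw [hSa a ha], ← Finset.sum_smul,
            Finset.sum_erase_eq_sub (Finset.mem_univ _), hlamsum, hlam1, zero_sub, neg_smul, one_smul,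
            add_neg_eq_zero] at h0
          rw [← Finset.add_sum_erase _ _ (Finset.mem_univ (1 : E t)), smul_add]
          show (384 : ℂ) • f 1 = (24 : ℂ) • f 1 + (24 : ℂ) • F
          rw [← h0, ← add_smul]
          norm_num
        have hfix : ∀ a ∈ E t, ρ a v.1.1 = v.1.1 := by
          intro a ha
          have hsum : ρ a (∑ b : E t, f b) = ∑ b : E t, f b := by
            rw [map_sum]
            refine Fintype.sum_equiv (Equiv.mulLeft ⟨a, ha⟩) _ _ fun b => ?_
            show ρ a (ρ (b : G) v.1.1) = ρ (a * b) v.1.1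
            rw [map_mul, Module.End.mul_apply]
          have h1 : f 1 = v.1.1 := by simp [f]
          have h := congrArg (ρ a) havg
          rw [map_smul, map_smul, hsum, ← havg, h1] at h
          exact smul_right_injective V (show (384 : ℂ) ≠ 0 by norm_num) h
        show ρ (k : G) v.1.1 = v.1.1
        obtain ⟨a, ha, l, hl, e⟩ := T.mem_join hG hL k.2
        rw [← e, map_mul, Module.End.mul_apply, hvL l hl, hfix a ha]
    refine LinearMap.finrank_le_finrank_of_injective (f := Φ) fun v w h => ?_
    exact Subtype.ext (Subtype.ext (congrArg (fun z => z.1) h :))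
  have hrn := Ψ.finrank_range_add_finrank_ker
  have hr : Module.finrank ℂ (LinearMap.range Ψ) ≤ 1 := hσ ▸ Submodule.finrank_le _
  rw [T.fix_join hG hL] at hker
  show Module.finrank ℂ (resRep L T.a).invariants ≤ 3
  omega

/-- A vector fixed by both joins. -/
theorem exists_common {t t' : G} {L : Subgroup G} (hL : Comp t L) (hL' : Comp t' L) :
    E t ⊔ L ⊔ (E t' ⊔ L) ≠ ⊤ := by
  intro htop
  set K := E t ⊔ L
  set K' := E t' ⊔ L
  set W := (resRep L T.a).invariants
  set W₁ : Submodule ℂ (Fin T.a.2.choose → ℂ) := (resRep K T.a).invariants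
  set W₂ : Submodule ℂ (Fin T.a.2.choose → ℂ) := (resRep K' T.a).invariants
  have hle : ∀ {J : Subgroup G}, L ≤ J → (resRep J T.a).invariants ≤ W := fun {J} h v hv =>
    (Representation.mem_invariants _ _).2 fun k =>
      ((Representation.mem_invariants _ _).1 hv ⟨k, h k.2⟩ :)
  have h1 : Module.finrank ℂ W₁ = 2 := T.fix_join hG hL
  have h2 : Module.finrank ℂ W₂ = 2 := T.fix_join hG hL'
  have h3 : Module.finrank ℂ W ≤ 3 := T.fix_comp_le hG hL
  have hsup : Module.finrank ℂ (W₁ ⊔ W₂ : Submodule ℂ _) ≤ 3 :=
    (Submodule.finrank_mono (sup_le (hle le_sup_right) (hle le_sup_right))).trans h3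
  have hadd := Submodule.finrank_sup_add_finrank_inf_eq W₁ W₂
  have hinf : 0 < Module.finrank ℂ (W₁ ⊓ W₂ : Submodule ℂ _) := by omega
  have htop0 : fixDim (⊤ : Subgroup G) T.a = 0 := by
    have h := avg_eq (⊤ : Subgroup G) T.a
    rw [Fintype.sum_equiv Subgroup.topEquiv.toEquiv (fun g : (⊤ : Subgroup G) => (T.a : G → ℂ) g)
      (T.a : G → ℂ) (fun _ => rfl), MEleven.sum_apply_eq_zero ?_, mul_zero] at h
    · exact_mod_cast h.symm
    · exact fun e => T.a_ne_one hG (by rw [e])
  have hle' : (W₁ ⊓ W₂ : Submodule ℂ _) ≤ (resRep (⊤ : Subgroup G) T.a).invariants := by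
    intro v hv
    let S : Subgroup G :=
      { carrier := {g | rep T.a g v = v}
        one_mem' := by simp
        mul_mem' := fun {a b} (ha : rep T.a a v = v) (hb : rep T.a b v = v) => by
          show rep T.a (a * b) v = v
          rw [map_mul, Module.End.mul_apply, hb, ha]
        inv_mem' := fun {a} (ha : rep T.a a v = v) => by
          show rep T.a a⁻¹ v = v
          conv_lhs => rw [← ha, ← Module.End.mul_apply, ← map_mul, inv_mul_cancel, map_one,
            Module.End.one_apply] }
    have hS : K ⊔ K' ≤ S := sup_le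
      (fun k hk => ((Representation.mem_invariants _ _).1 hv.1 ⟨k, hk⟩ :))
      (fun k hk => ((Representation.mem_invariants _ _).1 hv.2 ⟨k, hk⟩ :))
    exact (Representation.mem_invariants _ _).2 fun g => (hS (by rw [htop]; exact g.2) :)
  have := Submodule.finrank_mono hle'
  unfold fixDim at htop0
  omega

end Tbl

end Cfsg.Lib.MTwentyThree
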