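import Cfsg.Agent.Lib.MTwentyThree.Search
import Cfsg.Agent.Lib.MTwentyThree.Check0
import Cfsg.Agent.Lib.MTwentyThree.Check1
import Cfsg.Agent.Lib.MTwentyThree.Check2
import Cfsg.Agent.Lib.MTwentyThree.Check3
import Cfsg.Agent.Lib.MTwentyThree.Check4
import Cfsg.Agent.Lib.MTwentyThree.CheckCol

/-!
# A simple group of order 10200960: the families and the column at an involution

Only the families of M23 survive the search, and every involution has a centralizer of order 2688
and the values of M23.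
-/

set_option autoImplicit false
set_option linter.style.haveILetI false
set_option linter.unusedSectionVars false

namespace Cfsg.Lib.MTwentyThree

open Cfsg Cfsg.Lib
open Cfsg.Lib.MTwentyTwo (Slot sqSum deg intVal not_dvd_orderOf)

universe u

theorem search_all {F : List Slot} (h : F ∈ cfgTable) : checkCfg F = true := by
  have e : cfgTable = (List.range 51).flatMap fun k => (cfgTable.drop k).take 1 := by decide +kernel
  rw [e, List.mem_flatMap] at h
  obtain ⟨k, hk, h⟩ := h
  rw [List.mem_range] at hk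
  interval_cases k
  exacts [List.all_eq_true.1 search_0 _ h,
    List.all_eq_true.1 search_1 _ h,
    List.all_eq_true.1 search_2 _ h,
    List.all_eq_true.1 search_3 _ h,
    List.all_eq_true.1 search_4 _ h,
    List.all_eq_true.1 search_5 _ h,
    List.all_eq_true.1 search_6 _ h,
    List.all_eq_true.1 search_7 _ h,
    List.all_eq_true.1 search_8 _ h,
    List.all_eq_true.1 search_9 _ h,
    List.all_eq_true.1 search_10 _ h,
    List.all_eq_true.1 search_11 _ h,
    List.all_eq_true.1 search_12 _ h,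
    List.all_eq_true.1 search_13 _ h,
    List.all_eq_true.1 search_14 _ h,
    List.all_eq_true.1 search_15 _ h,
    List.all_eq_true.1 search_16 _ h,
    List.all_eq_true.1 search_17 _ h,
    List.all_eq_true.1 search_18 _ h,
    List.all_eq_true.1 search_19 _ h,
    List.all_eq_true.1 search_20 _ h,
    List.all_eq_true.1 search_21 _ h,
    List.all_eq_true.1 search_22 _ h,
    List.all_eq_true.1 search_23 _ h,
    List.all_eq_true.1 search_24 _ h,
    List.all_eq_true.1 search_25 _ h,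
    List.all_eq_true.1 search_26 _ h,
    List.all_eq_true.1 search_27 _ h,
    List.all_eq_true.1 search_28 _ h,
    List.all_eq_true.1 search_29 _ h,
    List.all_eq_true.1 search_30 _ h,
    List.all_eq_true.1 search_31 _ h,
    List.all_eq_true.1 search_32 _ h,
    List.all_eq_true.1 search_33 _ h,
    List.all_eq_true.1 search_34 _ h,
    List.all_eq_true.1 search_35 _ h,
    List.all_eq_true.1 search_36 _ h,
    List.all_eq_true.1 search_37 _ h,
    List.all_eq_true.1 search_38 _ h,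
    List.all_eq_true.1 search_39 _ h,
    List.all_eq_true.1 search_40 _ h,
    List.all_eq_true.1 search_41 _ h,
    List.all_eq_true.1 search_42 _ h,
    List.all_eq_true.1 search_43 _ h,
    List.all_eq_true.1 search_44 _ h,
    List.all_eq_true.1 search_45 _ h,
    List.all_eq_true.1 search_46 _ h,
    List.all_eq_true.1 search_47 _ h,
    List.all_eq_true.1 search_48 _ h,
    List.all_eq_true.1 search_49 _ h,
    List.all_eq_true.1 search_50 _ h]

theorem mem_three_of_128 {C : ℕ} (h128 : 128 ∣ C) (hC : C ∣ ord) (h5 : ¬ 5 ∣ C) (h7 : ¬ 7 ∣ C)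
    (h11 : ¬ 11 ∣ C) (h23 : ¬ 23 ∣ C) : C ∈ ([1152, 384, 128] : List ℕ) := by
  obtain ⟨j, rfl⟩ := h128
  have hj : j ∣ 3 ^ 2 * (5 * 7 * 11 * 23) :=
    Nat.dvd_of_mul_dvd_mul_left (by norm_num : 0 < 128) hC
  have hcop : Nat.Coprime j (5 * 7 * 11 * 23) := by
    have h : ∀ p, p.Prime → ¬ p ∣ 128 * j → Nat.Coprime j p := fun p hp hn =>
      (hp.coprime_iff_not_dvd.2 fun h => hn (dvd_mul_of_dvd_right h _)).symm
    exact (((h 5 (by norm_num) h5).mul_right (h 7 (by norm_num) h7)).mul_right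
      (h 11 (by norm_num) h11)).mul_right (h 23 (by norm_num) h23)
  obtain ⟨i, hi, rfl⟩ := (Nat.dvd_prime_pow Nat.prime_three).1 (hcop.dvd_of_dvd_mul_right hj)
  interval_cases i <;> norm_num

variable {G : Type u} [Group G] [Fintype G] [Fact (Nat.Prime 23)] [Fact (Nat.Prime 11)]
  [Fact (Nat.Prime 7)] [Fact (Nat.Prime 5)]

section Main

variable (hG : IsM23 G)
include hG

theorem small_c_cond {p : ℕ} [Fact p.Prime] (D : Dat G p) (hp : p = 5 ∨ p = 7) :
    D.c % 23 ≠ 0 ∧ D.c % 11 ≠ 0 :=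
  ⟨not_twentyThree_dvd_c hG D (by omega), not_eleven_dvd_c hG D (by omega)⟩

theorem exists_table5 (D : Dat G 5) : ∃ l : Lst D, (⟨D.e, D.c, l.slots⟩ : Opt) ∈ table5 := by
  rw [← opts_five]
  exact exists_opts hG D (by norm_num) _ (decide_eq_true (small_c_cond hG D (by norm_num)))

theorem exists_table7 (D : Dat G 7) : ∃ l : Lst D, (⟨D.e, D.c, l.slots⟩ : Opt) ∈ table7 := by
  rw [← opts_seven]
  exact exists_opts hG D (by norm_num) _ (decide_eq_true (small_c_cond hG D (by norm_num)))

theorem exists_cfg (D : Dat G 11) : ∃ l : Lst D, l.slots ∈ cfgTable := by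
  obtain ⟨l, hl⟩ := exists_opts hG D (by norm_num) (fun c => decide (c % 23 ≠ 0))
    (decide_eq_true (not_twentyThree_dvd_c hG D (by norm_num)))
  rw [show opts 11 (fun c => decide (c % 23 ≠ 0)) = table11 from opts_eleven] at hl
  refine ⟨l, ?_⟩
  rw [← cfgTable_eq]
  exact List.mem_map.2 ⟨_, List.mem_filter.2 ⟨hl, decide_eq_true (eleven_data hG D)⟩, rfl⟩

theorem sum_le_ord (U : Finset (IrrCharacter G)) : ∑ χ ∈ U, deg χ ^ 2 ≤ ord :=
  sum_sq_deg hG ▸ Finset.sum_le_sum_of_subset (Finset.subset_univ _)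

theorem mem_fitting {DA : Dat G 11} (lA : Lst DA) {p : ℕ} [Fact p.Prime] {D : Dat G p} (l : Lst D)
    {T : List Opt} (h : (⟨D.e, D.c, l.slots⟩ : Opt) ∈ T) :
    (⟨D.e, D.c, l.slots⟩ : Opt) ∈ fitting lA.slots T := by
  classical
  refine List.mem_filter.2 ⟨h, Bool.and_eq_true_iff.2 ⟨?_, decide_eq_true ?_⟩⟩
  · simp only [fits, List.all_eq_true, decide_eq_true_eq]
    intro x _
    by_cases h : x.d % 11 = 0
    · exact Or.inl h
    · exact Or.inr (cnt_le_A hG lA l h)
  · rw [lA.sqSum_slots, l.newSq_slots]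
    show ∑ χ ∈ Lst.B DA, deg χ ^ 2 + ∑ χ ∈ newSet D 11 [], deg χ ^ 2 ≤ ord
    rw [← Finset.sum_union (disjoint_new hG dvd_rfl)]
    exact sum_le_ord hG _

/-- The surviving families and the column at every involution. -/
theorem front (DA : Dat G 11) (D5 : Dat G 5) (D7 : Dat G 7) (D : Dat G 23) :
    DA.e = 5 ∧ DA.c = 1 ∧ D5.e = 4 ∧ D5.c = 3 ∧ D7.e = 3 ∧ (D7.c = 2 ∨ D7.c = 16) ∧
      D.e = 11 ∧ D.c = 1 ∧
      ∃ (lA : Lst DA) (l5 : Lst D5) (l7 : Lst D7) (q : QLst D), lA.slots = goalF ∧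
        l5.slots = goal5.Z ∧ l7.slots = goalZ7 ∧ q.slots = goalQ ∧
        ∀ z : G, orderOf z = 2 → Nat.card (Subgroup.centralizer ({z} : Set G)) = 2688 ∧
          lA.vals z = goalVA ∧ q.vals z = goalVQ := by
  classical
  obtain ⟨lA, hA⟩ := exists_cfg hG DA
  obtain ⟨l5, h5⟩ := exists_table5 hG D5
  obtain ⟨l7, h7⟩ := exists_table7 hG D7
  obtain ⟨q, hq⟩ := exists_qlst hG lA D
  set o5 : Opt := ⟨D5.e, D5.c, l5.slots⟩ with ho5
  set o7 : Opt := ⟨D7.e, D7.c, l7.slots⟩ with ho7
  obtain ⟨z, hz, hC, hg5, hg7⟩ : ∃ z : G, orderOf z = 2 ∧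
      Nat.card (Subgroup.centralizer ({z} : Set G)) ∈ csOf o5 o7 ∧
      (gOf o5 o7 = 5 → z ∈ D5.C) ∧ (gOf o5 o7 = 7 → z ∈ D7.C) := by
    have h11 := fun (z : G) (hz : orderOf z = 2) => not_eleven_dvd_centralizer hG hz
    have h23 := fun (z : G) (hz : orderOf z = 2) => not_twentyThree_dvd_centralizer hG hz
    simp only [csOf, gOf, ho5, ho7]
    by_cases e7 : D7.c % 2 = 0
    · obtain ⟨z, hz, hzC, hcs⟩ :=
        D7.exists_involution_center hG (by norm_num) (Nat.dvd_of_mod_eq_zero e7) h23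
      simp only [if_pos e7]
      refine ⟨z, hz, List.mem_filter.2 ⟨hcs, decide_eq_true
        ⟨fun e => h11 z hz (Nat.dvd_of_mod_eq_zero e), ?_⟩⟩, fun e => absurd e (by norm_num),
        fun _ => hzC⟩
      by_cases e5 : D5.c % 2 = 0
      · exact Or.inl e5
      · exact Or.inr fun e => D5.not_dvd_centralizer (fun h => e5 (Nat.mod_eq_zero_of_dvd h))
          (by norm_num) hz (Nat.dvd_of_mod_eq_zero e)
    · have n7 := fun (z : G) (hz : orderOf z = 2) => D7.not_dvd_centralizer
        (fun h => e7 (Nat.mod_eq_zero_of_dvd h)) (by norm_num) hz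
      simp only [if_neg e7]
      by_cases e5 : D5.c % 2 = 0
      · obtain ⟨z, hz, hzC, hcs⟩ :=
          D5.exists_involution_center hG (by norm_num) (Nat.dvd_of_mod_eq_zero e5) h23
        simp only [if_pos e5]
        exact ⟨z, hz, List.mem_filter.2 ⟨hcs, decide_eq_true
          ⟨fun e => h11 z hz (Nat.dvd_of_mod_eq_zero e),
            fun e => n7 z hz (Nat.dvd_of_mod_eq_zero e)⟩⟩, fun _ => hzC,
          fun e => absurd e (by norm_num)⟩
      · obtain ⟨z, hz, h128⟩ := exists_involution_sylow hG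
        simp only [if_neg e5]
        exact ⟨z, hz, mem_three_of_128 h128 (card_centralizer_dvd hG z)
          (D5.not_dvd_centralizer (fun h => e5 (Nat.mod_eq_zero_of_dvd h)) (by norm_num) hz)
          (n7 z hz) (h11 z hz) (h23 z hz), fun e => absurd e (by norm_num),
          fun e => absurd e (by norm_num)⟩
  have halive : (o5, o7) ∈ alive table5 table7 lA.slots := by
    simp only [alive, List.mem_flatMap, List.mem_map, List.mem_filter, Bool.and_eq_true]
    refine ⟨o5, mem_fitting hG lA l5 h5, o7, ⟨mem_fitting hG lA l7 h7,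
      decide_eq_true ⟨?_, ?_⟩, ?_⟩, rfl⟩
    · constructor
      · exact fun h => Nat.mod_eq_zero_of_dvd
          (D5.dvd_c_symm D7 (by norm_num) (Nat.dvd_of_mod_eq_zero h))
      · exact fun h => Nat.mod_eq_zero_of_dvd
          (D7.dvd_c_symm D5 (by norm_num) (Nat.dvd_of_mod_eq_zero h))
    · rw [lA.sqSum_slots, l5.newSq_slots, l7.newSq_slots]
      show ∑ χ ∈ Lst.B DA, deg χ ^ 2 + ∑ χ ∈ newSet D5 11 [], deg χ ^ 2 +
        ∑ χ ∈ newSet D7 11 l5.slots, deg χ ^ 2 ≤ ord
      rw [← Finset.sum_union (disjoint_new hG dvd_rfl), ← Finset.sum_union]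
      · exact sum_le_ord hG _
      · exact Finset.disjoint_union_left.2 ⟨disjoint_new hG dvd_rfl, disjoint_new_new l5⟩
    · refine List.any_eq_true.2 ⟨_, hC, Bool.and_eq_true_iff.2 ⟨?_,
        colOK_true hG lA l5 l7 q hq hz _ hg5 hg7 (fun _ _ _ => true) rfl⟩⟩
      have hpre : gOf o5 o7 = 0 ∨ gOf o5 o7 = 5 ∨ gOf o5 o7 = 7 := by
        simp only [gOf]; split_ifs <;> omega
      rcases hpre with e | e | e
      · simp [e]
      · rw [e]
        simp only [show ¬ (5 : ℕ) = 7 by norm_num, if_false]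
        exact Bool.or_eq_true_iff.2 (Or.inr (preOK_true hG l5 (by norm_num) hz (hg5 e)))
      · rw [e]
        simp only [if_true]
        exact Bool.or_eq_true_iff.2 (Or.inr (preOK_true hG l7 (by norm_num) hz (hg7 e)))
  obtain ⟨hF, h5', h7'⟩ := of_decide_eq_true (List.all_eq_true.1 (search_all hA) _ halive)
  change o5 = goal5 at h5'
  change o7.Z = goalZ7 at h7'
  obtain ⟨h7e, h7c⟩ : D7.e = 3 ∧ (D7.c = 2 ∨ D7.c = 16) :=
    (of_decide_eq_true (List.all_eq_true.1 goal_seven_cofactor _ h7)).resolve_left (not_not.2 h7')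
  have hcol : checkCol o7 = true := by
    rcases h7c with e | e
    · rw [show o7 = ⟨3, 2, goalZ7⟩ by rw [ho7, h7e, e]; exact congrArg (Opt.mk 3 2) h7']
      exact check_col_two
    · rw [show o7 = ⟨3, 16, goalZ7⟩ by rw [ho7, h7e, e]; exact congrArg (Opt.mk 3 16) h7']
      exact check_col_sixteen
  have h5c : D5.c = 3 := congrArg Opt.c h5'
  refine ⟨(eleven_data hG DA).1, (eleven_data hG DA).2, congrArg Opt.e h5', h5c, h7e, h7c,
    (D.data_twentyThree hG).1, (D.data_twentyThree hG).2, lA, l5, l7, q, hF, congrArg Opt.Z h5', h7', ?_⟩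
  simp only [checkCol, Bool.and_eq_true, List.all_eq_true] at hcol
  obtain ⟨hcs, h2688⟩ := hcol
  have key : ∀ z : G, orderOf z = 2 → Nat.card (Subgroup.centralizer ({z} : Set G)) = 2688 ∧
      lA.vals z = goalVA ∧ q.slots = goalQ ∧ q.vals z = goalVQ := by
    intro z hz
    have hz1 : z ≠ 1 := fun e => by rw [e, orderOf_one] at hz; omega
    have hmem : Nat.card (Subgroup.centralizer ({z} : Set G)) ∈ genCs := by
      refine List.mem_filter.2 ⟨mem_divList (card_centralizer_dvd hG z), decide_eq_true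
        ⟨Nat.mod_eq_zero_of_dvd (four_dvd_centralizer hG hz), fun e => ?_,
          fun e => not_eleven_dvd_centralizer hG hz (Nat.dvd_of_mod_eq_zero e),
          fun e => not_twentyThree_dvd_centralizer hG hz (Nat.dvd_of_mod_eq_zero e),
          card_centralizer_le hG hz1⟩⟩
      exact D5.not_dvd_centralizer (by rw [h5c]; norm_num) (by norm_num) hz
        (Nat.dvd_of_mod_eq_zero e)
    have hok := colOK_true hG lA l5 l7 q hq hz 0 (fun e => absurd e (by norm_num))
      (fun e => absurd e (by norm_num))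
    rw [← ho5, ← ho7, h5', hF] at hok
    have hC : Nat.card (Subgroup.centralizer ({z} : Set G)) = 2688 := by
      have h := hcs _ hmem
      rw [hok (fun _ _ _ => true) rfl] at h
      simpa using h
    refine ⟨hC, ?_⟩
    by_contra hne
    rw [hC] at hok
    rw [hok (fun vA Q vQ => !(decide (vA = goalVA ∧ Q = goalQ ∧ vQ = goalVQ)))
      (by rw [decide_eq_false hne]; rfl)] at h2688
    exact Bool.noConfusion h2688
  refine ⟨?_, fun z hz => ⟨(key z hz).1, (key z hz).2.1, (key z hz).2.2.2⟩⟩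
  obtain ⟨z, hz, -⟩ := exists_involution_sylow hG
  exact (key z hz).2.2.1

end Main

end Cfsg.Lib.MTwentyThree
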