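import Cfsg.Agent.Lib.MTwentyThree.Fix
import Cfsg.Agent.Lib.Core.Cores

/-!
# A subgroup of index 23

Two complements span a proper subgroup, and its index is 23.
-/

set_option autoImplicit false
set_option linter.style.haveILetI false
set_option linter.unusedSectionVars false

set_option maxHeartbeats 1000000

namespace Cfsg.Lib.MTwentyThree

open Cfsg Cfsg.Lib Cfsg.Lib.StrongEmb.TwoNilp
open Cfsg.Lib.MTwentyTwo (deg)

universe u

noncomputable local instance (priority := high) fintypeSubgroupMTwentyThreeIndex {A : Type u}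
    [Group A] [Fintype A] (H : Subgroup A) : Fintype H := Fintype.ofFinite H

variable {G : Type u} [Group G] [Fintype G]

namespace Tbl

variable (T : Tbl G) (hG : IsM23 G)
include T hG

/-- No subgroup has index 77 or 161. -/
theorem index_ne (H : Subgroup G) : H.index ≠ 77 ∧ H.index ≠ 161 := by
  classical
  have hH0 : (Nat.card H : ℂ) ≠ 0 := Nat.cast_ne_zero.2 Nat.card_pos.ne'
  set n : IrrCharacter G → ℕ := fun χ => fixDim H χ with hn
  have hone : n (Small.one' G) = 1 := by
    have h := avg_eq H (Small.one' G)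
    simp only [Small.one'_apply, Finset.sum_const, Finset.card_univ, nsmul_eq_mul, mul_one,
      ← Nat.card_eq_fintype_card] at h
    rw [inv_mul_cancel₀ hH0] at h
    exact_mod_cast h.symm
  have hsum : ∑ χ : IrrCharacter G, deg χ * n χ = H.index := by
    have h := sum_degree_fixDim (G := G) H
    have h' : ((∑ χ : IrrCharacter G, deg χ * n χ : ℕ) : ℂ) = H.index := by
      push_cast
      rw [Finset.sum_congr rfl (g := fun χ : IrrCharacter G => (χ : G → ℂ) 1 * (fixDim H χ : ℂ)) fun χ _ => by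
        rw [MEleven.apply_one], h, div_eq_iff hH0, ← H.card_mul_index]
      push_cast
      ring
    exact_mod_cast h'
  rw [T.sum_eq, hone, deg_one', T.ha, T.hb, T.hb', T.hc, T.he, T.hn, T.hn', T.hg, T.hu] at hsum
  have hR : ∀ χ ∈ T.R, deg χ * n χ = 0 ∨ 231 ≤ deg χ * n χ := fun χ hχ => by
    rcases Nat.eq_zero_or_pos (n χ) with h | h
    · exact Or.inl (by rw [h, mul_zero])
    · right
      rcases T.hR χ hχ with h' | h' | h' <;> rw [h'] <;> omega
  have hR' : ∑ χ ∈ T.R, deg χ * n χ = 0 ∨ 231 ≤ ∑ χ ∈ T.R, deg χ * n χ := by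
    by_cases h : ∀ χ ∈ T.R, deg χ * n χ = 0
    · exact Or.inl (Finset.sum_eq_zero h)
    · right
      simp only [not_forall] at h
      obtain ⟨χ, hχ, h⟩ := h
      exact le_trans ((hR χ hχ).resolve_left h)
        (Finset.single_le_sum (f := fun χ => deg χ * n χ) (fun _ _ => Nat.zero_le _) hχ)
  constructor <;> intro hi <;> rw [hi] at hsum <;>
  · obtain ⟨z1, z2, z3, z4, z5, z6⟩ : n T.c = 0 ∧ n T.e = 0 ∧ n T.n = 0 ∧ n T.n' = 0 ∧ n T.g = 0 ∧
        n T.u = 0 := by
      refine ⟨?_, ?_, ?_, ?_, ?_, ?_⟩ <;> omega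
    have hR0 : ∑ χ ∈ T.R, deg χ * n χ = 0 := hR'.resolve_right (by omega)
    rw [hR0, z1, z2, z3, z4, z5, z6] at hsum
    have : n T.b ≤ 3 := by omega
    have : n T.b' ≤ 3 := by omega
    generalize n T.b = B at *
    generalize n T.b' = B' at *
    interval_cases B <;> interval_cases B' <;> omega

/-- The index is 23. -/
theorem exists_index : ∃ H : Subgroup G, H.index = 23 := by
  classical
  obtain ⟨t, ht⟩ : ∃ t : G, orderOf t = 2 := by
    haveI : Fact (Nat.Prime 2) := ⟨Nat.prime_two⟩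
    exact exists_prime_orderOf_dvd_card' 2 (by rw [card_G hG, ord]; norm_num)
  obtain ⟨t', L, hL, hL', hdis⟩ := T.exists_comp hG ht
  set A := E t
  set K := A ⊔ L with hK
  set H := K ⊔ (E t' ⊔ L) with hH
  refine ⟨H, ?_⟩
  have hne : H ≠ ⊤ := T.exists_common hG hL hL'
  have hKH : K ≤ H := le_sup_left
  have hA'H : E t' ≤ H := le_trans le_sup_left le_sup_right
  have hKc := T.card_join hG hL
  have hKN : K ≤ nE t := T.join_le hG hL
  have hA'N : ¬ E t' ≤ nE t := fun h => by
    have h' : E t' = ⊥ := le_bot_iff.1 ((le_inf le_rfl h).trans hdis.le)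
    have := T.card_E hG hL'.ht
    rw [h', Subgroup.card_bot] at this
    norm_num at this
  have hge := twentyThree_le_index hG hne
  have hdvd : H.index ∣ 1771 := by
    obtain ⟨k, hk⟩ := Subgroup.card_dvd_of_le hKH
    have h := H.card_mul_index
    rw [hk, hKc, card_G hG, ord] at h
    exact ⟨k, by nlinarith⟩
  have hopts := (show ∀ d ∈ Nat.divisors 1771, 23 ≤ d →
    d = 23 ∨ d = 77 ∨ d = 161 ∨ d = 253 ∨ d = 1771 by decide +kernel) _
    (Nat.mem_divisors.2 ⟨hdvd, by norm_num⟩) hge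
  rcases hopts with h | h | h | h | h
  · exact h
  · exact absurd h (T.index_ne hG H).1
  · exact absurd h (T.index_ne hG H).2
  swap
  · exfalso
    have hc := H.card_mul_index
    rw [h, card_G hG, ord] at hc
    have e : K = H := Subgroup.eq_of_le_of_card_ge hKH (by rw [hKc]; omega)
    exact hA'N (hA'H.trans (e.symm.le.trans hKN))
  exfalso
  have hc : Nat.card H = 40320 := by
    have := H.card_mul_index
    rw [h, card_G hG, ord] at this
    omega
  have hHN : H ⊓ nE t = K := by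
    have hle : K ≤ H ⊓ nE t := le_inf hKH hKN
    obtain ⟨k, hk⟩ := Subgroup.card_dvd_of_le hle
    have h7 : k ∣ 7 := by
      have := Subgroup.card_dvd_of_le (inf_le_right : H ⊓ nE t ≤ nE t)
      rw [hk, hKc, T.card_nE hG ht, show 40320 = 5760 * 7 by norm_num] at this
      exact Nat.dvd_of_mul_dvd_mul_left (by norm_num) this
    rcases (Nat.dvd_prime (by norm_num : Nat.Prime 7)).1 h7 with rfl | rfl
    · exact (Subgroup.eq_of_le_of_card_ge hle (by rw [hk]; omega)).symm
    · exfalso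
      have h1 : H ⊓ nE t = nE t :=
        Subgroup.eq_of_le_of_card_ge inf_le_right (by rw [hk, hKc, T.card_nE hG ht])
      have h2 : nE t = H :=
        Subgroup.eq_of_le_of_card_ge (inf_eq_right.1 h1) (by rw [hc, T.card_nE hG ht])
      exact hA'N (h2 ▸ hA'H)
  -- the core of `K` in `H`
  set K0 := K.subgroupOf H with hK0
  have hK07 : K0.index = 7 := by
    have h := K0.card_mul_index
    rw [Nat.card_congr (Subgroup.subgroupOfEquivOfLe hKH).toEquiv, hKc, hc] at h
    omega
  set C0 := K0.normalCore with hC0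
  set D := C0.map H.subtype with hD
  have hDK : D ≤ K := by
    rintro _ ⟨d, hd, rfl⟩
    exact K0.normalCore_le hd
  have hDn : ∀ h ∈ H, ∀ d ∈ D, h * d * h⁻¹ ∈ D := by
    rintro h hh _ ⟨d, hd, rfl⟩
    exact ⟨⟨h, hh⟩ * d * ⟨h, hh⟩⁻¹, (inferInstance : C0.Normal).conj_mem d hd _, rfl⟩
  have hAK : A ≤ K := le_sup_left
  have hLK : L ≤ K := le_sup_right
  have hAn : ∀ k ∈ K, ∀ a ∈ A, k * a * k⁻¹ ∈ A := fun k hk a ha => mem_nE (hKN hk) ha
  by_cases hbot : A ⊓ D = ⊥
  · have hcent : D ≤ A := fun d hd => by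
      show d ∈ E t
      rw [← T.cent_E hG ht]
      refine Subgroup.mem_centralizer_iff.2 fun a ha => ?_
      have hm : a * d * a⁻¹ * d⁻¹ ∈ A ⊓ D := by
        refine ⟨?_, D.mul_mem (hDn a (hKH (hAK ha)) d hd) (D.inv_mem hd)⟩
        rw [show a * d * a⁻¹ * d⁻¹ = a * (d * a⁻¹ * d⁻¹) by group]
        exact A.mul_mem ha (hAn d (hDK hd) _ (A.inv_mem ha))
      rw [hbot, Subgroup.mem_bot, mul_inv_eq_one, mul_inv_eq_iff_eq_mul] at hm
      exact hm
    have hD1 : Nat.card C0 = 1 := by
      rw [← Subgroup.card_map_of_injective (K := C0) H.subtype_injective, ← hD,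
        show D = ⊥ from le_bot_iff.1 ((le_inf hcent le_rfl).trans hbot.le), Subgroup.card_bot]
    have hdd : C0.index ∣ 5040 := by
      rw [hC0, Subgroup.normalCore_eq_ker, Subgroup.index_ker]
      refine (Subgroup.card_subgroup_dvd_card _).trans (dvd_of_eq ?_)
      haveI : Fintype (H ⧸ K0) := Fintype.ofFinite _
      rw [Nat.card_perm, ← Subgroup.index_eq_card, hK07]
      decide
    have hi := C0.card_mul_index
    rw [hD1, one_mul, hc] at hi
    rw [hi] at hdd
    norm_num at hdd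
  · obtain ⟨a₀, ha₀, ha₀1⟩ : ∃ a ∈ (A ⊓ D : Subgroup G), a ≠ 1 := by
      by_contra hno
      simp only [not_exists, not_and, not_not] at hno
      exact hbot (le_bot_iff.1 fun a ha => Subgroup.mem_bot.2 (hno a ha))
    have hAD : A ≤ D := fun a ha => by
      by_cases ha1 : a = 1
      · rw [ha1]; exact D.one_mem
      obtain ⟨l, hl, e⟩ := T.comp_trans hG hL ha₀.1 ha₀1 ha ha1
      rw [← e]
      exact hDn l (hKH (hLK hl)) _ ha₀.2
    haveI : Fact (Nat.Prime 2) := ⟨Nat.prime_two⟩
    set P0 := (pCore 2 C0).map C0.subtype with hP0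
    haveI : P0.Normal := inferInstance
    set P := P0.map H.subtype with hP
    have hPn : ∀ h ∈ H, ∀ d ∈ P, h * d * h⁻¹ ∈ P := by
      rintro h hh _ ⟨d, hd, rfl⟩
      exact ⟨⟨h, hh⟩ * d * ⟨h, hh⟩⁻¹, (inferInstance : P0.Normal).conj_mem d hd _, rfl⟩
    have hP2 : IsPGroup 2 P := ((Fusion.pCore_isPGroup (G := C0) 2).map _).map _
    have hPK : P ≤ K := (Subgroup.map_mono (Subgroup.map_subtype_le _)).trans hDK
    have hAP : A ≤ P := by
      intro a ha
      obtain ⟨d, hd, rfl⟩ := hAD ha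
      refine ⟨d, ⟨⟨d, hd⟩, ?_, rfl⟩, rfl⟩
      refine Fusion.le_pCore (p := 2) (N := (A.subgroupOf H).subgroupOf C0) ⟨fun x hx y => ?_⟩ ?_ ha
      · exact hAn _ (hDK ⟨y.1, y.2, rfl⟩) _ hx
      · refine IsPGroup.of_card (n := 4) ?_
        rw [Nat.card_congr (Subgroup.subgroupOfEquivOfLe (fun x hx => by
          obtain ⟨d', hd', e⟩ := hAD hx
          exact (Subtype.ext e : d' = x) ▸ hd')).toEquiv,
          Nat.card_congr (Subgroup.subgroupOfEquivOfLe (hAK.trans hKH)).toEquiv, T.card_E hG ht]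
        norm_num
    set D0 := L ⊓ P with hD0
    have hPA : ∀ p ∈ P, ∃ a ∈ A, ∃ l ∈ D0, a * l = p := fun p hp => by
      obtain ⟨a, ha, l, hl, rfl⟩ := T.mem_join hG hL (hPK hp)
      exact ⟨a, ha, l, ⟨hl, by simpa using P.mul_mem (P.inv_mem (hAP ha)) hp⟩, rfl⟩
    have hD02 : IsPGroup 2 D0 := hP2.to_le inf_le_right
    let act : MulAction D0 (A : Subgroup G) :=
      { smul := fun m a => ⟨(m : G) * a * (m : G)⁻¹, hAn _ (hLK m.2.1) a a.2⟩
        one_smul := fun a => Subtype.ext (show (1 : G) * a * (1 : G)⁻¹ = a by group)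
        mul_smul := fun m m' a => Subtype.ext (show (m : G) * m' * a * ((m : G) * m')⁻¹ =
          (m : G) * ((m' : G) * a * (m' : G)⁻¹) * (m : G)⁻¹ by group) }
    letI := act
    obtain ⟨⟨b, hb⟩, hbf, hbne⟩ := IsPGroup.exists_fixed_point_of_prime_dvd_card_of_fixed_point hD02
      (A : Subgroup G) (by rw [T.card_E hG ht]; norm_num) (a := ⟨1, A.one_mem⟩)
      fun m => Subtype.ext (show (m : G) * 1 * (m : G)⁻¹ = 1 by group)
    have hb1 : b ≠ 1 := fun e => hbne (Subtype.ext e.symm)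
    have hD01 : D0 ≤ A := fun m hm => by
      show m ∈ E t
      rw [← T.cent_E hG ht]
      refine Subgroup.mem_centralizer_iff.2 fun a ha => ?_
      by_cases ha1 : a = 1
      · simp [ha1]
      obtain ⟨l, hl, e⟩ := T.comp_trans hG hL hb hb1 ha ha1
      have hm' : l⁻¹ * m * l ∈ D0 := ⟨L.mul_mem (L.mul_mem (L.inv_mem hl) hm.1) hl, by
        simpa using hPn l⁻¹ (hKH (hLK (L.inv_mem hl))) m hm.2⟩
      have hf : l⁻¹ * m * l * b = b * (l⁻¹ * m * l) :=
        mul_inv_eq_iff_eq_mul.1 (congrArg Subtype.val (hbf ⟨_, hm'⟩))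
      rw [← e]
      calc l * b * l⁻¹ * m = l * (b * (l⁻¹ * m * l)) * l⁻¹ := by group
        _ = l * (l⁻¹ * m * l * b) * l⁻¹ := by rw [hf]
        _ = m * (l * b * l⁻¹) := by group
    have hPA' : P = A := le_antisymm (fun p hp => by
      obtain ⟨a, ha, l, hl, rfl⟩ := hPA p hp
      exact A.mul_mem ha (hD01 hl)) hAP
    have hHle : H ≤ nE t := fun g hg => Subgroup.mem_normalizer_iff.2 fun a =>
      ⟨fun ha => by
        have := hPn g hg a (hAP ha)
        rwa [hPA'] at this, fun ha => by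
        have := hPn g⁻¹ (H.inv_mem hg) _ (hAP ha)
        rw [hPA'] at this
        simpa [mul_assoc] using this⟩
    exact hA'N (hA'H.trans hHle)

end Tbl

end Cfsg.Lib.MTwentyThree
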