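import Cfsg.Agent.Lib.MTwentyThree.Count

/-!
# A simple group of order 10200960: local facts at the primes dividing the order once
-/

set_option autoImplicit false
set_option linter.style.haveILetI false
set_option linter.unusedSectionVars false

namespace Cfsg.Lib.MTwentyThree

open Cfsg Cfsg.Lib
open Cfsg.Lib.MTwentyTwo (deg intVal cast_intVal intVal_eq not_dvd_orderOf inv_eq_self pow2 twoPart)

universe u

noncomputable local instance (priority := high) fintypeSubgroupMTwentyThreeLocal {A : Type u}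
    [Group A] [Fintype A] (H : Subgroup A) : Fintype H := Fintype.ofFinite H

variable {G : Type u} [Group G] [Fintype G]

theorem not_sq_dvd (hG : IsM23 G) {p : ℕ} (hp : p = 5 ∨ p = 7 ∨ p = 11 ∨ p = 23) :
    ¬ p ^ 2 ∣ Nat.card G := by
  rw [hG.2]
  rcases hp with rfl | rfl | rfl | rfl <;> decide

section General

variable (hG : IsM23 G)
include hG

theorem sum_sq_deg : ∑ χ : IrrCharacter G, deg χ ^ 2 = ord := by
  have h := Char.sum_sq_degree (G := G)
  simp only [MEleven.apply_one] at h
  rw [card_G hG] at h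
  exact_mod_cast h

theorem deg_dvd_ord (χ : IrrCharacter G) : deg χ ∣ ord := card_G hG ▸ Block.charDegree_dvd_card χ

theorem deg_eq_one {χ : IrrCharacter G} (h : deg χ = 1) : χ = Small.one' G := by
  by_contra hne
  have := Small.two_le_charDegree_of_perfect (perfect hG) hne
  change 2 ≤ deg χ at this
  omega

theorem intVal_of_deg_one {χ : IrrCharacter G} (h : deg χ = 1) (z : G) : intVal z χ = 1 := by
  rw [deg_eq_one hG h]
  exact intVal_eq (by rw [Small.one'_apply, Int.cast_one])

theorem mem_dom_intVal {z : G} (hz : orderOf z = 2) (χ : IrrCharacter G) {m : ℕ} (hm : 1 ≤ m)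
    (hsq : (m : ℤ) * intVal z χ * intVal z χ ≤ Nat.card (Subgroup.centralizer ({z} : Set G))) :
    intVal z χ ∈ dom (deg χ) m (Nat.card (Subgroup.centralizer ({z} : Set G))) := by
  haveI := hG.1
  have hz2 : z ^ 2 = 1 := hz ▸ pow_orderOf_eq_one z
  have hz1 : z ≠ 1 := fun e => by rw [e, orderOf_one] at hz; omega
  by_cases hd : deg χ = 1
  · rw [intVal_of_deg_one hG hd]; simp [dom, hd]
  have hne : χ ≠ Small.one' G := fun e => hd (by rw [e]; exact Small.charDegree_one')
  refine mem_dom hd hm (card_centralizer_le hG hz1)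
    (MTwentyTwo.natAbs_intVal_lt (not_cyclic hG) hne hz2 hz1)
    ?_ (MTwentyTwo.intVal_mod_four (perfect hG) χ hz2) hsq
  have h := MTwentyTwo.qof_dvd_intVal χ hz2 rfl
  rwa [card_G hG] at h

theorem sq_le_centralizer {z : G} (hz : z ^ 2 = 1) (U : Finset (IrrCharacter G)) :
    ∑ χ ∈ U, intVal z χ * intVal z χ ≤ (Nat.card (Subgroup.centralizer ({z} : Set G)) : ℤ) := by
  rw [← MTwentyTwo.sum_intVal_sq hz]
  exact Finset.sum_le_sum_of_subset_of_nonneg (Finset.subset_univ _) fun _ _ _ => mul_self_nonneg _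

theorem mem_dom_single {z : G} (hz : orderOf z = 2) (χ : IrrCharacter G) :
    intVal z χ ∈ dom (deg χ) 1 (Nat.card (Subgroup.centralizer ({z} : Set G))) := by
  refine mem_dom_intVal hG hz χ le_rfl ?_
  have := sq_le_centralizer hG (hz ▸ pow_orderOf_eq_one z) {χ}
  simpa using this

/-- The candidates for a member of a family. -/
theorem mem_dom_mult {p : ℕ} [Fact p.Prime] (D : Dat G p) {z : G} (hz : orderOf z = 2) (hp2 : p ≠ 2)
    (χ : IrrCharacter G) :
    intVal z χ ∈ dom (deg χ) (D.mult χ) (Nat.card (Subgroup.centralizer ({z} : Set G))) := by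
  classical
  have hz2 : z ^ 2 = 1 := hz ▸ pow_orderOf_eq_one z
  have hzp := not_dvd_orderOf (G := G) Fact.out hp2 hz
  refine mem_dom_intVal hG hz χ (Lst.one_le_mult χ) ?_
  rw [Dat.mult]
  split_ifs with e
  · have h := sq_le_centralizer hG hz2 D.S.Y
    rw [Finset.sum_congr rfl fun θ' h' => by rw [Lst.intVal_Y h' hz2 hzp],
      Finset.sum_const, D.S.card_Y, nsmul_eq_mul, ← mul_assoc] at h
    rw [e]
    exact h
  · have h := sq_le_centralizer hG hz2 {χ}
    simpa using h

end General

namespace Dat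

variable {p : ℕ} [Fact p.Prime] (D : Dat G p)

/-- A prime order of an element commuting with an element of order `p` divides the cofactor. -/
theorem dvd_c_of_commute {r : ℕ} (hr : r.Prime) (hrp : r ≠ p) {y : G} (hy : orderOf y = r)
    (hdvd : p ∣ Nat.card (Subgroup.centralizer ({y} : Set G))) : r ∣ D.c := by
  obtain ⟨⟨x, hxC⟩, hx⟩ :=
    exists_prime_orderOf_dvd_card' (G := Subgroup.centralizer ({y} : Set G)) p hdvd
  rw [Subgroup.orderOf_mk] at hx
  obtain ⟨Q, hQ⟩ := Small.exists_sylow_eq_zpowers (G := G) (fun Q => by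
    rw [Q.card_eq_multiplicity, ← D.P.card_eq_multiplicity, D.S.card_P]) hx
  obtain ⟨g, hg⟩ := MulAction.exists_smul_eq G Q D.P
  have hmem : g * y * g⁻¹ ∈ Subgroup.centralizer ((D.P : Subgroup G) : Set G) := by
    rw [Subgroup.mem_centralizer_iff]
    intro w hw
    rw [← hg, Sylow.coe_subgroup_smul] at hw
    obtain ⟨v, hv, rfl⟩ := hw
    rw [hQ] at hv
    obtain ⟨i, rfl⟩ := Subgroup.mem_zpowers_iff.1 hv
    have hc : Commute (x ^ i) y :=
      (show Commute x y from Subgroup.mem_centralizer_singleton_iff.1 hxC).zpow_left i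
    simp only [MulDistribMulAction.toMonoidEnd_apply, MulDistribMulAction.toMonoidHom_apply,
      MulAut.smul_def, MulAut.conj_apply]
    calc g * x ^ i * g⁻¹ * (g * y * g⁻¹) = g * (x ^ i * y) * g⁻¹ := by group
      _ = g * (y * x ^ i) * g⁻¹ := by rw [hc.eq]
      _ = g * y * g⁻¹ * (g * x ^ i * g⁻¹) := by group
  have h := Subgroup.orderOf_dvd_natCard _ hmem
  rw [show orderOf (g * y * g⁻¹) = r from ((MulAut.conj g).orderOf_eq y).trans hy, D.hc] at h
  rcases hr.dvd_mul.1 h with h | h
  · exact absurd ((Nat.prime_dvd_prime_iff_eq hr Fact.out).1 h) hrp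
  · exact h

theorem dvd_c_symm {r : ℕ} [hr : Fact r.Prime] (D' : Dat G r) (hne : r ≠ p) (h : r ∣ D.c) :
    p ∣ D'.c := by
  obtain ⟨x, hx, hx1⟩ := D.exists_x
  obtain ⟨⟨y, hyC⟩, hy⟩ := exists_prime_orderOf_dvd_card'
    (G := Subgroup.centralizer ((D.P : Subgroup G) : Set G)) r (D.hc ▸ dvd_mul_of_dvd_right h p)
  rw [Subgroup.orderOf_mk] at hy
  refine D'.dvd_c_of_commute Fact.out (Ne.symm hne) (D.orderOf_eq hx hx1) ?_
  have hyx : y ∈ Subgroup.centralizer ({x} : Set G) :=
    Subgroup.mem_centralizer_singleton_iff.2 ((Subgroup.mem_centralizer_iff.1 hyC x hx).symm)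
  exact hy ▸ Subgroup.orderOf_dvd_natCard _ hyx

theorem card_normalizer (hG : IsM23 G) :
    D.n * Nat.card (Subgroup.normalizer ((D.P : Subgroup G) : Set G)) = ord := by
  rw [D.hn_card, Small.card_normalizer_mul D.P, card_G hG]

theorem not_dvd_deg_B {χ : IrrCharacter G} (h : χ ∈ Lst.B D) : ¬ p ∣ deg χ := by
  rcases Lst.mem_B.1 h with h | h
  · exact D.S.not_dvd_deg (D.S.mem_Z.2 (Or.inr h))
  · rw [D.deg_Y h]
    exact D.S.not_dvd_deg (D.S.mem_Z.2 (Or.inl rfl))

theorem not_dvd_c (hG : IsM23 G) (hp : p = 5 ∨ p = 7 ∨ p = 11 ∨ p = 23) : ¬ p ∣ D.c := fun h => by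
  refine not_sq_dvd hG hp ((pow_two p) ▸ (mul_dvd_mul_left p h).trans ?_)
  rw [← D.hc]
  exact Subgroup.card_subgroup_dvd_card _

/-- Outside the principal block the degree is divisible by `p` for a self-centralizing subgroup. -/
theorem dvd_deg_of_notMem (hc : D.c = 1) {χ : IrrCharacter G} (hχ : χ ∉ Lst.B D) :
    p ∣ deg χ := by
  classical
  have hpc : ¬ p ∣ D.c := by rw [hc]; exact (Fact.out : p.Prime).not_dvd_one
  obtain ⟨W⟩ := D.exists_compl hpc
  haveI : Subsingleton W.W := (Nat.card_eq_one_iff_unique.1 (W.card_W.trans hc)).1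
  have hvan : ∀ v ∈ (D.P : Subgroup G), v ≠ 1 → (χ : G → ℂ) v = 0 := by
    intro v hv hv1
    have h := W.sum_outside hpc hv hv1 hχ
    rwa [Fintype.sum_subsingleton _ (1 : W.W), OneMemClass.coe_one, mul_one] at h
  obtain ⟨n, hn⟩ := MEleven.exists_nat_sum χ (D.P : Subgroup G)
  rw [Finset.sum_eq_single (1 : (D.P : Subgroup G))
    (fun v _ hv => hvan v v.2 fun e => hv (Subtype.ext e)) (by simp), OneMemClass.coe_one,
    MEleven.apply_one, D.S.card_P] at hn
  exact ⟨n, by exact_mod_cast hn⟩

theorem mem_B_of_not_dvd (hc : D.c = 1) {χ : IrrCharacter G} (h : ¬ p ∣ deg χ) : χ ∈ Lst.B D :=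
  Classical.byContradiction fun hn => h (D.dvd_deg_of_notMem hc hn)

theorem not_dvd_centralizer (hc : ¬ 2 ∣ D.c) (hp2 : p ≠ 2) {z : G} (hz : orderOf z = 2) :
    ¬ p ∣ Nat.card (Subgroup.centralizer ({z} : Set G)) := fun h =>
  hc (D.dvd_c_of_commute Nat.prime_two (Ne.symm hp2) hz h)

/-- The congruence at an involution centralizing `P`. -/
theorem mod_two_mul (hp2 : p ≠ 2) {z : G} (hz : orderOf z = 2) (hzC : z ∈ D.C)
    {χ : IrrCharacter G} (hχ : χ ∈ D.S.Z) :
    (intVal z χ - deg χ) % ((2 * p : ℕ) : ℤ) = 0 := by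
  classical
  have hz2 : z ^ 2 = 1 := hz ▸ pow_orderOf_eq_one z
  have hzp := not_dvd_orderOf (G := G) Fact.out hp2 hz
  have hone : ¬ p ∣ orderOf (1 : G) := by
    rw [orderOf_one]; exact (Fact.out : p.Prime).not_dvd_one
  have hX : ∀ ψ ∈ D.S.X, ((2 * p : ℕ) : ℤ) ∣ intVal z ψ - deg ψ := by
    intro ψ hψ
    have hcomm : ∀ v ∈ (D.P : Subgroup G), v * z = z * v := Subgroup.mem_centralizer_iff.1 hzC
    let H : Subgroup G :=
      { carrier := {g | g ∈ (D.P : Subgroup G) ∨ g * z ∈ (D.P : Subgroup G)}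
        one_mem' := Or.inl (Subgroup.one_mem _)
        mul_mem' := by
          rintro a b (ha | ha) (hb | hb)
          · exact Or.inl (mul_mem ha hb)
          · exact Or.inr (by rw [mul_assoc]; exact mul_mem ha hb)
          · refine Or.inr ?_
            rw [mul_assoc, hcomm b hb, ← mul_assoc]
            exact mul_mem ha hb
          · refine Or.inl ?_
            have e : (a * z) * (b * z) = a * b := by
              have hb' : (b * z) * z = z * (b * z) := hcomm _ hb
              rw [show (b * z) * z = b * (z * z) by group, ← pow_two, hz2, mul_one] at hb'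
              calc (a * z) * (b * z) = a * (z * (b * z)) := by group
                _ = a * b := by rw [← hb']
            rw [← e]; exact mul_mem ha hb
        inv_mem' := by
          rintro a (ha | ha)
          · exact Or.inl (inv_mem ha)
          · refine Or.inr ?_
            have h' := inv_mem ha
            have e : a⁻¹ * z = (a * z)⁻¹ := by
              have h1 := hcomm _ h'
              rw [mul_inv_rev, inv_eq_self hz2] at h1 ⊢
              rw [mul_assoc z a⁻¹ z] at h1
              exact (mul_left_cancel h1).trans rfl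
            rw [e]; exact h' }
    set F : Finset G := Finset.univ.filter (· ∈ (D.P : Subgroup G)) with hF
    have hdisj : Disjoint F (F.image (· * z)) := by
      rw [Finset.disjoint_left]
      intro g hg hg'
      obtain ⟨v, hv, rfl⟩ := Finset.mem_image.1 hg'
      have hzP : z ∈ (D.P : Subgroup G) := by
        have := mul_mem (inv_mem (Finset.mem_filter.1 hv).2) (Finset.mem_filter.1 hg).2
        rwa [inv_mul_cancel_left] at this
      have h2 : p = 2 := by
        rw [← D.orderOf_eq hzP (fun e => by rw [e, orderOf_one] at hz; omega), hz]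
      exact hp2 h2
    have hmem : ∀ g, g ∈ F ∪ F.image (· * z) ↔ g ∈ H := by
      intro g
      simp only [Finset.mem_union, hF, Finset.mem_filter, Finset.mem_univ, true_and, Finset.mem_image]
      constructor
      · rintro (h | ⟨v, hv, rfl⟩)
        · exact Or.inl h
        · exact Or.inr (by rw [mul_assoc, ← pow_two, hz2, mul_one]; exact hv)
      · rintro (h | h)
        · exact Or.inl h
        · exact Or.inr ⟨g * z, h, by rw [mul_assoc, ← pow_two, hz2, mul_one]⟩
    have hFcard : F.card = p := by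
      rw [hF, ← Fintype.card_subtype, ← Nat.card_eq_fintype_card, D.S.card_P]
    have hHcard : Nat.card H = 2 * p := by
      rw [Nat.card_eq_fintype_card, Fintype.card_subtype,
        show (Finset.univ.filter (· ∈ H)) = F ∪ F.image (· * z) by ext g; rw [Finset.mem_filter, hmem]; simp,
        Finset.card_union_of_disjoint hdisj, Finset.card_image_of_injective _ (mul_left_injective z),
        hFcard]
      ring
    have hsum : ∀ y : G, y ∈ D.C → ¬ p ∣ orderOf y →
        ∑ v ∈ F, (ψ : G → ℂ) (v * y) = (ψ : G → ℂ) y + ((p - 1 : ℕ) : ℂ) * (D.S.σ ψ : ℂ) := by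
      intro y hy hy'
      have h1 : (1 : G) ∈ F := Finset.mem_filter.2 ⟨Finset.mem_univ _, Subgroup.one_mem _⟩
      rw [← Finset.add_sum_erase _ _ h1, one_mul, Finset.sum_congr rfl fun v hv =>
        D.S.val ψ hψ v (Finset.mem_filter.1 (Finset.mem_of_mem_erase hv)).2
          (Finset.ne_of_mem_erase hv) y hy hy', Finset.sum_const, Finset.card_erase_of_mem h1,
        hFcard, nsmul_eq_mul]
    obtain ⟨n1, hn1⟩ := MEleven.exists_nat_sum ψ (D.P : Subgroup G)
    obtain ⟨n2, hn2⟩ := MEleven.exists_nat_sum ψ H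
    have eP : ∑ v : (D.P : Subgroup G), (ψ : G → ℂ) v = ∑ v ∈ F, (ψ : G → ℂ) (v * 1) := by
      simp only [mul_one]
      exact (Finset.sum_subtype F (fun g => by simp [hF]) fun g => (ψ : G → ℂ) g).symm
    have eH : ∑ v : H, (ψ : G → ℂ) v =
        (∑ v ∈ F, (ψ : G → ℂ) (v * 1)) + ∑ v ∈ F, (ψ : G → ℂ) (v * z) := by
      simp only [mul_one]
      rw [← Finset.sum_subtype _ hmem fun g => (ψ : G → ℂ) g, Finset.sum_union hdisj,
        Finset.sum_image (mul_left_injective z).injOn]
    rw [eP, hsum 1 (Subgroup.one_mem _) hone, D.S.card_P, MEleven.apply_one] at hn1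
    rw [eH, hsum 1 (Subgroup.one_mem _) hone, hsum z hzC hzp, hHcard, MEleven.apply_one,
      ← cast_intVal ψ hz2] at hn2
    have h1 : (deg ψ : ℤ) + ((p - 1 : ℕ) : ℤ) * D.S.σ ψ = ((p * n1 : ℕ) : ℤ) := by exact_mod_cast hn1
    have h2 : (deg ψ : ℤ) + ((p - 1 : ℕ) : ℤ) * D.S.σ ψ +
        (intVal z ψ + ((p - 1 : ℕ) : ℤ) * D.S.σ ψ) = ((2 * p * n2 : ℕ) : ℤ) := by exact_mod_cast hn2
    refine ⟨(n2 : ℤ) - n1, ?_⟩
    push_cast at h1 h2 ⊢
    linear_combination h2 - 2 * h1
  apply Int.emod_eq_zero_of_dvd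
  rcases D.S.mem_Z.1 hχ with rfl | h
  · have e : D.S.σ D.S.θ * (intVal z D.S.θ - deg D.S.θ) =
        -∑ ψ ∈ D.S.X, D.S.σ ψ * (intVal z ψ - deg ψ) := by
      have hr := D.S.rel z hzp
      rw [Finset.sum_congr rfl fun ψ _ => by rw [← cast_intVal ψ hz2]] at hr
      have hr' : ∑ ψ ∈ D.S.Z, D.S.σ ψ * intVal z ψ = 0 := by exact_mod_cast hr
      have hd : ∑ ψ ∈ D.S.Z, D.S.σ ψ * (deg ψ : ℤ) = 0 := D.S.rel_deg
      rw [D.sum_Z] at hr' hd
      simp only [mul_sub, Finset.sum_sub_distrib]
      linarith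
    have hdvd : ((2 * p : ℕ) : ℤ) ∣ D.S.σ D.S.θ * (intVal z D.S.θ - deg D.S.θ) := by
      rw [e]
      exact (Finset.dvd_sum fun ψ hψ => dvd_mul_of_dvd_right (hX ψ hψ) _).neg_right
    rcases D.sign_θ with s | s <;> rw [s] at hdvd
    · simpa using hdvd
    · simpa using hdvd.neg_right
  · exact hX χ h

/-- An involution with centralizer order among the candidates. -/
theorem exists_involution_center (hG : IsM23 G) (hp : p = 5 ∨ p = 7 ∨ p = 11)
    (heven : 2 ∣ D.c)
    (h23 : ∀ z : G, orderOf z = 2 → ¬ 23 ∣ Nat.card (Subgroup.centralizer ({z} : Set G))) :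
    ∃ z : G, orderOf z = 2 ∧ z ∈ D.C ∧
      Nat.card (Subgroup.centralizer ({z} : Set G)) ∈ cents p D.e D.c := by
  classical
  haveI : Fact (Nat.Prime 2) := ⟨Nat.prime_two⟩
  have hp2 : p ≠ 2 := by rcases hp with rfl | rfl | rfl <;> norm_num
  obtain ⟨T⟩ : Nonempty (Sylow 2 D.C) := inferInstance
  have hCeven : 2 ∣ Nat.card D.C := by rw [D.hc]; exact dvd_mul_of_dvd_right heven p
  haveI : Nontrivial (T : Subgroup D.C) := by
    rw [← Finite.one_lt_card_iff_nontrivial, T.card_eq_multiplicity]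
    exact Nat.one_lt_pow (Nat.Prime.factorization_pos_of_dvd Nat.prime_two Nat.card_pos.ne' hCeven).ne'
      (by norm_num)
  haveI : Nontrivial (Subgroup.center (T : Subgroup D.C)) := T.2.center_nontrivial
  obtain ⟨k, hk, hk'⟩ := (T.2.to_subgroup (Subgroup.center (T : Subgroup D.C))).nontrivial_iff_card.1
    inferInstance
  obtain ⟨w, hw⟩ := exists_prime_orderOf_dvd_card' (G := Subgroup.center (T : Subgroup D.C)) 2
    (hk' ▸ dvd_pow_self 2 hk.ne')
  set z : G := (((w : (T : Subgroup D.C)) : D.C) : G) with hzdef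
  have hz : orderOf z = 2 := by
    rw [hzdef, Subgroup.orderOf_coe, Subgroup.orderOf_coe, Subgroup.orderOf_coe, hw]
  have hz1 : z ≠ 1 := fun e => by rw [e, orderOf_one] at hz; omega
  have hzC : z ∈ D.C := ((w : (T : Subgroup D.C)) : D.C).2
  refine ⟨z, hz, hzC, ?_⟩
  set Cz := Subgroup.centralizer ({z} : Set G) with hCz
  have hPz : (D.P : Subgroup G) ≤ Cz := fun v hv =>
    Subgroup.mem_centralizer_singleton_iff.2 (Subgroup.mem_centralizer_iff.1 hzC v hv)
  set T' := (T : Subgroup D.C).map D.C.subtype with hT'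
  have hTz : T' ≤ Cz := by
    rintro _ ⟨t, ht, rfl⟩
    have := congrArg (fun q : (T : Subgroup D.C) => ((q : D.C) : G))
      (Subgroup.mem_center_iff.1 w.2 ⟨t, ht⟩)
    exact Subgroup.mem_centralizer_singleton_iff.2 this
  set N := Cz ⊓ Subgroup.normalizer ((D.P : Subgroup G) : Set G) with hN
  have hTN : T' ≤ N := le_inf hTz
    ((Subgroup.map_subtype_le _).trans (Subgroup.centralizer_le_normalizer _))
  have hPN : (D.P : Subgroup G) ≤ N := le_inf hPz Subgroup.le_normalizer
  have hpow2 : pow2 D.c ∣ Nat.card T' := by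
    rw [hT', Subgroup.card_map_of_injective D.C.subtype_injective, T.card_eq_multiplicity]
    have hfind : pow2 D.c ∈ twoPart ∧ D.c % pow2 D.c = 0 := by
      rw [pow2]
      cases h : twoPart.find? (fun t => decide (D.c % t = 0)) with
      | none =>
        have := List.find?_eq_none.1 h 1 (by simp [twoPart])
        simp [Nat.mod_one] at this
      | some t => exact ⟨List.mem_of_find?_eq_some h, by simpa using List.find?_some h⟩
    have hd : pow2 D.c ∣ Nat.card D.C := D.hc ▸ dvd_mul_of_dvd_right (Nat.dvd_of_mod_eq_zero hfind.2) p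
    obtain ⟨j, hj⟩ : ∃ j, pow2 D.c = 2 ^ j := by
      have := hfind.1
      simp only [twoPart, List.mem_cons, List.not_mem_nil, or_false] at this
      rcases this with e | e | e | e | e | e | e | e <;> rw [e]
      · exact ⟨7, rfl⟩
      · exact ⟨6, rfl⟩
      · exact ⟨5, rfl⟩
      · exact ⟨4, rfl⟩
      · exact ⟨3, rfl⟩
      · exact ⟨2, rfl⟩
      · exact ⟨1, rfl⟩
      · exact ⟨0, rfl⟩
    rw [hj] at hd ⊢
    exact Nat.pow_dvd_pow 2 ((Nat.Prime.pow_dvd_iff_le_factorization Nat.prime_two Nat.card_pos.ne').1 hd)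
  have hpN : p ∣ Nat.card N := D.S.card_P ▸ Subgroup.card_dvd_of_le hPN
  have h2N : pow2 D.c ∣ Nat.card N := hpow2.trans (Subgroup.card_dvd_of_le hTN)
  have hcop : p.Coprime (pow2 D.c) :=
    (Nat.Coprime.coprime_dvd_right (dvd_refl _) ((Fact.out : p.Prime).coprime_iff_not_dvd.2 fun h => by
      have h' := hpow2
      rw [hT', Subgroup.card_map_of_injective D.C.subtype_injective, T.card_eq_multiplicity] at h'
      exact hp2 ((Nat.prime_dvd_prime_iff_eq Fact.out Nat.prime_two).1
        ((Fact.out : p.Prime).dvd_of_dvd_pow (h.trans h')))))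
  have hst : p * pow2 D.c ∣ Nat.card N := hcop.mul_dvd_of_dvd_of_dvd hpN h2N
  have hNC : Nat.card N ∣ Nat.card Cz := Subgroup.card_dvd_of_le inf_le_left
  have hNM : Nat.card N ∣ p * D.c * D.e := by
    refine (Subgroup.card_dvd_of_le (inf_le_right : N ≤ _)).trans (dvd_of_eq ?_)
    have h1 := D.card_normalizer hG
    have h2 := D.hn
    have hn0 : 0 < D.n := by rw [D.hn_card]; exact Nat.card_pos
    refine Nat.eq_of_mul_eq_mul_left hn0 ?_
    rw [h1]
    have hpd : p ∣ ord := by rcases hp with rfl | rfl | rfl <;> decide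
    calc ord = p * (ord / p) := (Nat.mul_div_cancel' hpd).symm
      _ = _ := by rw [← h2]; ring
  have hidx : Nat.card Cz / Nat.card N % p = 1 := by
    set P' := (D.P : Subgroup G).subgroupOf Cz with hP'
    have hP'c : Nat.card P' = p := by
      rw [hP', Nat.card_congr (Subgroup.subgroupOfEquivOfLe hPz).toEquiv, D.S.card_P]
    obtain ⟨m, hm⟩ : p ∣ Nat.card Cz := hP'c ▸ Subgroup.card_subgroup_dvd_card P'
    have hpm : ¬ p ∣ m := fun h => not_sq_dvd hG (by omega)
      ((pow_two p) ▸ (mul_dvd_mul_left p h).trans (hm ▸ Subgroup.card_subgroup_dvd_card Cz))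
    have hfac : p = p ^ (Nat.card Cz).factorization p := by
      rw [hm, Nat.factorization_mul (Fact.out : p.Prime).ne_zero (fun h => hpm (by rw [h]; exact dvd_zero p)),
        Finsupp.add_apply, (Fact.out : p.Prime).factorization_self,
        Nat.factorization_eq_zero_of_not_dvd hpm, add_zero, pow_one]
    let Q : Sylow p Cz := Sylow.ofCard P' (hP'c.trans hfac)
    have h := Small.card_normalizer_mul Q
    have hmod := (Small.sylow_facts (G := Cz) (p := p) 1 m (by rw [pow_one, hm]) hpm).2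
    have eN : Nat.card (Subgroup.normalizer ((Q : Subgroup Cz) : Set Cz)) = Nat.card N := by
      have e : Subgroup.normalizer ((Q : Subgroup Cz) : Set Cz) = N.subgroupOf Cz := by
        ext g
        show g ∈ Subgroup.normalizer (P' : Set Cz) ↔ _
        rw [Subgroup.mem_subgroupOf, hN, Subgroup.mem_inf, and_iff_right g.2,
          Subgroup.mem_normalizer_iff, Subgroup.mem_normalizer_iff]
        constructor
        · intro h v
          constructor
          · intro hv
            exact (h ⟨v, hPz hv⟩).1 hv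
          · intro hv
            have hvC : v ∈ Cz := by
              have := mul_mem (mul_mem (inv_mem g.2) (hPz hv)) g.2
              simpa [mul_assoc] using this
            exact (h ⟨v, hvC⟩).2 hv
        · intro h v
          exact h v
      rw [e, Nat.card_congr (Subgroup.subgroupOfEquivOfLe inf_le_left).toEquiv]
    rw [eN] at h
    rw [← h, Nat.mul_div_cancel _ Nat.card_pos]
    exact hmod
  simp only [cents, List.mem_filter, Bool.and_eq_true, decide_eq_true_eq, List.any_eq_true,
    normOrders]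
  exact ⟨mem_divList (card_centralizer_dvd hG z),
    ⟨fun e => h23 z hz (Nat.dvd_of_mod_eq_zero e), card_centralizer_le hG hz1,
      Nat.mod_eq_zero_of_dvd (four_dvd_centralizer hG hz), Nat.mod_eq_zero_of_dvd (hst.trans hNC)⟩,
    Nat.card N, ⟨mem_divList (card_G hG ▸ Subgroup.card_subgroup_dvd_card N),
      Nat.mod_eq_zero_of_dvd hst, Nat.mod_eq_zero_of_dvd hNM⟩, Nat.mod_eq_zero_of_dvd hNC, hidx⟩

/-- A class multiplication test. -/
theorem fracOK_of (hG : IsM23 G) (hp : p = 5 ∨ p = 7 ∨ p = 11) {z : G} (hz : orderOf z = 2)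
    {qd : ℤ} (hqd : (qd : ℂ) = (ord : ℂ) * Lst.T D z) :
    fracOK p D.e D.c (Nat.card (Subgroup.centralizer ({z} : Set G))) qd = true := by
  have hp2 : p ≠ 2 := by omega
  obtain ⟨m, hm, hodd, h⟩ := D.frac_full hp2 (D.not_dvd_c hG (by omega)) hz
  have key : (D.c : ℤ) * qd =
      ((p * m * m * Nat.card (Subgroup.centralizer ({z} : Set G)) *
        Nat.card (Subgroup.centralizer ({z} : Set G)) : ℕ) : ℤ) := by
    apply Int.cast_injective (α := ℂ)
    rw [card_G hG] at h
    push_cast at h ⊢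
    rw [hqd]
    linear_combination -h
  refine fracOK_of_count (Fact.out : p.Prime).pos Nat.card_pos D.c_pos hm (fun he => ?_) key
  rw [hodd he] at key
  simp only [mul_zero, zero_mul, Nat.cast_zero, mul_eq_zero, Nat.cast_eq_zero] at key
  exact key.resolve_left D.c_pos.ne'

end Dat

/-- A central involution of a Sylow 2-subgroup. -/
theorem exists_involution_sylow (hG : IsM23 G) :
    ∃ z : G, orderOf z = 2 ∧ 128 ∣ Nat.card (Subgroup.centralizer ({z} : Set G)) := by
  classical
  haveI : Fact (Nat.Prime 2) := ⟨Nat.prime_two⟩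
  obtain ⟨S⟩ : Nonempty (Sylow 2 G) := inferInstance
  haveI : Nontrivial (S : Subgroup G) := by
    rw [← Finite.one_lt_card_iff_nontrivial, card_sylow_two hG S]; norm_num
  haveI : Nontrivial (Subgroup.center (S : Subgroup G)) := S.2.center_nontrivial
  obtain ⟨k, hk, hk'⟩ := (S.2.to_subgroup (Subgroup.center (S : Subgroup G))).nontrivial_iff_card.1
    inferInstance
  obtain ⟨w, hw⟩ := exists_prime_orderOf_dvd_card' (G := Subgroup.center (S : Subgroup G)) 2
    (hk' ▸ dvd_pow_self 2 hk.ne')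
  refine ⟨((w : (S : Subgroup G)) : G), by rw [Subgroup.orderOf_coe, Subgroup.orderOf_coe, hw], ?_⟩
  rw [← card_sylow_two hG S]
  refine Subgroup.card_dvd_of_le fun s hs => Subgroup.mem_centralizer_singleton_iff.2 ?_
  exact congrArg Subtype.val (Subgroup.mem_center_iff.1 w.2 ⟨s, hs⟩)

end Cfsg.Lib.MTwentyThree
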