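import Cfsg.Agent.Lib.MTwentyThree.CentInv

/-!
# The normalizer of the elementary group of order 16

All involutions of `E t` define the same group, so its normalizer has order 40320 and is transitive
on them, with a simple quotient of order 2520.
-/

set_option autoImplicit false
set_option linter.style.haveILetI false
set_option linter.unusedSectionVars false

namespace Cfsg.Lib.MTwentyThree

open Cfsg Cfsg.Lib

universe u

variable {G : Type u} [Group G] [Fintype G]

open Classical in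
/-- The conjugates of an element under a subgroup. -/
noncomputable def orb (H : Subgroup G) (t : G) : Finset G :=
  Finset.univ.image fun h : H => (h : G) * t * (h : G)⁻¹

theorem mem_orb {H : Subgroup G} {t a : G} : a ∈ orb H t ↔ ∃ h ∈ H, h * t * h⁻¹ = a := by
  classical
  simp [orb]

theorem card_eq_orb_mul (H : Subgroup G) (t : G) :
    Nat.card H = (orb H t).card * Nat.card (H ⊓ cn t : Subgroup G) := by
  classical
  have h := Finset.card_eq_sum_card_fiberwise (s := (Finset.univ : Finset H)) (t := orb H t)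
    (f := fun h : H => (h : G) * t * (h : G)⁻¹) fun h _ => Finset.mem_coe.2 (mem_orb.2 ⟨h, h.2, rfl⟩)
  rw [Finset.card_univ, ← Nat.card_eq_fintype_card] at h
  rw [h, Finset.sum_const_nat fun a ha => ?_]
  obtain ⟨g, hg, rfl⟩ := mem_orb.1 ha
  rw [Nat.card_eq_fintype_card, ← Finset.card_univ]
  refine Finset.card_bij' (fun k _ => ⟨g⁻¹ * k, ⟨H.mul_mem (H.inv_mem hg) k.2, ?_⟩⟩)
    (fun k _ => ⟨g * k, H.mul_mem hg k.2.1⟩) (fun k _ => Finset.mem_univ _) ?_ ?_ ?_
  · rw [Finset.mem_filter] at *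
    rename_i hk
    refine mem_cn.2 ?_
    calc g⁻¹ * k * t = g⁻¹ * ((k : G) * t * (k : G)⁻¹) * k := by group
      _ = g⁻¹ * (g * t * g⁻¹) * k := by rw [hk.2]
      _ = t * (g⁻¹ * k) := by group
  · intro k _
    refine Finset.mem_filter.2 ⟨Finset.mem_univ _, ?_⟩
    show g * (k : G) * t * (g * (k : G))⁻¹ = g * t * g⁻¹
    calc g * (k : G) * t * (g * (k : G))⁻¹ = g * ((k : G) * t * (k : G)⁻¹) * g⁻¹ := by group
      _ = g * t * g⁻¹ := by rw [mem_cn.1 k.2.2]; group
  · intro k _; ext; simp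
  · intro k _; ext; simp

namespace Tbl

variable (T : Tbl G) (hG : IsM23 G)
include T hG

/-- A set of nontrivial elements of `E t` other than `t`, invariant under an element of order 7. -/
theorem seven_dvd {t x : G} (ht : orderOf t = 2) (hx : x ∈ cn t) (hxo : orderOf x = 7) (Ω : Finset G)
    (hsub : ∀ a ∈ Ω, a ∈ E t ∧ a ≠ 1 ∧ a ≠ t) (hinv : ∀ a ∈ Ω, x * a * x⁻¹ ∈ Ω) : 7 ∣ Ω.card := by
  classical
  haveI : Fact (Nat.Prime 7) := ⟨by norm_num⟩
  have h := card_fixed_modEq_finset (p := 7) Ω (fun r => x * r * x⁻¹) hinv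
    (fun r _ => by rw [conj_iterate, ← hxo, pow_orderOf_eq_one]; simp)
  rw [Finset.filter_eq_empty_iff.2 (fun a ha e => ?_), Finset.card_empty] at h
  · exact Nat.modEq_zero_iff_dvd.1 h.symm
  obtain ⟨h1, h2, h3⟩ := hsub a ha
  rcases T.fix_E hG ht hx hxo h1 (mul_inv_eq_iff_eq_mul.1 e) with e | e
  · exact h2 e
  · exact h3 e

theorem card_E_finset {t : G} (ht : orderOf t = 2) [DecidablePred (· ∈ E t)] :
    (Finset.univ.filter fun a : G => a ∈ E t).card = 16 := by
  rw [← Fintype.card_subtype, ← Nat.card_eq_fintype_card]; exact T.card_E hG ht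

theorem orderOf_E {t a : G} (ht : orderOf t = 2) (ha : a ∈ E t) (ha1 : a ≠ 1) : orderOf a = 2 := by
  rw [orderOf_eq_prime_iff, pow_two]; exact ⟨T.E_sq hG ht ha, ha1⟩

/-- The centralizers of two involutions in the same elementary group meet in order 384 or 192. -/
theorem inter_inside {t s : G} (ht : orderOf t = 2) (hs : s ∈ E t) (hs1 : s ≠ 1) (hst : s ≠ t) :
    3 ∣ Nat.card (cn t ⊓ cn s : Subgroup G) := by
  classical
  obtain ⟨x, hx, hxo⟩ := T.exists_seven hG ht
  have h := card_eq_orb_mul (cn t) s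
  rw [T.card_centralizer ht] at h
  have hsub : ∀ a ∈ orb (cn t) s, a ∈ E t ∧ a ≠ 1 ∧ a ≠ t := by
    intro a ha
    obtain ⟨g, hg, rfl⟩ := mem_orb.1 ha
    refine ⟨E_normal hg hs, fun e => hs1 (conj_eq_one_iff.1 e), fun e => hst ?_⟩
    rw [mul_inv_eq_iff_eq_mul, ← mem_cn.1 hg] at e
    exact mul_left_cancel e
  have h7 := T.seven_dvd hG ht hx hxo _ hsub fun a ha => by
    obtain ⟨g, hg, rfl⟩ := mem_orb.1 ha
    exact mem_orb.2 ⟨x * g, (cn t).mul_mem hx hg, by group⟩
  have hle : (orb (cn t) s).card ≤ 14 := by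
    have hsub' : orb (cn t) s ⊆ (Finset.univ.filter fun a : G => a ∈ E t) \ {1, t} := fun a ha => by
      obtain ⟨h1, h2, h3⟩ := hsub a ha
      simp [h1, h2, h3]
    have := Finset.card_le_card hsub'
    rw [Finset.card_sdiff_of_subset (fun r hr => by
      simp only [Finset.mem_insert, Finset.mem_singleton] at hr
      rcases hr with rfl | rfl
      · simp [(E t).one_mem]
      · simpa using T.mem_E_self hG ht), T.card_E_finset hG ht,
      Finset.card_pair (fun e : (1 : G) = t => by rw [← e, orderOf_one] at ht; norm_num at ht)] at this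
    exact this
  obtain ⟨j, hj⟩ := h7
  have hj2 : j = 1 ∨ j = 2 := by
    rcases Nat.eq_zero_or_pos j with rfl | hpos
    · rw [hj] at h; simp at h
    · omega
  rw [hj] at h
  rcases hj2 with rfl | rfl <;> omega

theorem mem_E_of_three {t s : G} (ht : orderOf t = 2) (hs : s ∈ cn t) (hs2 : s * s = 1)
    (h3 : 3 ∣ Nat.card (cn t ⊓ cn s : Subgroup G)) : s ∈ E t := by
  haveI : Fact (Nat.Prime 3) := ⟨Nat.prime_three⟩
  obtain ⟨⟨y, hy⟩, hyo⟩ := exists_prime_orderOf_dvd_card' (G := (cn t ⊓ cn s : Subgroup G)) 3 h3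
  rw [Subgroup.orderOf_mk] at hyo
  obtain ⟨hy1, hy2⟩ := hy
  exact T.three_outside hG ht hs hs2 hy1 hyo (mem_cn.1 hy2)

theorem E_symm {t s : G} (ht : orderOf t = 2) (hs : s ∈ E t) (hs1 : s ≠ 1) : t ∈ E s := by
  by_cases hst : s = t
  · rw [hst]; exact T.mem_E_self hG ht
  refine T.mem_E_of_three hG (T.orderOf_E hG ht hs hs1) (mem_cn.2 (mem_cn.1 (E_le t hs)).symm)
    (by rw [← pow_two, ← ht]; exact pow_orderOf_eq_one t) ?_
  rw [inf_comm]
  exact T.inter_inside hG ht hs hs1 hst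

/-- The part of `E t` centralized by an element of another elementary group. -/
theorem inter_eq {t s u e : G} (ht : orderOf t = 2) (hs : s ∈ E t) (hu : u = t * s) (hs1 : s ≠ 1)
    (hst : s ≠ t) (hec : e ∈ cn t ⊓ cn s) (he2 : e * e = 1) (he : e ∉ E t) {a : G} (ha : a ∈ E t)
    (hea : e * a = a * e) : a = 1 ∨ a = t ∨ a = s ∨ a = u := by
  classical
  have h4 := T.four_outside hG ht hec.1 he he2
  rw [Nat.card_eq_fintype_card, Fintype.card_subtype] at h4
  have ht1 : t ≠ 1 := fun e' => by rw [e', orderOf_one] at ht; norm_num at ht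
  have hu1 : u ≠ 1 := fun e' => hst (by
    rw [hu] at e'
    rw [← inv_eq_of_mul_eq_one_right (show t * t = 1 by rw [← pow_two, ← ht]; exact pow_orderOf_eq_one t)]
    exact eq_inv_of_mul_eq_one_right e')
  have hut : u ≠ t := fun e' => hs1 (mul_eq_left.1 (hu ▸ e'))
  have hus : u ≠ s := fun e' => ht1 (mul_eq_right.1 (hu ▸ e'))
  have hsub : ({1, t, s, u} : Finset G) ⊆ Finset.univ.filter fun a => a ∈ E t ∧ e * a = a * e := by
    intro b hb
    simp only [Finset.mem_insert, Finset.mem_singleton] at hb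
    refine Finset.mem_filter.2 ⟨Finset.mem_univ _, ?_⟩
    rcases hb with rfl | rfl | rfl | rfl
    · exact ⟨(E t).one_mem, by simp⟩
    · exact ⟨T.mem_E_self hG ht, mem_cn.1 hec.1⟩
    · exact ⟨hs, mem_cn.1 hec.2⟩
    · rw [hu]
      exact ⟨(E t).mul_mem (T.mem_E_self hG ht) hs, by
        rw [← mul_assoc, mem_cn.1 hec.1, mul_assoc, mem_cn.1 hec.2, ← mul_assoc]⟩
  have hc : ({1, t, s, u} : Finset G).card = 4 := by
    rw [Finset.card_insert_of_notMem (by simp [Ne.symm ht1, Ne.symm hs1, Ne.symm hu1]),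
      Finset.card_insert_of_notMem (by simp [Ne.symm hst, Ne.symm hut]), Finset.card_pair (Ne.symm hus)]
  have heq := Finset.eq_of_subset_of_card_le hsub (by rw [h4, hc])
  have : a ∈ ({1, t, s, u} : Finset G) := heq ▸ Finset.mem_filter.2 ⟨Finset.mem_univ _, ha, hea⟩
  simpa using this

/-- Some other involution of `E t` defines the same group. -/
theorem exists_same {t : G} (ht : orderOf t = 2) : ∃ s ∈ E t, s ≠ 1 ∧ s ≠ t ∧ E s = E t := by
  classical
  suffices h : ∃ t₀ : G, orderOf t₀ = 2 ∧ ∃ s ∈ E t₀, s ≠ 1 ∧ s ≠ t₀ ∧ E s = E t₀ by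
    obtain ⟨t₀, ht₀, s, hs, hs1, hs0, he⟩ := h
    obtain ⟨g, rfl⟩ := isConj_iff.1 (T.inv_conj ht₀ ht)
    refine ⟨g * s * g⁻¹, ?_, fun e => hs1 (conj_eq_one_iff.1 e),
      fun e => hs0 ((MulAut.conj g).injective e), ?_⟩
    · rw [T.E_conj hG ht₀]; exact ⟨s, hs, rfl⟩
    · rw [T.E_conj hG ht₀, T.E_conj hG (T.orderOf_E hG ht₀ hs hs1), he]
  by_contra hno
  simp only [not_exists, not_and] at hno
  obtain ⟨s, hs, hs'⟩ := Finset.exists_mem_notMem_of_card_lt_card
    (s := ({1, t} : Finset G)) (t := Finset.univ.filter fun a : G => a ∈ E t)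
    (lt_of_le_of_lt Finset.card_le_two (by rw [T.card_E_finset hG ht]; norm_num))
  simp only [Finset.mem_insert, Finset.mem_singleton, not_or, Finset.mem_filter, Finset.mem_univ,
    true_and] at hs hs'
  obtain ⟨hs1, hst⟩ := hs'
  have hso := T.orderOf_E hG ht hs hs1
  have ht2 : t * t = 1 := by rw [← pow_two, ← ht]; exact pow_orderOf_eq_one t
  have hts : t ∈ E s := T.E_symm hG ht hs hs1
  set u := t * s with hu
  have huE : u ∈ E t := (E t).mul_mem (T.mem_E_self hG ht) hs
  have hu1 : u ≠ 1 := fun e => hst (by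
    rw [← inv_eq_of_mul_eq_one_right ht2]; exact eq_inv_of_mul_eq_one_right e)
  have hut : u ≠ t := fun e => hs1 (mul_eq_left.1 e)
  have hus : u ≠ s := fun e => (show t ≠ 1 from fun e' => by
    rw [e', orderOf_one] at ht; norm_num at ht) (mul_eq_right.1 e)
  have huo := T.orderOf_E hG ht huE hu1
  have htu : t ∈ E u := T.E_symm hG ht huE hu1
  have husE : u ∈ E s := (E s).mul_mem hts (T.mem_E_self hG hso)
  have hsu : s ∈ E u := T.E_symm hG hso husE hu1
  have hst' : E s ≠ E t := hno t ht s hs hs1 hst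
  have hut' : E u ≠ E t := hno t ht u huE hu1 hut
  have hus' : E u ≠ E s := hno s hso u husE hu1 hus
  set D := cn t ⊓ cn s with hD
  haveI : Fact (Nat.Prime 3) := ⟨Nat.prime_three⟩
  haveI : Fact (Nat.Prime 2) := ⟨Nat.prime_two⟩
  obtain ⟨⟨y, hy⟩, hyo⟩ := exists_prime_orderOf_dvd_card' (G := D) 3
    (T.inter_inside hG ht hs hs1 hst)
  rw [Subgroup.orderOf_mk] at hyo
  obtain ⟨hy1, hy2⟩ := hy
  have hDu : D ≤ cn u := fun d hd => mem_cn.2 (by
    rw [hu, ← mul_assoc, mem_cn.1 hd.1, mul_assoc, mem_cn.1 hd.2, ← mul_assoc])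
  have hleD : ∀ {r : G}, orderOf r = 2 → t ∈ E r → s ∈ E r → E r ≤ D := fun {r} hr h1 h2 a ha =>
    ⟨mem_cn.2 (T.E_comm hG hr ha h1), mem_cn.2 (T.E_comm hG hr ha h2)⟩
  have hAD := hleD ht (T.mem_E_self hG ht) hs
  have hBD := hleD hso hts (T.mem_E_self hG hso)
  have hCD := hleD huo htu hsu
  have hnorm : ∀ {r : G}, D ≤ cn r → D ≤ Subgroup.normalizer ((E r : Subgroup G) : Set G) := by
    intro r hr d hd
    refine Subgroup.mem_normalizer_iff.2 fun a => ⟨fun ha => E_normal (hr hd) ha, fun ha => ?_⟩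
    have := E_normal (hr (D.inv_mem hd)) ha
    simpa [mul_assoc] using this
  have hDA := hnorm (r := t) inf_le_left
  have hDB := hnorm (r := s) inf_le_right
  have hDC := hnorm (r := u) hDu
  have h2 : ∀ {r : G}, orderOf r = 2 → IsPGroup 2 (E r) := fun {r} hr =>
    IsPGroup.of_card (n := 4) (by rw [T.card_E hG hr]; norm_num)
  set W₀ := E t ⊔ E s with hW₀
  set W := W₀ ⊔ E u with hW
  have hW₀2 : IsPGroup 2 W₀ := (h2 ht).to_sup_of_normal_left' (h2 hso) (hBD.trans hDA)
  have hW₀D : W₀ ≤ D := sup_le hAD hBD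
  have hW2 : IsPGroup 2 W := hW₀2.to_sup_of_normal_right' (h2 huo) (hW₀D.trans hDC)
  have hWD : W ≤ D := sup_le hW₀D hCD
  -- the intersection of two of the groups
  have hI : ∀ a ∈ E t, ∀ e ∈ E s, e ∉ E t → e * a = a * e → a ∈ E s := by
    intro a ha e he he' hea
    rcases T.inter_eq hG ht hs hu hs1 hst (hBD he) (T.E_sq hG hso he) he' ha hea with r | r | r | r
    · rw [r]; exact (E s).one_mem
    · rw [r]; exact hts
    · rw [r]; exact T.mem_E_self hG hso
    · rw [r]; exact husE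
  obtain ⟨e₀, he₀, he₀'⟩ : ∃ e ∈ E s, e ∉ E t := by
    by_contra h
    simp only [not_exists, not_and, not_not] at h
    exact hst' (Subgroup.eq_of_le_of_card_ge h (by rw [T.card_E hG hso, T.card_E hG ht]))
  have hI4 : Nat.card (E t ⊓ E s : Subgroup G) ≤ 4 := by
    rw [← T.four_outside hG ht (hBD he₀).1 he₀' (T.E_sq hG hso he₀)]
    refine Nat.card_le_card_of_injective
      (fun a => ⟨a.1, a.2.1, T.E_comm hG hso he₀ a.2.2⟩) fun a b h => Subtype.ext ?_
    simpa using congrArg Subtype.val h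
  have hW₀64 : 64 ≤ Nat.card W₀ := by
    have h1 := Subgroup.relIndex_mul_relIndex ⊥ (E t) W₀ bot_le le_sup_left
    have h2 := Subgroup.relIndex_mul_relIndex ⊥ (E t ⊓ E s) (E s) bot_le inf_le_right
    simp only [Subgroup.relIndex_bot_left, Subgroup.inf_relIndex_right] at h1 h2
    rw [T.card_E hG ht] at h1
    rw [T.card_E hG hso] at h2
    have h3 : (E t).relIndex (E s) ≤ (E t).relIndex W₀ :=
      Subgroup.relIndex_le_of_le_right le_sup_right Subgroup.index_ne_zero_of_finite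
    nlinarith
  -- the third group is outside
  have hCW : ¬ E u ≤ W₀ := by
    intro hle
    refine hus' (Subgroup.eq_of_le_of_card_ge (fun f hf => ?_) (by rw [T.card_E hG hso, T.card_E hG huo]))
    have hf' := hle hf
    rw [← SetLike.mem_coe, hW₀,
      Subgroup.coe_mul_of_right_le_normalizer_left (E t) (E s) (hBD.trans hDA)] at hf'
    obtain ⟨a, ha, e, he, rfl⟩ := hf'
    rw [SetLike.mem_coe] at ha he
    simp only at hf ⊢
    by_cases het : e ∈ E t
    · have hfA : a * e ∈ E t := (E t).mul_mem ha het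
      obtain ⟨e₁, he₁, he₁'⟩ : ∃ e ∈ E u, e ∉ E t := by
        by_contra h
        simp only [not_exists, not_and, not_not] at h
        exact hut' (Subgroup.eq_of_le_of_card_ge h (by rw [T.card_E hG huo, T.card_E hG ht]))
      rcases T.inter_eq hG ht hs hu hs1 hst (hCD he₁) (T.E_sq hG huo he₁) he₁' hfA
        (T.E_comm hG huo he₁ hf) with r | r | r | r
      · rw [r]; exact (E s).one_mem
      · rw [r]; exact hts
      · rw [r]; exact T.mem_E_self hG hso
      · rw [r]; exact husE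
    · have hsq := T.E_sq hG huo hf
      have hea : e * a = a * e := by
        calc e * a = (a * e)⁻¹ := by
              rw [mul_inv_rev, inv_eq_of_mul_eq_one_right (T.E_sq hG ht ha),
                inv_eq_of_mul_eq_one_right (T.E_sq hG hso he)]
          _ = a * e := inv_eq_of_mul_eq_one_right hsq
      exact (E s).mul_mem (hI a ha e he het hea) he
  obtain ⟨k, hk⟩ := IsPGroup.iff_card.1 hW2
  have hlt : Nat.card W₀ < Nat.card W := lt_of_not_ge fun h =>
    hCW (le_trans le_sup_right (Subgroup.eq_of_le_of_card_ge (le_sup_left : W₀ ≤ W) h).ge)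
  have hdvd : 2 ^ k ∣ 2 ^ 7 * 21 := by
    rw [← hk, show 2 ^ 7 * 21 = Nat.card (cn t) by rw [T.card_centralizer ht]; norm_num]
    exact Subgroup.card_dvd_of_le (hWD.trans inf_le_left)
  have hk7 : 2 ^ k ∣ 2 ^ 7 :=
    (Nat.Coprime.pow_left k (by norm_num : Nat.Coprime 2 21)).dvd_of_dvd_mul_right hdvd
  have hW128 : Nat.card W = 128 := by
    have h1 := Nat.le_of_dvd (by norm_num) hk7
    obtain ⟨i, hi, hie⟩ := (Nat.dvd_prime_pow Nat.prime_two).1 hk7
    rw [hk, hie] at hlt ⊢
    interval_cases i <;> omega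
  refine T.three_not_normalize hG ht (le_trans le_sup_left le_sup_left) (hWD.trans inf_le_left) hW128
    hy1 hyo fun a ha => ?_
  have hyn : W.map (MulAut.conj y).toMonoidHom ≤ W := by
    rw [hW, hW₀, Subgroup.map_sup, Subgroup.map_sup]
    refine sup_le_sup (sup_le_sup ?_ ?_) ?_
    · rintro _ ⟨b, hb, rfl⟩; exact E_normal hy1 hb
    · rintro _ ⟨b, hb, rfl⟩; exact E_normal hy2 hb
    · rintro _ ⟨b, hb, rfl⟩; exact E_normal (hDu ⟨hy1, hy2⟩) hb
  exact hyn ⟨a, ha, rfl⟩

end Tbl

end Cfsg.Lib.MTwentyThree
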