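import Cfsg.Agent.Lib.MTwentyThree.Norm

/-!
# The normalizer of the elementary group of order 16, II

It has order 40320, is transitive on the involutions of the group, and no normal subgroup lies strictly
between the group and the normalizer.
-/

set_option autoImplicit false
set_option linter.style.haveILetI false
set_option linter.unusedSectionVars false

namespace Cfsg.Lib.MTwentyThree

open Cfsg Cfsg.Lib

universe u

variable {G : Type u} [Group G]

/-- The normalizer of `E t`. -/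
def nE (t : G) : Subgroup G := Subgroup.normalizer ((E t : Subgroup G) : Set G)

theorem mem_nE {t g : G} (hg : g ∈ nE t) {a : G} (ha : a ∈ E t) : g * a * g⁻¹ ∈ E t :=
  (Subgroup.mem_normalizer_iff.1 hg a).1 ha

theorem cn_le_nE [Fintype G] (t : G) : cn t ≤ nE t := fun g hg => Subgroup.mem_normalizer_iff.2 fun a =>
  ⟨fun ha => Tbl.E_normal hg ha, fun ha => by
    simpa [mul_assoc] using Tbl.E_normal ((cn t).inv_mem hg) ha⟩

theorem E_le_nE (t : G) : E t ≤ nE t := Subgroup.le_normalizer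

variable [Fintype G]

namespace Tbl

variable (T : Tbl G) (hG : IsM23 G)
include T hG

theorem t_ne_one {t : G} (ht : orderOf t = 2) : t ≠ 1 := fun e => by
  rw [e, orderOf_one] at ht; norm_num at ht

/-- The orbit of `t` under a subgroup normalizing `E t` and an element of order 7 fixing `t`. -/
theorem orb_seven {t : G} (ht : orderOf t = 2) {M : Subgroup G} (hM : M ≤ nE t) {x : G} (hx : x ∈ cn t)
    (hxo : orderOf x = 7) (hxM : ∀ m ∈ M, x * m * x⁻¹ ∈ M) :
    ((orb M t).card = 1 ∨ (orb M t).card = 8 ∨ (orb M t).card = 15) ∧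
      ((orb M t).card = 15 → ∀ a ∈ E t, a ≠ 1 → a ∈ orb M t) := by
  classical
  set A := (Finset.univ.filter fun a : G => a ∈ E t).erase 1 with hA
  have hA15 : A.card = 15 := by
    rw [hA, Finset.card_erase_of_mem (by simp [(E t).one_mem]), T.card_E_finset hG ht]
  have hsub : orb M t ⊆ A := fun a ha => by
    obtain ⟨g, hg, rfl⟩ := mem_orb.1 ha
    exact Finset.mem_erase.2 ⟨fun e => T.t_ne_one hG ht (conj_eq_one_iff.1 e),
      Finset.mem_filter.2 ⟨Finset.mem_univ _, mem_nE (hM hg) (T.mem_E_self hG ht)⟩⟩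
  have htO : t ∈ orb M t := mem_orb.2 ⟨1, M.one_mem, by group⟩
  have h7 := T.seven_dvd hG ht hx hxo ((orb M t).erase t) (fun a ha => by
      obtain ⟨h1, h2⟩ := Finset.mem_erase.1 ha
      obtain ⟨h3, h4⟩ := Finset.mem_erase.1 (hsub h2)
      exact ⟨(Finset.mem_filter.1 h4).2, h3, h1⟩) fun a ha => by
      obtain ⟨h1, h2⟩ := Finset.mem_erase.1 ha
      obtain ⟨g, hg, rfl⟩ := mem_orb.1 h2
      refine Finset.mem_erase.2 ⟨fun e => h1 ?_, mem_orb.2 ⟨x * g * x⁻¹, hxM g hg, ?_⟩⟩
      · rw [mul_inv_eq_iff_eq_mul, ← mem_cn.1 hx] at e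
        exact mul_left_cancel e
      · have hxt : x⁻¹ * t * x = t := by rw [mul_assoc, ← mem_cn.1 hx, inv_mul_cancel_left]
        calc x * g * x⁻¹ * t * (x * g * x⁻¹)⁻¹ = x * g * (x⁻¹ * t * x) * g⁻¹ * x⁻¹ := by group
          _ = x * (g * t * g⁻¹) * x⁻¹ := by rw [hxt]; group
  have hle := Finset.card_le_card hsub
  rw [Finset.card_erase_of_mem htO] at h7
  have hpos := Finset.card_pos.2 ⟨t, htO⟩
  refine ⟨by omega, fun h15 a ha ha1 => ?_⟩
  rw [Finset.eq_of_subset_of_card_le hsub (by omega)]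
  exact Finset.mem_erase.2 ⟨ha1, Finset.mem_filter.2 ⟨Finset.mem_univ _, ha⟩⟩

theorem cn_ne {t s : G} (ht : orderOf t = 2) (hs : s ∈ E t) (hs1 : s ≠ 1) (hst : s ≠ t) :
    cn s ≠ cn t := by
  intro h
  obtain ⟨x, hx, hxo⟩ := T.exists_seven hG ht
  have hxs : x * s = s * x := mem_cn.1 (h ▸ hx)
  rcases T.fix_E hG ht hx hxo hs hxs with e | e
  · exact hs1 e
  · exact hst e

theorem orb_nE {t : G} (ht : orderOf t = 2) :
    (orb (nE t) t).card = 15 ∧ ∀ a ∈ E t, a ≠ 1 → a ∈ orb (nE t) t := by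
  obtain ⟨x, hx, hxo⟩ := T.exists_seven hG ht
  obtain ⟨hopt, hall⟩ := T.orb_seven hG ht le_rfl hx hxo
    fun m hm => (nE t).mul_mem ((nE t).mul_mem (cn_le_nE t hx) hm) ((nE t).inv_mem (cn_le_nE t hx))
  have hcard := card_eq_orb_mul (nE t) t
  rw [inf_eq_right.2 (cn_le_nE t), T.card_centralizer ht] at hcard
  have h15 : (orb (nE t) t).card = 15 := by
    rcases hopt with h | h | h
    · exfalso
      obtain ⟨s, hs, hs1, hst, he⟩ := T.exists_same hG ht
      have hle : cn s ≤ nE t := by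
        have := cn_le_nE (G := G) s
        rwa [nE, he] at this
      have e : cn t = nE t := Subgroup.eq_of_le_of_card_ge (cn_le_nE t) (by
        rw [hcard, h, one_mul, T.card_centralizer ht])
      exact T.cn_ne hG ht hs hs1 hst (Subgroup.eq_of_le_of_card_ge (e ▸ hle)
        (by rw [T.card_centralizer ht, T.card_centralizer (T.orderOf_E hG ht hs hs1)]))
    · exfalso
      have hd := (nE t).card_subgroup_dvd_card
      rw [hcard, h, card_G hG, ord] at hd
      norm_num at hd
    · exact h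
  exact ⟨h15, hall h15⟩

theorem card_nE {t : G} (ht : orderOf t = 2) : Nat.card (nE t) = 40320 := by
  rw [card_eq_orb_mul (nE t) t, inf_eq_right.2 (cn_le_nE t), T.card_centralizer ht,
    (T.orb_nE hG ht).1]

theorem nE_trans {t a : G} (ht : orderOf t = 2) (ha : a ∈ E t) (ha1 : a ≠ 1) :
    ∃ g ∈ nE t, g * t * g⁻¹ = a :=
  mem_orb.1 ((T.orb_nE hG ht).2 a ha ha1)

theorem E_eq_E {t a : G} (ht : orderOf t = 2) (ha : a ∈ E t) (ha1 : a ≠ 1) : E a = E t := by
  obtain ⟨g, hg, rfl⟩ := T.nE_trans hG ht ha ha1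
  rw [T.E_conj hG ht]
  refine Subgroup.eq_of_le_of_card_ge ?_ ?_
  · rintro _ ⟨b, hb, rfl⟩
    exact mem_nE hg hb
  · rw [Subgroup.card_map_of_injective (K := E t) (f := (MulAut.conj g).toMonoidHom)
      (MulAut.conj g).injective]

theorem cn_le_nE' {t a : G} (ht : orderOf t = 2) (ha : a ∈ E t) (ha1 : a ≠ 1) : cn a ≤ nE t := by
  have := cn_le_nE (G := G) a
  rwa [nE, T.E_eq_E hG ht ha ha1] at this

theorem nE_normal_cases {t : G} (ht : orderOf t = 2) {M : Subgroup G} (h1 : E t ≤ M) (h2 : M ≤ nE t)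
    (hn : ∀ g ∈ nE t, ∀ m ∈ M, g * m * g⁻¹ ∈ M) : M = E t ∨ M = nE t := by
  classical
  obtain ⟨x, hx, hxo⟩ := T.exists_seven hG ht
  have hcard := card_eq_orb_mul M t
  obtain ⟨hopt, hall⟩ := T.orb_seven hG ht h2 hx hxo (hn x (cn_le_nE t hx))
  obtain ⟨s, hs, hs1, hst, -⟩ := T.exists_same hG ht
  rcases T.normal_between hG ht (M := M ⊓ cn t) (le_inf h1 (E_le t)) inf_le_right (fun g hg m hm =>
    ⟨hn g (cn_le_nE t hg) m hm.1,
      (cn t).mul_mem ((cn t).mul_mem hg hm.2) ((cn t).inv_mem hg)⟩) with hI | hI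
  swap
  · -- the centralizer lies in `M`
    have hCM : cn t ≤ M := hI ▸ inf_le_left
    rw [hI, T.card_centralizer ht] at hcard
    rcases hopt with h | h | h
    · exfalso
      have e : cn t = M := Subgroup.eq_of_le_of_card_ge hCM (by rw [hcard, h, T.card_centralizer ht, one_mul])
      obtain ⟨g, hg, hgs⟩ := T.nE_trans hG ht hs hs1
      refine T.cn_ne hG ht hs hs1 hst (Subgroup.eq_of_le_of_card_ge (fun c hc => ?_)
        (by rw [T.card_centralizer ht, T.card_centralizer (T.orderOf_E hG ht hs hs1)]))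
      have hc' : g⁻¹ * c * g ∈ cn t := by
        rw [mem_cn] at hc ⊢
        rw [← hgs] at hc
        calc g⁻¹ * c * g * t = g⁻¹ * (c * (g * t * g⁻¹)) * g := by group
          _ = g⁻¹ * (g * t * g⁻¹ * c) * g := by rw [hc]
          _ = t * (g⁻¹ * c * g) := by group
      have := hn g hg _ (hCM hc')
      rw [← e] at this
      simpa [mul_assoc] using this
    · exfalso
      have hd := M.card_subgroup_dvd_card
      rw [hcard, h, card_G hG, ord] at hd
      norm_num at hd
    · right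
      exact Subgroup.eq_of_le_of_card_ge h2 (by rw [hcard, h, T.card_nE hG ht])
  rw [hI, T.card_E hG ht] at hcard
  rcases hopt with h | h | h
  · exact Or.inl (Subgroup.eq_of_le_of_card_ge h1 (by rw [hcard, h, T.card_E hG ht, one_mul])).symm
  · -- a 2-group fixes a nontrivial element of `E t`
    exfalso
    haveI : Fact (Nat.Prime 2) := ⟨Nat.prime_two⟩
    have hp : IsPGroup 2 M := IsPGroup.of_card (n := 7) (by rw [hcard, h]; norm_num)
    let act : MulAction M (E t : Subgroup G) :=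
      { smul := fun m a => ⟨(m : G) * a * (m : G)⁻¹, mem_nE (h2 m.2) a.2⟩
        one_smul := fun a => Subtype.ext (show (1 : G) * a * (1 : G)⁻¹ = a by group)
        mul_smul := fun m m' a => Subtype.ext (show (m : G) * m' * a * ((m : G) * m')⁻¹ =
          (m : G) * ((m' : G) * a * (m' : G)⁻¹) * (m : G)⁻¹ by group) }
    letI := act
    obtain ⟨⟨a, ha⟩, haf, hane⟩ := IsPGroup.exists_fixed_point_of_prime_dvd_card_of_fixed_point hp
      (E t : Subgroup G) (by rw [T.card_E hG ht]; norm_num) (a := ⟨1, (E t).one_mem⟩)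
      fun m => Subtype.ext (show (m : G) * 1 * (m : G)⁻¹ = 1 by group)
    have ha1 : a ≠ 1 := fun e => hane (Subtype.ext e.symm)
    obtain ⟨g, hg, hga⟩ := T.nE_trans hG ht ha ha1
    have hle : M ≤ cn t := by
      intro m hm
      have hm' : g * m * g⁻¹ * a = a * (g * m * g⁻¹) :=
        mul_inv_eq_iff_eq_mul.1 (congrArg Subtype.val (haf ⟨g * m * g⁻¹, hn g hg m hm⟩))
      rw [← hga] at hm'
      rw [mem_cn]
      calc m * t = g⁻¹ * (g * m * g⁻¹ * (g * t * g⁻¹)) * g := by group
        _ = g⁻¹ * (g * t * g⁻¹ * (g * m * g⁻¹)) * g := by rw [hm']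
        _ = t * m := by group
    rw [inf_eq_left.2 hle] at hI
    rw [h, hI, T.card_E hG ht] at hcard
    omega
  · -- no element of order 5 commutes with an element of order 7
    exfalso
    haveI : Fact (Nat.Prime 5) := ⟨by norm_num⟩
    haveI : Fact (Nat.Prime 7) := ⟨by norm_num⟩
    have h240 : Nat.card M = 240 := by rw [hcard, h]
    have hP : ∀ P : Sylow 5 M, Nat.card (P : Subgroup M) = 5 := fun P => by
      rw [Small.card_sylow 1 48 (by rw [h240]; norm_num) (by norm_num) P, pow_one]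
    obtain ⟨P⟩ : Nonempty (Sylow 5 M) := inferInstance
    have hd : Nat.card (Sylow 5 M) ∣ 48 := by
      have h1 := P.card_dvd_index
      have h2 := (P : Subgroup M).card_mul_index
      rw [hP P, h240] at h2
      rwa [show (P : Subgroup M).index = 48 by omega] at h1
    have hm : Nat.card (Sylow 5 M) % 5 = 1 := card_sylow_modEq_one 5 M
    have h5 := Small.card_orderOf_eq hP
    set Ω := Finset.univ.filter fun y : G => y ∈ M ∧ orderOf y = 5 with hΩ
    have hΩc : Ω.card = Nat.card (Sylow 5 M) * 4 := by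
      rw [show (4 : ℕ) = 5 - 1 by norm_num, ← h5, ← Nat.card_eq_finsetCard]
      exact Nat.card_congr
        { toFun := fun y => ⟨⟨y.1, (Finset.mem_filter.1 y.2).2.1⟩,
            by rw [Subgroup.orderOf_mk]; exact (Finset.mem_filter.1 y.2).2.2⟩
          invFun := fun y => ⟨y.1.1, Finset.mem_filter.2 ⟨Finset.mem_univ _, y.1.2,
            (Subgroup.orderOf_coe y.1).trans y.2⟩⟩
          left_inv := fun y => rfl
          right_inv := fun y => rfl }
    have hfix := card_fixed_modEq_finset (p := 7) Ω (fun r => x * r * x⁻¹)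
      (fun y hy => by
        obtain ⟨-, hyM, hyo⟩ := Finset.mem_filter.1 hy
        exact Finset.mem_filter.2 ⟨Finset.mem_univ _, hn x (cn_le_nE t hx) y hyM,
          by rw [show orderOf (x * y * x⁻¹) = orderOf y from (MulAut.conj x).orderOf_eq y, hyo]⟩)
      (fun r _ => by rw [conj_iterate, ← hxo, pow_orderOf_eq_one]; simp)
    rw [Finset.filter_eq_empty_iff.2 (fun y hy e => ?_), Finset.card_empty] at hfix
    · have h7 : 7 ∣ Ω.card := Nat.modEq_zero_iff_dvd.1 hfix.symm
      rw [hΩc] at h7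
      exact (show ∀ d ∈ Nat.divisors 48, d % 5 = 1 → ¬ 7 ∣ d * 4 by decide) _
        (Nat.mem_divisors.2 ⟨hd, by norm_num⟩) hm h7
    obtain ⟨-, -, hyo⟩ := Finset.mem_filter.1 hy
    have hyc : y ∈ Subgroup.centralizer ({x} : Set G) :=
      Subgroup.mem_centralizer_singleton_iff.2 (mul_inv_eq_iff_eq_mul.1 e).symm
    have h14 := Subgroup.orderOf_dvd_natCard _ hyc
    rw [hyo, (T.seven hG hxo).1] at h14
    norm_num at h14

end Tbl

end Cfsg.Lib.MTwentyThree
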