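import Cfsg.Agent.Lib.MTwentyThree.Perm

/-!
# Two conjugates of the normalizer meeting in order 360

There are such pairs, and neither elementary group meets the other normalizer.
-/

set_option autoImplicit false
set_option linter.style.haveILetI false
set_option linter.unusedSectionVars false

namespace Cfsg.Lib.MTwentyThree

open Cfsg Cfsg.Lib

universe u

variable {G : Type u} [Group G]

/-- The order of the intersection of the normalizer with its conjugate. -/
noncomputable def meet (t g : G) : ℕ :=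
  Nat.card (nE t ⊓ (nE t).map (MulAut.conj g).toMonoidHom : Subgroup G)

theorem map_conj_map (H : Subgroup G) (g h : G) :
    (H.map (MulAut.conj h).toMonoidHom).map (MulAut.conj g).toMonoidHom =
      H.map (MulAut.conj (g * h)).toMonoidHom := by
  rw [Subgroup.map_map]
  exact congrArg (fun f => H.map f) (MonoidHom.ext fun x => by
    show g * (h * x * h⁻¹) * g⁻¹ = g * h * x * (g * h)⁻¹
    group)

theorem map_conj_one (H : Subgroup G) : H.map (MulAut.conj (1 : G)).toMonoidHom = H := by
  ext x
  simp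

theorem meet_inv (t g : G) : meet t g⁻¹ = meet t g := by
  rw [meet, meet, inf_comm (nE t) ((nE t).map (MulAut.conj g).toMonoidHom),
    ← Subgroup.card_map_of_injective (K := (nE t ⊓ (nE t).map (MulAut.conj g⁻¹).toMonoidHom : Subgroup G))
      (f := (MulAut.conj g).toMonoidHom) (MulAut.conj g).injective,
    Subgroup.map_inf _ _ _ (MulAut.conj g).injective, map_conj_map, mul_inv_cancel, map_conj_one]

variable [Fintype G]

namespace Tbl

variable (T : Tbl G) (hG : IsM23 G)
include T hG

/-- The data of a coset in one of the suborbits. -/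
theorem suborbit_data {t g : G} (_ht : orderOf t = 2) {ω : G ⧸ nE t} {n : G} (hn : n ∈ nE t)
    (h : ((g : G) : G ⧸ nE t) = n • ω) :
    meet t g = Nat.card (nE t ⊓ MulAction.stabilizer G ω : Subgroup G) ∧
      Nat.card (E t ⊓ (nE t).map (MulAut.conj g).toMonoidHom : Subgroup G) =
        Nat.card (E t ⊓ MulAction.stabilizer G ω : Subgroup G) := by
  have hs : (nE t).map (MulAut.conj g).toMonoidHom =
      (MulAction.stabilizer G ω).map (MulAut.conj n).toMonoidHom := by
    rw [← T.stab_mk hG g, h, MulAction.stabilizer_smul_eq_stabilizer_map_conj]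
  have key : ∀ K : Subgroup G, K.map (MulAut.conj n).toMonoidHom = K →
      Nat.card (K ⊓ (nE t).map (MulAut.conj g).toMonoidHom : Subgroup G) =
        Nat.card (K ⊓ MulAction.stabilizer G ω : Subgroup G) := by
    intro K hK
    rw [hs, ← Subgroup.card_map_of_injective (K := (K ⊓ MulAction.stabilizer G ω : Subgroup G))
      (f := (MulAut.conj n).toMonoidHom) (MulAut.conj n).injective,
      Subgroup.map_inf _ _ _ (MulAut.conj n).injective, hK]
  refine ⟨key _ ?_, key _ ?_⟩
  · ext x
    rw [Subgroup.mem_map_equiv, MulAut.conj_symm_apply]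
    exact ((nE t).mul_mem_cancel_right hn).trans ((nE t).mul_mem_cancel_left ((nE t).inv_mem hn))
  · ext x
    rw [Subgroup.mem_map_equiv, MulAut.conj_symm_apply]
    exact ⟨fun hx => by simpa [mul_assoc] using mem_nE hn hx,
      fun hx => by simpa [mul_assoc] using mem_nE ((nE t).inv_mem hn) hx⟩

/-- No suborbit has length 28. -/
theorem no_twenty_eight {t g : G} (ht : orderOf t = 2) (hm : meet t g = 1440)
    (hA : E t ≤ (nE t).map (MulAut.conj g).toMonoidHom)
    (hA' : (E t).map (MulAut.conj g).toMonoidHom ≤ nE t) : False := by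
  classical
  haveI : Fact (Nat.Prime 2) := ⟨Nat.prime_two⟩
  set A := E t
  set B := (E t).map (MulAut.conj g).toMonoidHom with hB
  set L := nE t ⊓ (nE t).map (MulAut.conj g).toMonoidHom
  have hAL : A ≤ L := le_inf (E_le_nE t) hA
  have hBL : B ≤ L := le_inf hA' (Subgroup.map_mono (E_le_nE t))
  have hBn : B ≤ Subgroup.normalizer ((A : Subgroup G) : Set G) := hA'
  have hA2 : IsPGroup 2 A := IsPGroup.of_card (n := 4) (by rw [T.card_E hG ht]; norm_num)
  have hB16 : Nat.card B = 16 := by
    rw [hB, Subgroup.card_map_of_injective (K := E t) (f := (MulAut.conj g).toMonoidHom)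
      (MulAut.conj g).injective, T.card_E hG ht]
  have hB2 : IsPGroup 2 B := IsPGroup.of_card (n := 4) (by rw [hB16]; norm_num)
  have hW2 : IsPGroup 2 (A ⊔ B : Subgroup G) := hA2.to_sup_of_normal_left' hB2 hBn
  have hW32 : Nat.card (A ⊔ B : Subgroup G) ≤ 32 := by
    obtain ⟨k, hk⟩ := IsPGroup.iff_card.1 hW2
    have hd : 2 ^ k ∣ 2 ^ 5 * 45 := by
      rw [← hk, show 2 ^ 5 * 45 = meet t g by rw [hm]; norm_num]
      exact Subgroup.card_dvd_of_le (sup_le hAL hBL)
    rw [hk]
    exact Nat.le_of_dvd (by norm_num)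
      ((Nat.Coprime.pow_left k (by norm_num : Nat.Coprime 2 45)).dvd_of_dvd_mul_right hd)
  have hI : 8 ≤ Nat.card (A ⊓ B : Subgroup G) := by
    have h1 := Subgroup.relIndex_mul_relIndex ⊥ A (A ⊔ B) bot_le le_sup_left
    have h2 := Subgroup.relIndex_mul_relIndex ⊥ (A ⊓ B) B bot_le inf_le_right
    simp only [Subgroup.relIndex_bot_left, Subgroup.inf_relIndex_right] at h1 h2
    rw [T.card_E hG ht] at h1
    rw [hB16] at h2
    have h3 : A.relIndex B ≤ A.relIndex (A ⊔ B) :=
      Subgroup.relIndex_le_of_le_right le_sup_right Subgroup.index_ne_zero_of_finite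
    nlinarith
  obtain ⟨b, hbB, hbA⟩ : ∃ b ∈ B, b ∉ A := by
    by_contra h
    simp only [not_exists, not_and, not_not] at h
    have hBA : B = A := Subgroup.eq_of_le_of_card_ge h (by rw [hB16, T.card_E hG ht])
    have hgN : g ∈ nE t := by
      refine Subgroup.mem_normalizer_iff.2 fun a => ⟨fun ha => ?_, fun ha => ?_⟩
      · show g * a * g⁻¹ ∈ A
        rw [← hBA]; exact ⟨a, ha, rfl⟩
      · change g * a * g⁻¹ ∈ A at ha
        show a ∈ E t
        rw [← hBA] at ha
        obtain ⟨a', ha', e⟩ := ha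
        exact ((MulAut.conj g).injective e) ▸ ha'
    have e : (nE t).map (MulAut.conj g).toMonoidHom = nE t := by
      ext x
      rw [Subgroup.mem_map_equiv, MulAut.conj_symm_apply]
      exact ((nE t).mul_mem_cancel_right hgN).trans ((nE t).mul_mem_cancel_left ((nE t).inv_mem hgN))
    rw [meet, e, inf_idem, T.card_nE hG ht] at hm
    norm_num at hm
  obtain ⟨a₀, ha₀, ha₀1⟩ : ∃ a ∈ (A ⊓ B : Subgroup G), a ≠ 1 := by
    by_contra h
    simp only [not_exists, not_and, not_not] at h
    have : Nat.card (A ⊓ B : Subgroup G) ≤ 1 := by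
      rw [Finite.card_le_one_iff_subsingleton]
      exact ⟨fun p q => Subtype.ext ((h p p.2).trans (h q q.2).symm)⟩
    omega
  have ho := T.orderOf_E hG ht ha₀.1 ha₀1
  have hcomm : ∀ a ∈ B, ∀ c ∈ B, a * c = c * a := by
    rintro _ ⟨a, ha, rfl⟩ _ ⟨c, hc, rfl⟩
    rw [← map_mul, ← map_mul, T.E_comm hG ht ha hc]
  have hb2 : b * b = 1 := by
    obtain ⟨a, ha, rfl⟩ := hbB
    rw [← map_mul, T.E_sq hG ht ha, map_one]
  have hEa : E a₀ = A := T.E_eq_E hG ht ha₀.1 ha₀1
  have h4 := T.four_outside hG ho (mem_cn.2 (hcomm b hbB a₀ ha₀.2)) (by rwa [hEa]) hb2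
  rw [hEa] at h4
  have : Nat.card (A ⊓ B : Subgroup G) ≤ 4 := by
    rw [← h4]
    refine Nat.card_le_card_of_injective (fun a => ⟨a.1, a.2.1, hcomm b hbB a a.2.2⟩) fun p q h => ?_
    exact Subtype.ext (by simpa using congrArg Subtype.val h)
  omega

/-- The pairs. -/
theorem pairs {t : G} (ht : orderOf t = 2) : (∃ g : G, meet t g = 360) ∧
    ∀ g : G, meet t g = 360 → E t ⊓ (nE t).map (MulAut.conj g).toMonoidHom = ⊥ ∧
      (E t).map (MulAut.conj g).toMonoidHom ⊓ nE t = ⊥ := by
  classical
  obtain ⟨ω₁, ω₂, hcover, e, hcase, hl₁, hl₂⟩ := T.suborbits hG ht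
  obtain ⟨g₁, rfl⟩ := QuotientGroup.mk_surjective ω₁
  have d1 := T.suborbit_data hG ht (g := g₁) (n := 1) (nE t).one_mem (one_smul G _).symm
  rcases hcase with ⟨rfl, hs₁, hs₂⟩ | ⟨rfl, hs₁, hs₂⟩
  swap
  · exfalso
    have hl : meet t g₁ = 1440 := by rw [d1.1]; omega
    have hle : ∀ g : G, Nat.card (E t ⊓ (nE t).map (MulAut.conj g).toMonoidHom : Subgroup G) = 16 →
        E t ≤ (nE t).map (MulAut.conj g).toMonoidHom := fun g h =>
      inf_eq_left.1 (Subgroup.eq_of_le_of_card_ge inf_le_left (by rw [h, T.card_E hG ht]))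
    refine T.no_twenty_eight hG ht hl (hle g₁ (d1.2.trans hs₁)) ?_
    have hg' : E t ≤ (nE t).map (MulAut.conj g₁⁻¹).toMonoidHom := by
      refine hle _ ?_
      rcases hcover ((g₁⁻¹ : G) : G ⧸ nE t) with h | ⟨n, hn, h⟩ | ⟨n, hn, h⟩
      · exfalso
        have hgN : g₁⁻¹ ∈ nE t := by
          have := QuotientGroup.eq.1 h.symm
          simpa using this
        have e : (nE t).map (MulAut.conj g₁).toMonoidHom = nE t := by
          ext x
          rw [Subgroup.mem_map_equiv, MulAut.conj_symm_apply]
          exact ((nE t).mul_mem_cancel_right ((nE t).inv_mem_iff.1 hgN)).trans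
            ((nE t).mul_mem_cancel_left hgN)
        rw [meet, e, inf_idem, T.card_nE hG ht] at hl
        norm_num at hl
      · rw [(T.suborbit_data hG ht hn h).2, hs₁]
      · exfalso
        have := (T.suborbit_data hG ht hn h).1
        rw [meet_inv, hl] at this
        rw [← this] at hl₂
        norm_num at hl₂
    have := Subgroup.map_mono (f := (MulAut.conj g₁).toMonoidHom) hg'
    rwa [map_conj_map, mul_inv_cancel, map_conj_one] at this
  · refine ⟨⟨g₁, by rw [d1.1]; omega⟩, fun g hg => ?_⟩
    have key : ∀ g : G, meet t g = 360 → E t ⊓ (nE t).map (MulAut.conj g).toMonoidHom = ⊥ := by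
      intro g hg
      refine Subgroup.eq_bot_of_card_eq _ ?_
      rcases hcover ((g : G) : G ⧸ nE t) with h | ⟨n, hn, h⟩ | ⟨n, hn, h⟩
      · exfalso
        have hgN : g ∈ nE t := by
          have := QuotientGroup.eq.1 h.symm
          simpa using this
        have e : (nE t).map (MulAut.conj g).toMonoidHom = nE t := by
          ext x
          rw [Subgroup.mem_map_equiv, MulAut.conj_symm_apply]
          exact ((nE t).mul_mem_cancel_right hgN).trans ((nE t).mul_mem_cancel_left ((nE t).inv_mem hgN))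
        rw [meet, e, inf_idem, T.card_nE hG ht] at hg
        norm_num at hg
      · rw [(T.suborbit_data hG ht hn h).2, hs₁]
      · exfalso
        have := (T.suborbit_data hG ht hn h).1
        rw [hg] at this
        rw [← this] at hl₂
        norm_num at hl₂
    refine ⟨key g hg, ?_⟩
    have h := congrArg (Subgroup.map (MulAut.conj g).toMonoidHom) (key g⁻¹ (by rw [meet_inv, hg]))
    rwa [Subgroup.map_inf _ _ _ (MulAut.conj g).injective, map_conj_map, mul_inv_cancel, map_conj_one,
      Subgroup.map_bot] at h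

end Tbl

end Cfsg.Lib.MTwentyThree
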