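import Cfsg.Agent.Lib.MTwentyThree.NormOrder
import Cfsg.Agent.Lib.MTwentyTwo.PermChar

/-!
# The action on the 253 conjugates of the normalizer

The permutation character has the constituents of degrees 1, 22 and 230, and the normalizer has an
orbit of length 112 in which no involution of the elementary group fixes a point.
-/

set_option autoImplicit false
set_option linter.style.haveILetI false
set_option linter.unusedSectionVars false

namespace Cfsg.Lib.MTwentyThree

open Cfsg Cfsg.Lib Cfsg.Lib.StrongEmb.TwoNilp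
open Cfsg.Lib.MTwentyTwo (deg fix_card_mul)
open scoped ComplexConjugate

universe u

/-- The possible lengths of the two suborbits and the orders of the point stabilizers in the
elementary group. -/
theorem suborbit_key : ∀ e ∈ List.range 36, ∀ s₁ ∈ ([1, 2, 4, 8, 16] : List ℕ),
    ∀ s₂ ∈ ([1, 2, 4, 8, 16] : List ℕ), 5760 % e = 0 → 5760 % (36 - e) = 0 →
      5760 / e % s₁ = 0 → 5760 / (36 - e) % s₂ = 0 → (s₁ = 2 → 2688 % (5760 / e) = 0) →
      (s₂ = 2 → 2688 % (5760 / (36 - e)) = 0) → e * s₁ + (36 - e) * s₂ = 96 →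
      (e = 16 ∧ s₁ = 1 ∧ s₂ = 4) ∨ (e = 20 ∧ s₁ = 4 ∧ s₂ = 1) ∨ (e = 4 ∧ s₁ = 16 ∧ s₂ = 1) ∨
        (e = 32 ∧ s₁ = 1 ∧ s₂ = 16) := by
  decide +kernel

noncomputable local instance (priority := high) fintypeSubgroupMTwentyThreePerm {A : Type u}
    [Group A] [Fintype A] (H : Subgroup A) : Fintype H := Fintype.ofFinite H

variable {G : Type u} [Group G] [Fintype G]

namespace Tbl

variable (T : Tbl G) (hG : IsM23 G)
include T hG

/-- The degrees of the constituents add up to 253 in one way. -/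
theorem constituents {t : G} (ht : orderOf t = 2) :
    (∀ g : G, (Nat.card {c : G ⧸ nE t // g • c = c} : ℂ) = 1 + (T.a : G → ℂ) g + (T.c : G → ℂ) g) ∧
      fixDim (nE t) T.a = 1 ∧ fixDim (nE t) T.c = 1 := by
  classical
  set H := nE t with hH
  have hH0 : (Nat.card H : ℂ) ≠ 0 := Nat.cast_ne_zero.2 Nat.card_pos.ne'
  set n : IrrCharacter G → ℕ := fun χ => fixDim H χ with hn
  have hone : n (Small.one' G) = 1 := by
    have h := avg_eq H (Small.one' G)
    simp only [Small.one'_apply, Finset.sum_const, Finset.card_univ, nsmul_eq_mul, mul_one,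
      ← Nat.card_eq_fintype_card] at h
    rw [inv_mul_cancel₀ hH0] at h
    exact_mod_cast h.symm
  have hsum : ∑ χ : IrrCharacter G, deg χ * n χ = 253 := by
    have h := sum_degree_fixDim (G := G) H
    have h' : ((∑ χ : IrrCharacter G, deg χ * n χ : ℕ) : ℂ) = 253 := by
      push_cast
      rw [Finset.sum_congr rfl (g := fun χ : IrrCharacter G => (χ : G → ℂ) 1 * (fixDim H χ : ℂ)) fun χ _ => by
        rw [MEleven.apply_one], h, card_G hG, hH, T.card_nE hG ht, ord]
      norm_num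
    exact_mod_cast h'
  rw [T.sum_eq, hone, deg_one', T.ha, T.hb, T.hb', T.hc, T.he, T.hn, T.hn', T.hg, T.hu] at hsum
  have hdvd : 231 ∣ ∑ χ ∈ T.R, deg χ * n χ := Finset.dvd_sum fun χ hχ => by
    rcases T.hR χ hχ with h | h | h
    all_goals
      first
        | exact h ▸ dvd_mul_right _ _
        | (have := Finset.single_le_sum (f := fun χ => deg χ * n χ) (fun _ _ => Nat.zero_le _) hχ
           simp only [h] at this
           rw [show n χ = 0 by omega, mul_zero]
           exact dvd_zero _)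
  obtain ⟨k, hk⟩ := hdvd
  have z1 : n T.e = 0 ∧ n T.n = 0 ∧ n T.n' = 0 ∧ n T.g = 0 ∧ n T.u = 0 := by
    refine ⟨?_, ?_, ?_, ?_, ?_⟩ <;> omega
  obtain ⟨he0, hn0, hn0', hg0, hu0⟩ := z1
  rw [hk, he0, hn0, hn0', hg0, hu0] at hsum
  simp only [mul_zero, add_zero, mul_one] at hsum
  have bc : n T.c ≤ 1 := by omega
  have bb : n T.b + n T.b' ≤ 5 := by omega
  have bk : k ≤ 1 := by omega
  have hsol : k = 0 ∧ n T.c = 1 ∧ n T.b + n T.b' = 0 ∧ n T.a = 1 := by
    have : 22 * n T.a + 45 * (n T.b + n T.b') + 230 * n T.c + 231 * k = 252 := by linarith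
    generalize n T.b + n T.b' = B at *
    interval_cases B <;> interval_cases k <;> omega
  have hk0 : ∑ χ ∈ T.R, deg χ * n χ = 0 := by rw [hk, hsol.1]
  have hR0 : ∀ χ ∈ T.R, n χ = 0 := fun χ hχ => by
    have := Finset.sum_eq_zero_iff.1 hk0 χ hχ
    rcases T.hR χ hχ with h | h | h <;> rw [h] at this <;> omega
  have hv : n T.a = 1 ∧ n T.b = 0 ∧ n T.b' = 0 ∧ n T.c = 1 ∧ n T.e = 0 ∧ n T.n = 0 ∧ n T.n' = 0 ∧
      n T.g = 0 ∧ n T.u = 0 :=
    ⟨hsol.2.2.2, by omega, by omega, hsol.2.1, he0, hn0, hn0', hg0, hu0⟩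
  obtain ⟨ha, hb, hb', hc, he, hn1, hn2, hg', hu⟩ := hv
  refine ⟨fun g => ?_, ha, hc⟩
  have h1 : permChar H g = (Nat.card {c : G ⧸ H // g • c = c} : ℂ) := by
    rw [permChar, Finset.sum_boole, inv_mul_eq_iff_eq_mul₀ hH0, ← Nat.cast_mul, mul_comm, fix_card_mul]
  have h2 := congrFun (Char.eq_sum_classInner (isClassFunction_permChar H)) g
  simp only [Finset.sum_apply, Pi.smul_apply, smul_eq_mul, classInner_permChar] at h2
  rw [T.sum_eq (fun χ => (fixDim H χ : ℂ) * (χ : G → ℂ) g),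
    Finset.sum_eq_zero (s := T.R) fun χ hχ => by
      rw [show fixDim H χ = 0 from hR0 χ hχ, Nat.cast_zero, zero_mul],
    show fixDim H (Small.one' G) = 1 from hone, show fixDim H T.a = 1 from ha,
    show fixDim H T.b = 0 from hb, show fixDim H T.b' = 0 from hb', show fixDim H T.c = 1 from hc,
    show fixDim H T.e = 0 from he, show fixDim H T.n = 0 from hn1, show fixDim H T.n' = 0 from hn2,
    show fixDim H T.g = 0 from hg', show fixDim H T.u = 0 from hu, Small.one'_apply, h1] at h2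
  rw [h2]
  push_cast
  ring

theorem fix_two {t g : G} (ht : orderOf t = 2) (hg : orderOf g = 2) :
    Nat.card {c : G ⧸ nE t // g • c = c} = 29 := by
  have h := (T.constituents hG ht).1 g
  rw [T.apply_inv_elt hg T.a, T.apply_inv_elt hg T.c, T.ha, T.hc] at h
  refine Nat.cast_injective (R := ℂ) (h.trans ?_)
  norm_num [invV]

theorem fix_seven {t g : G} (ht : orderOf t = 2) (hg : orderOf g = 7) :
    Nat.card {c : G ⧸ nE t // g • c = c} = 1 := by
  haveI : Fact (Nat.Prime 7) := ⟨by norm_num⟩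
  have h := (T.constituents hG ht).1 g
  rw [(T.seven hG hg).2.1, (T.seven hG hg).2.2] at h
  refine Nat.cast_injective (R := ℂ) (h.trans ?_)
  norm_num

theorem card_orbits {t : G} (ht : orderOf t = 2) :
    Nat.card (MulAction.orbitRel.Quotient (nE t) (G ⧸ nE t)) = 3 := by
  classical
  set H := nE t with hH
  have hH0 : (Nat.card H : ℂ) ≠ 0 := Nat.cast_ne_zero.2 Nat.card_pos.ne'
  haveI : Fintype (MulAction.orbitRel.Quotient H (G ⧸ H)) := Fintype.ofFinite _
  haveI : ∀ h : H, Fintype (MulAction.fixedBy (G ⧸ H) h) := fun _ => Fintype.ofFinite _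
  have hB := MulAction.sum_card_fixedBy_eq_card_orbits_mul_card_group H (G ⧸ H)
  have hfix : ∀ h : H, Fintype.card (MulAction.fixedBy (G ⧸ H) h) =
      Nat.card {c : G ⧸ H // (h : G) • c = c} := fun h => by
    rw [← Nat.card_eq_fintype_card]
    exact Nat.card_congr (Equiv.subtypeEquivRight fun _ => Iff.rfl)
  rw [Finset.sum_congr rfl fun h _ => hfix h, ← Nat.card_eq_fintype_card,
    ← Nat.card_eq_fintype_card] at hB
  obtain ⟨hcon, hfa, hfc⟩ := T.constituents hG ht
  have h : ∑ h : H, (Nat.card {c : G ⧸ H // (h : G) • c = c} : ℂ) = (Nat.card H : ℂ) * 3 := by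
    have havg : ∀ χ : IrrCharacter G, ∑ h : H, (χ : G → ℂ) h = (Nat.card H : ℂ) * (fixDim H χ : ℂ) :=
      fun χ => (inv_mul_eq_iff_eq_mul₀ hH0).1 (avg_eq H χ)
    simp only [H, hcon, Finset.sum_add_distrib, Finset.sum_const, Finset.card_univ,
      nsmul_eq_mul, mul_one, ← Nat.card_eq_fintype_card]
    rw [havg T.a, havg T.c, hfa, hfc]
    push_cast
    ring
  have h' : (Nat.card H : ℂ) * 3 =
      (Nat.card (MulAction.orbitRel.Quotient H (G ⧸ H)) : ℂ) * (Nat.card H : ℂ) := by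
    rw [← h, ← Nat.cast_mul, ← hB, Nat.cast_sum]
  rw [mul_comm] at h'
  have := mul_right_cancel₀ hH0 h'
  exact_mod_cast this.symm

/-- The conjugate of the normalizer fixing a coset. -/
theorem stab_mk {t : G} (g : G) :
    MulAction.stabilizer G (g : G ⧸ nE t) = (nE t).map (MulAut.conj g).toMonoidHom := by
  ext a
  rw [MulAction.mem_stabilizer_iff, MulAction.Quotient.smul_mk, QuotientGroup.eq, Subgroup.mem_map_equiv,
    MulAut.conj_symm_apply, ← (nE t).inv_mem_iff]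
  simp [mul_assoc]

/-- The two suborbits. -/
theorem suborbits {t : G} (ht : orderOf t = 2) :
    ∃ ω₁ ω₂ : G ⧸ nE t, (∀ ω : G ⧸ nE t, ω = ((1 : G) : G ⧸ nE t) ∨
        (∃ n ∈ nE t, ω = n • ω₁) ∨ ∃ n ∈ nE t, ω = n • ω₂) ∧
      ∃ e : ℕ, ((e = 16 ∧ Nat.card (E t ⊓ MulAction.stabilizer G ω₁ : Subgroup G) = 1 ∧
            Nat.card (E t ⊓ MulAction.stabilizer G ω₂ : Subgroup G) = 4) ∨
          (e = 4 ∧ Nat.card (E t ⊓ MulAction.stabilizer G ω₁ : Subgroup G) = 16 ∧
            Nat.card (E t ⊓ MulAction.stabilizer G ω₂ : Subgroup G) = 1)) ∧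
        Nat.card (nE t ⊓ MulAction.stabilizer G ω₁ : Subgroup G) * (7 * e) = 40320 ∧
        Nat.card (nE t ⊓ MulAction.stabilizer G ω₂ : Subgroup G) * (7 * (36 - e)) = 40320 := by
  classical
  set N := nE t with hN
  set o : G ⧸ N := ((1 : G) : G ⧸ N) with ho
  let Q := MulAction.orbitRel.Quotient N (G ⧸ N)
  haveI : Fintype Q := Fintype.ofFinite _
  let π : G ⧸ N → Q := Quotient.mk''
  let s : G ⧸ N → ℕ := fun ω => Nat.card (E t ⊓ MulAction.stabilizer G ω : Subgroup G)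
  let l : G ⧸ N → ℕ := fun ω => Nat.card (N ⊓ MulAction.stabilizer G ω : Subgroup G)
  let d : Q → ℕ := fun q => (Finset.univ.filter fun ω => π ω = q).card
  have hEN : ∀ n ∈ N, ∀ a ∈ E t, n * a * n⁻¹ ∈ E t := fun n hn a ha => mem_nE hn ha
  have hmem : ∀ {ω ω' : G ⧸ N}, π ω = π ω' ↔ ∃ n ∈ N, ω = n • ω' := by
    intro ω ω'
    show Quotient.mk'' ω = Quotient.mk'' ω' ↔ _
    rw [Quotient.eq'', MulAction.orbitRel_apply, MulAction.mem_orbit_iff]
    exact ⟨fun ⟨n, hn⟩ => ⟨n, n.2, hn.symm⟩, fun ⟨n, hn, e⟩ => ⟨⟨n, hn⟩, e.symm⟩⟩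
  have hdl : ∀ ω, d (π ω) * l ω = 40320 := by
    intro ω
    haveI : Fintype (MulAction.stabilizer N ω) := Fintype.ofFinite _
    haveI : Fintype (MulAction.orbit N ω) := Fintype.ofFinite _
    have h := MulAction.card_orbit_mul_card_stabilizer_eq_card_group N ω
    simp only [← Nat.card_eq_fintype_card] at h
    rw [show Nat.card (MulAction.orbit N ω) = d (π ω) by
        show _ = Finset.card _
        rw [← Nat.card_eq_finsetCard]
        refine Nat.card_congr (Equiv.subtypeEquivRight fun ω' => ?_)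
        rw [Finset.mem_filter, and_iff_right (Finset.mem_univ _)]
        show _ ↔ Quotient.mk'' ω' = Quotient.mk'' ω
        rw [Quotient.eq'', MulAction.orbitRel_apply],
      show Nat.card (MulAction.stabilizer N ω) = l ω from Nat.card_congr
        { toFun := fun n => ⟨n.1.1, n.1.2, n.2⟩
          invFun := fun n => ⟨⟨n.1, n.2.1⟩, n.2.2⟩
          left_inv := fun n => rfl
          right_inv := fun n => rfl }] at h
    rw [h, hN, T.card_nE hG ht]
  have hsinv : ∀ ω, ∀ n ∈ N, s (n • ω) = s ω := by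
    intro ω n hn
    refine Nat.card_congr
      { toFun := fun a => ⟨n⁻¹ * a.1 * n, ?_, ?_⟩
        invFun := fun a => ⟨n * a.1 * n⁻¹, hEN n hn _ a.2.1, ?_⟩
        left_inv := fun a => Subtype.ext (by group)
        right_inv := fun a => Subtype.ext (by group) }
    · simpa using hEN n⁻¹ (N.inv_mem hn) _ a.2.1
    · show (n⁻¹ * a.1 * n) • ω = ω
      rw [mul_smul, mul_smul, show (a.1 : G) • n • ω = n • ω from a.2.2, inv_smul_smul]
    · show (n * a.1 * n⁻¹) • n • ω = n • ω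
      rw [mul_smul, inv_smul_smul, mul_smul, show (a.1 : G) • ω = ω from a.2.2]
  have hNo : ∀ n ∈ N, n • o = o := fun n hn => by
    rw [ho, MulAction.Quotient.smul_mk, QuotientGroup.eq]
    simpa using N.inv_mem hn
  have hπo : ∀ ω, π ω = π o → ω = o := fun ω h => by
    obtain ⟨n, hn, e⟩ := hmem.1 h
    rw [e, hNo n hn]
  have hd0 : d (π o) = 1 := by
    refine Finset.card_eq_one.2 ⟨o, ?_⟩
    ext ω
    simp only [Finset.mem_filter, Finset.mem_univ, true_and, Finset.mem_singleton]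
    exact ⟨hπo ω, fun e => by rw [e]⟩
  have hs0 : s o = 16 := by
    show Nat.card _ = 16
    rw [inf_eq_left.2 fun a ha => hNo a (E_le_nE t ha), T.card_E hG ht]
  obtain ⟨q₁, q₂, hq12, hq⟩ : ∃ q₁ q₂, q₁ ≠ q₂ ∧ (Finset.univ : Finset Q).erase (π o) = {q₁, q₂} :=
    Finset.card_eq_two.1 (by
      rw [Finset.card_erase_of_mem (Finset.mem_univ _), Finset.card_univ, ← Nat.card_eq_fintype_card,
        T.card_orbits hG ht])
  set ω₁ : G ⧸ N := Quotient.out q₁ with hω₁
  set ω₂ : G ⧸ N := Quotient.out q₂ with hω₂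
  have hπ₁ : π ω₁ = q₁ := Quotient.out_eq' q₁
  have hπ₂ : π ω₂ = q₂ := Quotient.out_eq' q₂
  have huniv : (Finset.univ : Finset Q) = insert (π o) {q₁, q₂} := by
    rw [← hq, Finset.insert_erase (Finset.mem_univ _)]
  have hnot : π o ∉ ({q₁, q₂} : Finset Q) := hq ▸ Finset.notMem_erase _ _
  have hsplit : ∀ F : G ⧸ N → ℕ, (∀ ω, ∀ n ∈ N, F (n • ω) = F ω) →
      ∑ ω, F ω = d (π o) * F o + (d q₁ * F ω₁ + d q₂ * F ω₂) := by
    intro F hF
    rw [← Finset.sum_fiberwise Finset.univ π F, huniv, Finset.sum_insert hnot, Finset.sum_pair hq12]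
    have : ∀ ω', ∑ ω ∈ Finset.univ.filter (fun ω => π ω = π ω'), F ω = d (π ω') * F ω' := fun ω' => by
      rw [Finset.sum_congr rfl fun ω hω => ?_, Finset.sum_const, smul_eq_mul]
      obtain ⟨n, hn, e⟩ := hmem.1 (Finset.mem_filter.1 hω).2
      rw [e, hF ω' n hn]
    rw [← hπ₁, ← hπ₂, this, this, this]
  have hsum1 : d q₁ + d q₂ = 252 := by
    have h := hsplit (fun _ => 1) fun _ _ _ => rfl
    rw [Finset.sum_const, smul_eq_mul, mul_one, Finset.card_univ, ← Nat.card_eq_fintype_card, hd0] at h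
    have hi : Nat.card (G ⧸ N) = 253 := by
      have h' := (nE t).card_eq_card_quotient_mul_card_subgroup
      rw [T.card_nE hG ht, card_G hG, ord] at h'
      show Nat.card (G ⧸ nE t) = 253
      omega
    omega
  have hsum2 : d q₁ * s ω₁ + d q₂ * s ω₂ = 672 := by
    have h := hsplit s hsinv
    have hcount : ∑ ω, s ω = 688 := by
      have hsf : ∀ ω, s ω = ((Finset.univ.filter fun a : G => a ∈ E t).filter fun a => a • ω = ω).card := by
        intro ω
        show Nat.card _ = _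
        rw [← Nat.card_eq_finsetCard]
        exact Nat.card_congr (Equiv.subtypeEquivRight fun a => by
          simp [Finset.mem_filter, MulAction.mem_stabilizer_iff])
      simp only [hsf, Finset.card_filter (fun a => a • _ = _)]
      rw [Finset.sum_comm,
        ← Finset.add_sum_erase _ _ (show (1 : G) ∈ Finset.univ.filter fun a : G => a ∈ E t by
          simp [(E t).one_mem]),
        Finset.sum_congr (s₁ := (Finset.univ.filter fun a : G => a ∈ E t).erase 1) rfl (g := fun _ => (29 : ℕ)) fun a ha => ?_, Finset.sum_const (29 : ℕ),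
        Finset.card_erase_of_mem (by simp [(E t).one_mem]), T.card_E_finset hG ht]
      · simp only [one_smul, if_true, Finset.sum_const, Finset.card_univ, smul_eq_mul, mul_one]
        rw [← Nat.card_eq_fintype_card]
        have h' := (nE t).card_eq_card_quotient_mul_card_subgroup
        rw [T.card_nE hG ht, card_G hG, ord] at h'
        show Nat.card (G ⧸ nE t) + (16 - 1) * 29 = 688
        omega
      · obtain ⟨ha1, ha2⟩ := Finset.mem_erase.1 ha
        rw [← Finset.card_filter, ← Fintype.card_subtype, ← Nat.card_eq_fintype_card]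
        exact T.fix_two hG ht (T.orderOf_E hG ht (Finset.mem_filter.1 ha2).2 ha1)
    rw [hcount, hd0, hs0] at h
    omega
  have hne : ∀ ω, π ω ≠ π o → ∃ e, d (π ω) = 7 * e := by
    intro ω hω
    haveI : Fact (Nat.Prime 7) := ⟨by norm_num⟩
    by_contra hno
    have h7 : 7 ∣ l ω := ((Fact.out : (7 : ℕ).Prime).dvd_mul.1
      ⟨5760, (hdl ω).trans (by norm_num)⟩).resolve_left hno
    obtain ⟨y, hy⟩ := exists_prime_orderOf_dvd_card' (G := (N ⊓ MulAction.stabilizer G ω : Subgroup G)) 7 h7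
    obtain ⟨hyN, hyω⟩ := y.2
    have hyo : orderOf (y : G) = 7 := by rw [Subgroup.orderOf_coe, hy]
    have h1 := T.fix_seven hG ht hyo
    haveI := (Nat.card_eq_one_iff_unique.1 h1).1
    exact hω (congrArg π (congrArg Subtype.val (Subsingleton.elim
      (⟨ω, hyω⟩ : {c : G ⧸ nE t // (y : G) • c = c}) ⟨o, hNo _ hyN⟩)))
  have hs16 : ∀ ω, s ω ∈ ([1, 2, 4, 8, 16] : List ℕ) ∧ s ω ∣ l ω ∧ (s ω = 2 → l ω ∣ 2688) := by
    intro ω
    refine ⟨?_, Subgroup.card_dvd_of_le (inf_le_inf_right _ (E_le_nE t)), fun h2 => ?_⟩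
    · have hd : s ω ∣ 16 := T.card_E hG ht ▸ Subgroup.card_dvd_of_le inf_le_left
      exact (show ∀ k ∈ Nat.divisors 16, k ∈ ([1, 2, 4, 8, 16] : List ℕ) by decide) _
        (Nat.mem_divisors.2 ⟨hd, by norm_num⟩)
    obtain ⟨⟨a, haI⟩, ⟨b, hbI⟩, hab, hall⟩ := Nat.card_eq_two_iff.1 h2
    obtain ⟨c, hc, hc1⟩ : ∃ c ∈ (E t ⊓ MulAction.stabilizer G ω : Subgroup G), c ≠ 1 := by
      by_cases ha1 : a = 1
      · exact ⟨b, hbI, fun e => hab (Subtype.ext (ha1.trans e.symm))⟩
      · exact ⟨a, haI, ha1⟩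
    rw [← T.card_centralizer (T.orderOf_E hG ht hc.1 hc1)]
    refine Subgroup.card_dvd_of_le fun n hn => ?_
    have hconj : n * c * n⁻¹ ∈ (E t ⊓ MulAction.stabilizer G ω : Subgroup G) :=
      ⟨hEN n hn.1 c hc.1, (MulAction.stabilizer G ω).mul_mem ((MulAction.stabilizer G ω).mul_mem hn.2 hc.2)
        ((MulAction.stabilizer G ω).inv_mem hn.2)⟩
    have hne1 : n * c * n⁻¹ ≠ 1 := fun e => hc1 (conj_eq_one_iff.1 e)
    have h2' : ∀ p q r : (E t ⊓ MulAction.stabilizer G ω : Subgroup G), p ≠ q → p ≠ r → q ≠ r → False := by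
      intro p q r h1 h2 h3
      have hp := hall ▸ Set.mem_univ p
      have hq := hall ▸ Set.mem_univ q
      have hr := hall ▸ Set.mem_univ r
      simp only [Set.mem_insert_iff, Set.mem_singleton_iff] at hp hq hr
      rcases hp with hp | hp <;> rcases hq with hq | hq <;> rcases hr with hr | hr <;>
        first | exact h1 (hp.trans hq.symm) | exact h2 (hp.trans hr.symm) | exact h3 (hq.trans hr.symm)
    refine mem_cn.2 (mul_inv_eq_iff_eq_mul.1 ?_)
    by_contra hne'
    exact h2' 1 ⟨c, hc⟩ ⟨_, hconj⟩ (fun e => hc1 (congrArg Subtype.val e).symm)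
      (fun e => hne1 (congrArg Subtype.val e).symm) (fun e => hne' (congrArg Subtype.val e).symm)
  obtain ⟨e₁, he₁⟩ := hne ω₁ (fun h => hnot (by rw [← h, hπ₁]; simp))
  obtain ⟨e₂, he₂⟩ := hne ω₂ (fun h => hnot (by rw [← h, hπ₂]; simp))
  rw [hπ₁] at he₁
  rw [hπ₂] at he₂
  have hl₁ : 7 * e₁ * l ω₁ = 40320 := by rw [← he₁, ← hπ₁]; exact hdl ω₁
  have hl₂ : 7 * e₂ * l ω₂ = 40320 := by rw [← he₂, ← hπ₂]; exact hdl ω₂
  have hp₁ : 0 < e₁ := by rcases Nat.eq_zero_or_pos e₁ with h | h; (rw [h] at hl₁; norm_num at hl₁); exact h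
  have hp₂ : 0 < e₂ := by rcases Nat.eq_zero_or_pos e₂ with h | h; (rw [h] at hl₂; norm_num at hl₂); exact h
  have he : e₂ = 36 - e₁ := by omega
  have hq₁ : 5760 / e₁ = l ω₁ := Nat.div_eq_of_eq_mul_left hp₁ (by linarith)
  have hq₂ : 5760 / (36 - e₁) = l ω₂ := he ▸ Nat.div_eq_of_eq_mul_left hp₂ (by linarith)
  have hkey := suborbit_key e₁ (List.mem_range.2 (by omega)) (s ω₁) (hs16 ω₁).1 (s ω₂) (hs16 ω₂).1
    (Nat.mod_eq_zero_of_dvd ⟨l ω₁, by linarith⟩) (he ▸ Nat.mod_eq_zero_of_dvd ⟨l ω₂, by linarith⟩)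
    (by rw [hq₁]; exact Nat.mod_eq_zero_of_dvd (hs16 ω₁).2.1)
    (by rw [hq₂]; exact Nat.mod_eq_zero_of_dvd (hs16 ω₂).2.1)
    (fun h => by rw [hq₁]; exact Nat.mod_eq_zero_of_dvd ((hs16 ω₁).2.2 h))
    (fun h => by rw [hq₂]; exact Nat.mod_eq_zero_of_dvd ((hs16 ω₂).2.2 h))
    (by rw [← he]; rw [he₁, he₂] at hsum2; linarith)
  have hcover : ∀ ω : G ⧸ N, ω = o ∨ (∃ n ∈ N, ω = n • ω₁) ∨ ∃ n ∈ N, ω = n • ω₂ := fun ω => by
    have h : π ω ∈ (Finset.univ : Finset Q) := Finset.mem_univ _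
    rw [huniv] at h
    simp only [Finset.mem_insert, Finset.mem_singleton] at h
    rcases h with h | h | h
    · exact Or.inl (hπo ω h)
    · exact Or.inr (Or.inl (hmem.1 (h.trans hπ₁.symm)))
    · exact Or.inr (Or.inr (hmem.1 (h.trans hπ₂.symm)))
  rcases hkey with ⟨h, ha, hb⟩ | ⟨h, ha, hb⟩ | ⟨h, ha, hb⟩ | ⟨h, ha, hb⟩
  · exact ⟨ω₁, ω₂, hcover, 16, Or.inl ⟨rfl, ha, hb⟩, by rw [h] at hl₁; linarith,
      by rw [he, h] at hl₂; linarith⟩
  · exact ⟨ω₂, ω₁, fun ω => (hcover ω).imp_right Or.symm, 16, Or.inl ⟨rfl, hb, ha⟩,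
      by rw [he, h] at hl₂; linarith, by rw [h] at hl₁; linarith⟩
  · exact ⟨ω₁, ω₂, hcover, 4, Or.inr ⟨rfl, ha, hb⟩, by rw [h] at hl₁; linarith,
      by rw [he, h] at hl₂; linarith⟩
  · exact ⟨ω₂, ω₁, fun ω => (hcover ω).imp_right Or.symm, 4, Or.inr ⟨rfl, hb, ha⟩,
      by rw [he, h] at hl₂; linarith, by rw [h] at hl₁; linarith⟩

end Tbl

end Cfsg.Lib.MTwentyThree
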