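import Cfsg.Agent.Lib.MTwentyFour.Action
import Cfsg.Agent.Lib.Concrete.ProjLineMax
import Cfsg.Agent.Lib.Concrete.SporMathieu

/-!
A transitive group of order 10200960 on twenty-three points is conjugate to M23.
-/

set_option autoImplicit false
set_option linter.style.haveILetI false
set_option linter.unusedSectionVars false

namespace Cfsg.Lib.MTwentyThree.Recog

open Cfsg Cfsg.Lib Cfsg.Lib.Concrete
open Cfsg.Lib.MTwentyFour (dbl negPt shiftFun candFun evalW pt lg pt_mod lg_pt candFun_pt dbl_pow_pt dbl_pow_apply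
  dbl_pow_none mShift_pow_apply mShift_pow_none orderOf_dbl orderOf_mShift mShift_zero_ne exists_shift_zero
  exists_pow_two exists_cand apply_of_cand pow_eq_one_of_cand cand_one_pow cand_one_false_pow pow_conj_pow
  pairStab dblT orderOf_dblT u_cases uBad uBad_ok coe_mShift coe_cubeTwist neg_shift neg_cand)

/-- A word of the wrong order cannot occur. -/
theorem false_of_bad {K : Subgroup (Equiv.Perm GolayPt)} (hK : Nat.card K = 10200960)
    {gs : List (Equiv.Perm GolayPt)} (hgs : ∀ g ∈ gs, g ∈ K) {fs : List (GolayPt → GolayPt)}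
    (hfs : gs.map (fun g : Equiv.Perm GolayPt => (⇑g : GolayPt → GolayPt)) = fs) {w : List ℕ} {i : GolayPt} {c : ℕ}
    (hc : Nat.Coprime c 244823040) (h1 : (evalW fs w)^[c] i = i) (h2 : evalW fs w i ≠ i) : False := by
  subst hfs
  set p := (w.map fun n => gs.getD n 1).prod with hp
  have hpK : p ∈ K := by
    refine list_prod_mem fun g hg => ?_
    obtain ⟨n, -, rfl⟩ := List.mem_map.1 hg
    rw [List.getD_eq_getElem?_getD]
    cases hn : gs[n]? with
    | none => exact one_mem K
    | some g => exact hgs g (List.mem_of_getElem? hn)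
  have hcoe : ∀ q, evalW (gs.map (fun g : Equiv.Perm GolayPt => (⇑g : GolayPt → GolayPt))) w q = p q := by
    rw [hp]; clear hp hpK h1 h2
    induction w with
    | nil => intro q; rfl
    | cons n w ih =>
      intro q
      rw [List.map_cons, List.prod_cons, Equiv.Perm.mul_apply, ← ih q]
      show List.getD _ n id _ = _
      rw [List.getD_eq_getElem?_getD, List.getD_eq_getElem?_getD, List.getElem?_map]
      cases gs[n]? <;> rfl
  rw [funext hcoe] at h1 h2
  have h3 : Function.IsPeriodicPt (⇑p) 244823040 i := by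
    have : p ^ 244823040 = 1 := by
      obtain ⟨m, hm⟩ : (10200960 : ℕ) ∣ 244823040 := by norm_num
      rw [hm, pow_mul, ← hK]
      rw [show p ^ Nat.card K = 1 from orderOf_dvd_iff_pow_eq_one.1
        (Subgroup.orderOf_coe (⟨p, hpK⟩ : K) ▸ orderOf_dvd_natCard _), one_pow]
    show (⇑p)^[244823040] i = i
    rw [← Equiv.Perm.coe_pow, this]; rfl
  have := (Function.IsPeriodicPt.gcd (f := ⇑p) h1 h3)
  rw [hc] at this
  exact h2 this

section Group

variable {K : Subgroup (Equiv.Perm GolayPt)} (hK : Nat.card K = 10200960) (hK0 : ∀ g ∈ K, g none = none)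
  (hx : mShift ∈ K)

include hK hx in
theorem dbl_mem : dbl ∈ K := by
  haveI : Fact (Nat.Prime 23) := ⟨by norm_num⟩
  haveI : Fact (Nat.Prime 11) := ⟨by norm_num⟩
  set x : K := ⟨mShift, hx⟩
  have hxo : orderOf x = 23 := by rw [Subgroup.orderOf_mk, orderOf_mShift]
  have hfact : (Nat.card K).factorization 23 = 1 := by
    rw [hK, show 10200960 = 23 * 443520 from rfl, Nat.factorization_mul (by norm_num) (by norm_num),
      Finsupp.add_apply, Nat.Prime.factorization_self (by norm_num),
      Nat.factorization_eq_zero_of_not_dvd (by norm_num)]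
  let P : Sylow 23 K := Sylow.ofCard (Subgroup.zpowers x) (by rw [Nat.card_zpowers, hxo, hfact, pow_one])
  set N := Subgroup.normalizer ((Subgroup.zpowers x : Subgroup K) : Set K)
  have haff : ∀ g : N, ∃ a c : ZMod 23, ((g : K) : Equiv.Perm GolayPt) none = none ∧
      ∀ v : ZMod 23, ((g : K) : Equiv.Perm GolayPt) (some v) = some (a * v + c) := by
    rintro ⟨g, hg⟩
    have h := (Subgroup.mem_normalizer_iff.1 hg x).1 (Subgroup.mem_zpowers x)
    obtain ⟨k, hk⟩ := mem_powers_iff_mem_zpowers.2 h
    have hk' : (g : Equiv.Perm GolayPt) * mShift = mShift ^ k * (g : Equiv.Perm GolayPt) := by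
      have := congrArg Subtype.val hk
      push_cast at this
      rw [show mShift ^ k = (g : Equiv.Perm GolayPt) * mShift * (g : Equiv.Perm GolayPt)⁻¹ from this]
      group
    have hn : (g : Equiv.Perm GolayPt) none = none := by
      have h1 : (mShift ^ k) ((g : Equiv.Perm GolayPt) none) = (g : Equiv.Perm GolayPt) none := by
        rw [← Equiv.Perm.mul_apply, ← hk']; rfl
      cases hv : (g : Equiv.Perm GolayPt) none with
      | none => rfl
      | some v =>
        rw [hv, mShift_pow_apply] at h1
        exfalso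
        have h0 : (k : ZMod 23) = 0 := by simpa using Option.some.inj h1
        obtain ⟨t, rfl⟩ := (ZMod.natCast_eq_zero_iff _ _).1 h0
        rw [pow_mul, ← orderOf_mShift, pow_orderOf_eq_one, one_pow, one_mul] at hk'
        have h1 := congrArg (fun f : Equiv.Perm GolayPt => f (some 0)) hk'
        exact mShift_zero_ne ((g : Equiv.Perm GolayPt).injective h1)
    obtain ⟨c, hc⟩ : ∃ c, (g : Equiv.Perm GolayPt) (some 0) = some c := by
      cases hv : (g : Equiv.Perm GolayPt) (some 0) with
      | none => exact absurd ((g : Equiv.Perm GolayPt).injective (hv.trans hn.symm)) (by simp)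
      | some c => exact ⟨c, rfl⟩
    refine ⟨k, c, hn, fun v => ?_⟩
    have hind : ∀ m : ℕ, (g : Equiv.Perm GolayPt) (some (m : ZMod 23)) = some ((k : ZMod 23) * m + c) := by
      intro m
      induction m with
      | zero => simpa using hc
      | succ m ih =>
        have : (g : Equiv.Perm GolayPt) (mShift (some (m : ZMod 23))) =
            (mShift ^ k) ((g : Equiv.Perm GolayPt) (some (m : ZMod 23))) := by
          rw [← Equiv.Perm.mul_apply, hk', Equiv.Perm.mul_apply]
        rw [ih, mShift_pow_apply, show mShift (some (m : ZMod 23)) = some ((m : ZMod 23) + 1) from rfl] at this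
        rw [Nat.cast_succ, this]
        congr 1; ring
    simpa [ZMod.natCast_zmod_val] using hind v.val
  choose fa fc hfn hf using haff
  have hinj : Function.Injective fun g : N => (fa g, fc g) := by
    intro g h e
    refine Subtype.ext (Subtype.ext (Equiv.ext fun p => ?_))
    cases p with
    | none => rw [hfn, hfn]
    | some v => rw [hf, hf, (Prod.mk.inj e).1, (Prod.mk.inj e).2]
  have hle : Nat.card N ≤ 529 := by
    refine (Nat.card_le_card_of_injective _ hinj).trans ?_
    rw [Nat.card_prod, Nat.card_zmod]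
  obtain ⟨d, hd⟩ : 23 ∣ Nat.card N := by
    rw [← hxo, ← Nat.card_zpowers]; exact Subgroup.card_dvd_of_le Subgroup.le_normalizer
  have hidx := Subgroup.card_mul_index N
  rw [hd, hK, show 10200960 = 23 * 443520 from rfl, mul_assoc] at hidx
  have hdi : d * N.index = 443520 := Nat.eq_of_mul_eq_mul_left (by norm_num) hidx
  have hmod : N.index % 23 = 1 := by
    have h1 : Nat.card (Sylow 23 K) % 23 = 1 := Eq.trans (card_sylow_modEq_one 23 K) rfl
    rwa [P.card_eq_index_normalizer] at h1
  have key : ∀ r < 24, r ∣ 443520 → (443520 / r) % 23 = 1 → r = 11 := by decide +kernel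
  have hd11 : d = 11 := key d (by omega) ⟨_, hdi.symm⟩ (by
    rw [← hdi, Nat.mul_div_cancel_left _ (by rcases Nat.eq_zero_or_pos d with h | h; · simp [h] at hdi
                                             · exact h)]
    exact hmod)
  obtain ⟨g, hg⟩ := exists_prime_orderOf_dvd_card' (G := N) 11 ⟨23, by rw [hd, hd11]⟩
  set G := ((g : K) : Equiv.Perm GolayPt) with hG
  have hGo : orderOf G = 11 := by rw [hG, Subgroup.orderOf_coe, Subgroup.orderOf_coe, hg]
  have hG11 : G ^ 11 = 1 := hGo ▸ pow_orderOf_eq_one G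
  have hiter : ∀ (n : ℕ) (v : ZMod 23), ∃ c' : ZMod 23, (G ^ n) (some v) = some (fa g ^ n * v + c') ∧
      ∀ w : ZMod 23, (G ^ n) (some w) = some (fa g ^ n * w + c') := by
    intro n
    induction n with
    | zero => intro v; exact ⟨0, by simp, fun w => by simp⟩
    | succ n ih =>
      intro v
      obtain ⟨c', -, h'⟩ := ih 0
      have : ∀ w : ZMod 23, (G ^ (n + 1)) (some w) = some (fa g ^ (n + 1) * w + (fa g * c' + fc g)) := fun w => by
        rw [pow_succ', Equiv.Perm.mul_apply, h', hf]; congr 1; ring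
      exact ⟨_, this v, this⟩
  have hk11 : fa g ^ 11 = 1 := by
    obtain ⟨c', -, h'⟩ := hiter 11 0
    have h0 := h' 0
    have h1 := h' 1
    rw [hG11] at h0 h1
    have e0 : (0 : ZMod 23) = c' := by simpa using Option.some.inj h0
    have e1 : (1 : ZMod 23) = fa g ^ 11 + c' := by simpa using Option.some.inj h1
    rw [← e0, add_zero] at e1
    exact e1.symm
  have hk1 : fa g ≠ 1 := by
    intro h1
    have h : G = mShift ^ (fc g).val := Equiv.ext fun p => by
      cases p with
      | none => rw [hG, hfn, mShift_pow_none]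
      | some v => rw [hG, hf, h1, one_mul, mShift_pow_apply, ZMod.natCast_zmod_val]
    have h2 : G ^ 23 = 1 := by
      rw [h, ← pow_mul, mul_comm, pow_mul, show mShift ^ 23 = 1 from orderOf_mShift ▸ pow_orderOf_eq_one mShift,
        one_pow]
    have := hGo ▸ orderOf_dvd_of_pow_eq_one h2
    norm_num at this
  obtain ⟨m, -, hm⟩ := exists_shift_zero _ hk11 hk1 (fc g)
  obtain ⟨n, -, hn⟩ := exists_pow_two _ hk11 hk1
  set H := G * mShift ^ m with hH
  have hHK : H ∈ K := mul_mem (g : K).2 (pow_mem hx m)
  have hHn : ∀ (r : ℕ) (v : ZMod 23), (H ^ r) (some v) = some (fa g ^ r * v) := by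
    intro r
    induction r with
    | zero => simp
    | succ r ih =>
      intro v
      rw [pow_succ', Equiv.Perm.mul_apply, ih, hH, Equiv.Perm.mul_apply, mShift_pow_apply, hG, hf]
      congr 1
      linear_combination hm
  have hHnone : ∀ r, (H ^ r) none = none := by
    intro r
    induction r with
    | zero => rfl
    | succ r ih => rw [pow_succ', Equiv.Perm.mul_apply, ih, hH, Equiv.Perm.mul_apply, mShift_pow_none, hG, hfn]
  have : dbl = H ^ n := Equiv.ext fun p => by
    cases p with
    | none => rw [hHnone]; rfl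
    | some v => rw [hHn, hn]; rfl
  exact this ▸ pow_mem hHK n

include hK hK0 hx in
theorem card_pairStab : Nat.card (pairStab K) = 443520 := by
  have h2 : MulAction.orbit K (some (0 : ZMod 23) : GolayPt) = Set.range (some : ZMod 23 → GolayPt) := by
    ext p
    constructor
    · rintro ⟨g, rfl⟩
      show (g : Equiv.Perm GolayPt) (some 0) ∈ _
      cases hv : (g : Equiv.Perm GolayPt) (some 0) with
      | none => cases (g : Equiv.Perm GolayPt).injective (hv.trans (hK0 _ g.2).symm)
      | some v => exact ⟨v, rfl⟩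
    · rintro ⟨v, rfl⟩
      refine ⟨⟨mShift ^ v.val, pow_mem hx _⟩, ?_⟩
      show (mShift ^ v.val) (some 0) = some v
      rw [mShift_pow_apply, zero_add, ZMod.natCast_zmod_val]
  have h3 := Subgroup.card_mul_index (MulAction.stabilizer K (some (0 : ZMod 23) : GolayPt))
  rw [MulAction.index_stabilizer, h2, ← Set.image_univ, Set.ncard_image_of_injective _ (Option.some_injective _),
    Set.ncard_univ, Nat.card_zmod, hK] at h3
  have e : Nat.card (pairStab K) = Nat.card (MulAction.stabilizer K (some (0 : ZMod 23) : GolayPt)) :=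
    Nat.card_congr
      { toFun := fun g => ⟨g.1, g.2.2⟩
        invFun := fun g => ⟨g.1, hK0 _ g.1.2, g.2⟩
        left_inv := fun _ => rfl
        right_inv := fun _ => rfl }
  rw [e]
  omega

include hK hK0 hx in
theorem card_normalizer_dblT (hd : dbl ∈ K) :
    Nat.card (Subgroup.normalizer ((Subgroup.zpowers (dblT hd) : Subgroup (pairStab K)) : Set (pairStab K))) = 55 ∧
      ¬ 5 ∣ Nat.card (Subgroup.centralizer ((Subgroup.zpowers (dblT hd) : Subgroup (pairStab K)) : Set (pairStab K))) := by
  classical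
  haveI : Fact (Nat.Prime 11) := ⟨by norm_num⟩
  haveI : Fact (Nat.Prime 2) := ⟨Nat.prime_two⟩
  have hcard := card_pairStab hK hK0 hx
  have hyo := orderOf_dblT hd
  set y := dblT hd with hy
  set C := Subgroup.centralizer ((Subgroup.zpowers y : Subgroup (pairStab K)) : Set (pairStab K)) with hC
  set N := Subgroup.normalizer ((Subgroup.zpowers y : Subgroup (pairStab K)) : Set (pairStab K)) with hN
  have hCN : C ≤ N := Subgroup.centralizer_le_normalizer _
  have hzc : Nat.card (Subgroup.zpowers y) = 11 := by rw [Nat.card_zpowers, hyo]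
  have hcomm : ∀ g : C, (((g : pairStab K) : K) : Equiv.Perm GolayPt) * dbl =
      dbl * (((g : pairStab K) : K) : Equiv.Perm GolayPt) := fun g =>
    (congrArg (fun a : pairStab K => ((a : K) : Equiv.Perm GolayPt))
      (Subgroup.mem_centralizer_iff.1 g.2 y (Subgroup.mem_zpowers y))).symm
  have hform : ∀ g : C, ∃ n σ b, b < 11 ∧
      ⇑(dbl ^ n * (((g : pairStab K) : K) : Equiv.Perm GolayPt)) = candFun 1 σ b false := by
    intro g
    obtain ⟨n, σ, b, hb, hf, -, -⟩ := exists_cand (g := (((g : pairStab K) : K) : Equiv.Perm GolayPt))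
      (k := 1) (by norm_num) (by rw [pow_one]; exact hcomm g)
    exact ⟨n, σ, b, hb, by simpa [(g : pairStab K).2.1] using hf⟩
  have hord : ∀ (g : C) (r : ℕ), (((g : pairStab K) : K) : Equiv.Perm GolayPt) ^ r = 1 → orderOf g ∣ r := fun g r h =>
    orderOf_dvd_of_pow_eq_one (Subtype.ext (Subtype.ext (Subtype.ext (by push_cast; exact h))))
  have h22 : ∀ g : C, orderOf g ∣ 22 := fun g => by
    obtain ⟨n, σ, b, hb, hf⟩ := hform g
    exact hord g 22 (pow_eq_one_of_cand (hcomm g) hf (by norm_num) (cand_one_pow σ b hb))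
  obtain ⟨Q⟩ : Nonempty (Sylow 2 C) := inferInstance
  have hQone : ∀ (q : (Q : Subgroup C)) (n b : ℕ), b < 11 →
      ⇑(dbl ^ n * ((((q : C) : pairStab K) : K) : Equiv.Perm GolayPt)) = candFun 1 false b false → q = 1 := by
    intro q n b hb hf
    obtain ⟨i, hi⟩ := Q.isPGroup' q
    have h1 := hord q 11 (pow_eq_one_of_cand (hcomm q) hf dvd_rfl (cand_one_false_pow b hb))
    rw [Subgroup.orderOf_coe] at h1
    have h2 : orderOf q ∣ 2 ^ i := orderOf_dvd_of_pow_eq_one hi
    exact orderOf_eq_one_iff.1 (Nat.eq_one_of_dvd_coprimes (Nat.Coprime.pow_right i (by norm_num)) h1 h2)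
  have hinv : ∀ q r : (Q : Subgroup C), q ≠ 1 → r ≠ 1 → q * r = 1 := by
    intro q r hq hr
    obtain ⟨n, σ, b, hb, hf⟩ := hform q
    obtain ⟨m, τ, c, hc, hg⟩ := hform r
    obtain ⟨l, μ, d, hd', hh⟩ := hform ((q * r : (Q : Subgroup C)) : C)
    cases σ with
    | false => exact absurd (hQone q n b hb hf) hq
    | true =>
      cases τ with
      | false => exact absurd (hQone r m c hc hg) hr
      | true =>
        cases μ with
        | false => exact hQone (q * r) l d hd' hh
        | true =>
          exfalso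
          have e1 := apply_of_cand hh (some (pt false 0))
          have e2 : ((((((q * r : (Q : Subgroup C)) : C) : pairStab K) : K) : Equiv.Perm GolayPt)) (some (pt false 0)) =
              ((((q : C) : pairStab K) : K) : Equiv.Perm GolayPt) (((((r : C) : pairStab K) : K) : Equiv.Perm GolayPt) (some (pt false 0))) := rfl
          rw [e2, apply_of_cand hg, candFun_pt, dbl_pow_pt, apply_of_cand hf, candFun_pt, dbl_pow_pt,
            candFun_pt, dbl_pow_pt, Option.some.injEq] at e1
          have key : ∀ i < 11, ∀ j < 11, pt false i ≠ pt true j := by decide +kernel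
          simp only [Bool.false_xor, Bool.true_xor, Bool.not_true] at e1
          rw [← pt_mod false, ← pt_mod true] at e1
          exact key _ (Nat.mod_lt _ (by norm_num)) _ (Nat.mod_lt _ (by norm_num)) e1
  have hQ : Nat.card (Q : Subgroup C) ≤ 2 := by
    refine (Nat.card_le_card_of_injective (fun q : (Q : Subgroup C) => decide (q = 1)) fun q r h => ?_).trans
      (by simp)
    by_cases hq : q = 1
    · have : r = 1 := by simpa [hq] using h.symm
      rw [hq, this]
    · have hr : r ≠ 1 := by simpa [hq] using h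
      exact mul_left_cancel ((hinv q q hq hq).trans (hinv q r hq hr).symm)
  obtain ⟨c, hc⟩ : 11 ∣ Nat.card C := by
    rw [← hzc]
    refine Subgroup.card_dvd_of_le (Subgroup.zpowers_le.2 (Subgroup.mem_centralizer_iff.2 ?_))
    rintro a ⟨j, rfl⟩
    exact ((Commute.refl y).zpow_left j).eq
  have h11 : ¬ 11 ∣ c := fun h => by
    have h1 : 11 * 11 ∣ Nat.card C := hc ▸ Nat.mul_dvd_mul_left 11 h
    have := h1.trans (Subgroup.card_subgroup_dvd_card C)
    rw [hcard] at this
    norm_num at this
  have hcpow : c = 2 ^ c.primeFactorsList.length := by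
    refine Nat.eq_prime_pow_of_unique_prime_dvd (by rintro rfl; simp at h11) fun {q} hq hqc => ?_
    haveI := Fact.mk hq
    obtain ⟨g, hg⟩ := exists_prime_orderOf_dvd_card' (G := C) q (hc ▸ dvd_mul_of_dvd_right hqc 11)
    have h1 : q ∣ 2 * 11 := hg ▸ h22 g
    rcases hq.dvd_mul.1 h1 with h | h
    · exact (Nat.prime_dvd_prime_iff_eq hq Nat.prime_two).1 h
    · rw [(Nat.prime_dvd_prime_iff_eq hq (by norm_num)).1 h] at hqc
      exact absurd hqc h11
  have hc2 : c ∣ 2 := by
    set a := c.primeFactorsList.length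
    have h1 : 2 ^ a ∣ Nat.card C := hc ▸ hcpow ▸ dvd_mul_left c 11
    have h2 : a ≤ (Nat.card C).factorization 2 :=
      (Nat.prime_two.pow_dvd_iff_le_factorization Nat.card_pos.ne').1 h1
    have h3 : 2 ^ a ≤ 2 ^ 1 := (Nat.pow_le_pow_right two_pos h2).trans (by
      rw [← Q.card_eq_multiplicity, pow_one]; exact hQ)
    have h4 : a ≤ 1 := (Nat.pow_le_pow_iff_right (by norm_num)).1 h3
    rw [hcpow]
    exact (pow_dvd_pow 2 h4).trans (pow_one 2).dvd
  have he := Block.relIndex_centralizer_dvd (P := Subgroup.zpowers y) hzc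
  have hrel : Nat.card N = Nat.card C * C.relIndex N := by
    rw [← Subgroup.relIndex_bot_left, ← Subgroup.relIndex_bot_left]
    exact (Subgroup.relIndex_mul_relIndex _ _ _ bot_le hCN).symm
  obtain ⟨d, hd'⟩ : ∃ d, Nat.card N = 11 * d := ⟨c * C.relIndex N, by rw [hrel, hc, mul_assoc]⟩
  have hd20 : d ∣ 2 * 10 := by
    have : d = c * C.relIndex N := by
      rw [hrel, hc, mul_assoc] at hd'
      exact (Nat.eq_of_mul_eq_mul_left (by norm_num) hd').symm
    rw [this]
    exact mul_dvd_mul hc2 he
  have hfact : (Nat.card (pairStab K)).factorization 11 = 1 := by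
    rw [hcard, show 443520 = 11 * 40320 from rfl, Nat.factorization_mul (by norm_num) (by norm_num),
      Finsupp.add_apply, Nat.Prime.factorization_self (by norm_num),
      Nat.factorization_eq_zero_of_not_dvd (by norm_num)]
  let P : Sylow 11 (pairStab K) := Sylow.ofCard (Subgroup.zpowers y) (by rw [hzc, hfact, pow_one])
  have hidx := Subgroup.card_mul_index N
  rw [hd', hcard, show 443520 = 11 * 40320 from rfl, mul_assoc] at hidx
  have hdi : d * N.index = 40320 := Nat.eq_of_mul_eq_mul_left (by norm_num) hidx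
  have hmod : N.index % 11 = 1 := by
    have h1 : Nat.card (Sylow 11 (pairStab K)) % 11 = 1 := Eq.trans (card_sylow_modEq_one 11 _) rfl
    rwa [P.card_eq_index_normalizer] at h1
  have key : ∀ r < 21, r ∣ 20 → (40320 / r) % 11 = 1 → r = 5 := by decide +kernel
  have hd5 : d = 5 := key d (Nat.lt_succ_of_le (Nat.le_of_dvd (by norm_num) hd20)) hd20 (by
    rw [← hdi, Nat.mul_div_cancel_left _ (Nat.pos_of_dvd_of_pos hd20 (by norm_num))]
    exact hmod)
  refine ⟨by rw [hd', hd5], fun h => ?_⟩
  rw [hc] at h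
  rcases (Nat.Prime.dvd_mul (by norm_num)).1 h with h | h
  · norm_num at h
  · have := h.trans hc2; norm_num at this

include hK hK0 hx in
theorem exists_u : ∃ u ∈ K, ⇑u = candFun 3 false 1 false ∨ ⇑u = candFun 3 false 10 false := by
  classical
  haveI : Fact (Nat.Prime 5) := ⟨Nat.prime_five⟩
  have hd := dbl_mem hK hx
  obtain ⟨hN, hC5⟩ := card_normalizer_dblT hK hK0 hx hd
  have hyo := orderOf_dblT hd
  set y := dblT hd
  set N := Subgroup.normalizer ((Subgroup.zpowers y : Subgroup (pairStab K)) : Set (pairStab K))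
  obtain ⟨u, hu⟩ := exists_prime_orderOf_dvd_card' (G := N) 5 (by rw [hN]; norm_num)
  obtain ⟨k, hk⟩ := mem_powers_iff_mem_zpowers.2
    ((Subgroup.mem_normalizer_iff.1 u.2 y).1 (Subgroup.mem_zpowers y))
  change y ^ k = (u : pairStab K) * y * (u : pairStab K)⁻¹ at hk
  have hkeq : (u : pairStab K) * y = y ^ k * u := by rw [hk]; group
  have hu5 : (u : pairStab K) ^ 5 = 1 := by rw [← hu, ← Subgroup.orderOf_coe, pow_orderOf_eq_one]
  have h5 := pow_conj_pow hkeq 5
  rw [hu5, one_mul, mul_one] at h5
  have hk5 : k ^ 5 % 11 = 1 := by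
    have h := (pow_eq_pow_iff_modEq (x := y) (m := 1) (n := k ^ 5)).1 (by rw [pow_one]; exact h5.symm)
    rw [hyo] at h
    exact Eq.trans h rfl
  have hk1 : k % 11 ≠ 1 := by
    intro h1
    have hyk : y ^ k = y := by rw [← pow_mod_orderOf, hyo, h1, pow_one]
    have huC : (u : pairStab K) ∈ Subgroup.centralizer ((Subgroup.zpowers y : Subgroup (pairStab K)) : Set (pairStab K)) := by
      refine Subgroup.mem_centralizer_iff.2 ?_
      rintro a ⟨j, rfl⟩
      have hc : Commute y (u : pairStab K) := by
        show y * u = u * y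
        rw [hkeq, hyk]
      exact (hc.zpow_left j).eq
    refine hC5 ?_
    have := orderOf_dvd_natCard (⟨(u : pairStab K), huC⟩ : Subgroup.centralizer ((Subgroup.zpowers y : Subgroup (pairStab K)) : Set (pairStab K)))
    rwa [Subgroup.orderOf_mk, Subgroup.orderOf_coe, hu] at this
  have key : ∀ r < 11, r ^ 5 % 11 = 1 → r ≠ 1 → ∃ n < 5, r ^ n % 11 = 3 := by decide +kernel
  obtain ⟨n, -, hn⟩ := key (k % 11) (Nat.mod_lt _ (by norm_num)) (by rw [← Nat.pow_mod]; exact hk5) hk1
  rw [← Nat.pow_mod] at hn
  have hgn := pow_conj_pow hkeq n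
  set g : Equiv.Perm GolayPt := ((((u : pairStab K) ^ n : pairStab K) : K) : Equiv.Perm GolayPt) with hg
  have hgd : g * dbl = dbl ^ (k ^ n) * g := by
    have := congrArg (fun a : pairStab K => ((a : K) : Equiv.Perm GolayPt)) hgn
    simpa [hg, y, dblT] using this
  have hg0 : g none = none := ((u : pairStab K) ^ n).2.1
  obtain ⟨m, σ, b, hb, hf, -, -⟩ := exists_cand (g := g) (k := k ^ n) (by omega) hgd
  rw [hn] at hf
  have hf' : ⇑(dbl ^ m * g) = candFun 3 σ b false := by simpa [hg0] using hf
  have hmem : dbl ^ m * g ∈ K := mul_mem (pow_mem hd m) ((u : pairStab K) ^ n).1.2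
  refine ⟨_, hmem, ?_⟩
  rcases u_cases σ b hb with ⟨rfl, rfl⟩ | ⟨rfl, rfl⟩ | h
  · exact Or.inl hf'
  · exact Or.inr hf'
  · exfalso
    obtain ⟨e, he, hee⟩ := List.mem_map.1 h
    obtain ⟨h1, h2, h3⟩ := uBad_ok e he
    rw [hee] at h2 h3
    exact false_of_bad hK (gs := [mShift, dbl ^ m * g]) (by simp [hx, hmem]) (by simp [coe_mShift, hf']) h1 h2 h3

theorem cubeTwist_two_ne : ∀ u : (ZMod 23)ˣ, cubeTwistFun (some 1) = some (u : ZMod 23) →
    cubeTwistFun (some 2) ≠ some ((u : ZMod 23) * 2) := by decide +kernel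

theorem cubeTwist_not_borel : cubeTwist ∉ borel23 := by
  rintro ⟨u, c, -, h⟩
  have h0 := Equiv.congr_fun h (some 0)
  have h1 := Equiv.congr_fun h (some 1)
  have h2 := Equiv.congr_fun h (some 2)
  change cubeTwistFun (some 0) = _ at h0
  change cubeTwistFun (some 1) = _ at h1
  change cubeTwistFun (some 2) = _ at h2
  rw [aff_some] at h0 h1 h2
  have hc : c = 0 := by
    rw [show cubeTwistFun (some 0) = some 0 by decide +kernel] at h0
    simpa using h0.symm
  subst hc
  rw [mul_one, add_zero] at h1
  rw [add_zero] at h2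
  exact cubeTwist_two_ne u h1 h2

include hK hK0 hx in
theorem eq_M23_of_cand {u : Equiv.Perm GolayPt} (huK : u ∈ K) (hu : ⇑u = candFun 3 false 10 false) :
    K = Spor.M23 := by
  have hd := dbl_mem hK hx
  have hcube : cubeTwist ∈ K := by
    have : cubeTwist = dbl ^ 6 * u := Equiv.ext fun p => by
      rw [Equiv.Perm.mul_apply, Equiv.Perm.coe_pow, hu]
      exact (coe_cubeTwist p).symm
    exact this ▸ mul_mem (pow_mem hd 6) huK
  have hB : borel23 ≤ K := by
    intro g hg
    obtain ⟨v, c, hv, rfl⟩ := mem_borel23.1 hg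
    obtain ⟨j, rfl⟩ := square_pow_two v hv
    have e : aff (twoUnit ^ j.val) c = mShift ^ c.val * dbl ^ j.val := Equiv.ext fun p => by
      cases p with
      | none => rw [aff_none, Equiv.Perm.mul_apply, dbl_pow_none, mShift_pow_none]
      | some w =>
        rw [aff_some, Equiv.Perm.mul_apply, dbl_pow_apply, mShift_pow_apply, ZMod.natCast_zmod_val,
          Units.val_pow_eq_pow_val]
        rfl
    rw [e]; exact mul_mem (pow_mem hx _) (pow_mem hd _)
  have hH1 : borel23 ⊔ Subgroup.zpowers cubeTwist ≤ K := sup_le hB (Subgroup.zpowers_le.2 hcube)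
  have hH2 : borel23 ⊔ Subgroup.zpowers cubeTwist ≤ m23Sub :=
    sup_le borel23_le_m23 (Subgroup.zpowers_le.2 ⟨cubeTwist_mem, rfl⟩)
  rcases borel23_maximal le_sup_left hH2 with h | h
  · exact absurd (h ▸ Subgroup.mem_sup_right (Subgroup.mem_zpowers cubeTwist)) cubeTwist_not_borel
  · rw [h] at hH1
    exact (Subgroup.eq_of_le_of_card_ge hH1 (by rw [hK, card_m23Sub])).symm

include hK hK0 hx in
theorem iso_M23 : Nonempty (K ≃* Spor.M23) := by
  obtain ⟨u, huK, hu | hu⟩ := exists_u hK hK0 hx
  · set K' := K.map (MulAut.conj negPt).toMonoidHom with hK'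
    have hinj : Function.Injective (MulAut.conj negPt).toMonoidHom := (MulAut.conj negPt).injective
    have hc : ∀ (a : Equiv.Perm GolayPt) (p : GolayPt), (MulAut.conj negPt).toMonoidHom a p = negPt (a (negPt p)) :=
      fun a p => rfl
    have hK2 : Nat.card K' = 10200960 := by rw [hK', Subgroup.card_map_of_injective hinj, hK]
    have hK02 : ∀ g ∈ K', g none = none := by
      rintro _ ⟨a, ha, rfl⟩
      rw [hc, show negPt none = none from rfl, hK0 a ha]
      rfl
    have hx2 : mShift ∈ K' := by
      refine ⟨mShift⁻¹, inv_mem hx, Equiv.ext fun p => ?_⟩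
      rw [hc]
      cases p with
      | none => rfl
      | some v =>
        show some (-((-v) + -1)) = some (v + 1)
        rw [← sub_eq_add_neg, neg_shift]
    have hd2 := dbl_mem hK2 hx2
    have hu2 : dbl ^ 10 * (MulAut.conj negPt).toMonoidHom u ∈ K' :=
      mul_mem (pow_mem hd2 10) (Subgroup.mem_map_of_mem _ huK)
    have := eq_M23_of_cand hK2 hK02 hx2 hu2 (funext fun p => by
      rw [Equiv.Perm.mul_apply, Equiv.Perm.coe_pow, hc, hu]
      exact neg_cand p)
    exact ⟨(K.equivMapOfInjective _ hinj).trans (MulEquiv.subgroupCongr this)⟩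
  · exact ⟨MulEquiv.subgroupCongr (eq_M23_of_cand hK hK0 hx huK hu)⟩

end Group

theorem mShift_fixed : ∀ p : GolayPt, mShift p = p → p = none := by decide +kernel

open scoped Classical in
/-- A simple group of order 10200960 with a subgroup of index 23 is M23. -/
theorem iso_of_index_eq {G : Type*} [Group G] [Finite G] [IsSimpleGroup G] (hcard : Nat.card G = 10200960)
    {H : Subgroup G} (hH : H.index = 23) : Nonempty (G ≃* Spor.M23) := by
  haveI : Fact (Nat.Prime 23) := ⟨by norm_num⟩
  haveI : Fintype (G ⧸ H) := Fintype.ofFinite _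
  have hΩ : Nat.card (G ⧸ H) = Nat.card (ZMod 23) := by
    rw [Nat.card_zmod, ← Subgroup.index_eq_card, hH]
  obtain ⟨e⟩ := Finite.card_eq.1 hΩ
  let f : G →* Equiv.Perm GolayPt :=
    { toFun := fun g => Equiv.optionCongr (e.permCongr (MulAction.toPerm g))
      map_one' := Equiv.ext fun p => by cases p <;> simp
      map_mul' := fun g h => Equiv.ext fun p => by cases p <;> simp [mul_smul] }
  have hfsome : ∀ (g : G) (v : ZMod 23), f g (some v) = some (e (g • e.symm v)) := fun g v => rfl
  have hfnone : ∀ g : G, f g none = none := fun g => rfl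
  have hfinj : Function.Injective f := by
    rw [← MonoidHom.ker_eq_bot_iff]
    refine (MonoidHom.normal_ker f).eq_bot_or_eq_top.resolve_right fun h => ?_
    obtain ⟨g, hg⟩ := MulAction.exists_smul_eq G (e.symm 0) (e.symm 1)
    have h1 := hfsome g 0
    rw [(MonoidHom.mem_ker).1 (h ▸ Subgroup.mem_top g : g ∈ f.ker), hg, Equiv.apply_symm_apply] at h1
    exact zero_ne_one (Option.some.inj h1)
  obtain ⟨x, hx⟩ := exists_prime_orderOf_dvd_card' (G := G) 23 (by rw [hcard]; norm_num)
  have ho : orderOf (f x) = 23 := by rw [orderOf_injective f hfinj, hx]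
  have hconj : IsConj (f x) mShift := by
    rw [Equiv.Perm.isConj_iff_cycleType_eq]
    have key : ∀ σ : Equiv.Perm GolayPt, orderOf σ = 23 → σ.cycleType = Multiset.replicate 1 23 := fun σ hσ => by
      obtain ⟨n, hn⟩ := Equiv.Perm.cycleType_prime_order (σ := σ) (by rw [hσ]; norm_num)
      have hs : σ.cycleType.sum ≤ 24 := by
        rw [Equiv.Perm.sum_cycleType, ← nat_card_golayPt, Nat.card_eq_fintype_card]
        exact Finset.card_le_univ _
      rw [hn, Multiset.sum_replicate, hσ, smul_eq_mul] at hs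
      rw [hn, hσ, show n = 0 by omega]
    rw [key _ ho, key _ orderOf_mShift]
  obtain ⟨c, hc⟩ := isConj_iff.1 hconj
  have hcn : c none = none := mShift_fixed _ (by
    rw [← hc, Equiv.Perm.mul_apply, Equiv.Perm.mul_apply]
    simp [hfnone])
  set f' : G →* Equiv.Perm GolayPt := (MulAut.conj c).toMonoidHom.comp f with hf'
  have hf'inj : Function.Injective f' := (MulAut.conj c).injective.comp hfinj
  have hK : Nat.card f'.range = 10200960 := by
    rw [← Nat.card_congr (MonoidHom.ofInjective hf'inj).toEquiv, hcard]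
  have hK0 : ∀ a ∈ f'.range, a none = none := by
    rintro _ ⟨g, rfl⟩
    show c (f g (c.symm none)) = none
    rw [c.symm_apply_eq.2 hcn.symm, hfnone, hcn]
  obtain ⟨i⟩ := iso_M23 hK hK0 ⟨x, hc⟩
  exact ⟨(MonoidHom.ofInjective hf'inj).trans i⟩

end Cfsg.Lib.MTwentyThree.Recog
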