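import Cfsg.Agent.Lib.MTwentyThree.Block23

/-!
# A simple group of order 10200960: soundness of the block search

The true values at an involution pass every test of the search.
-/

set_option autoImplicit false
set_option linter.style.haveILetI false
set_option linter.unusedSectionVars false

namespace Cfsg.Lib.MTwentyThree

open Cfsg Cfsg.Lib
open Cfsg.Lib.MTwentyTwo (Slot cnt valsOf sqSum deg intVal cast_intVal not_dvd_orderOf withNat_eq
  withInt_eq)

universe u

variable {G : Type u} [Group G] [Fintype G] [Fact (Nat.Prime 23)] [Fact (Nat.Prime 11)]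
  [Fact (Nat.Prime 7)] [Fact (Nat.Prime 5)]

section Search

variable (hG : IsM23 G) {DA : Dat G 11} (lA : Lst DA) {D5 : Dat G 5} (l5 : Lst D5) {D7 : Dat G 7}
  (l7 : Lst D7) {D : Dat G 23} (q : QLst D)
include hG

theorem cnt_le_A {p : ℕ} [Fact p.Prime] {D' : Dat G p} (l : Lst D') {d : ℕ} (hd : d % 11 ≠ 0) :
    cnt l.slots d ≤ cnt lA.slots d := by
  classical
  rw [l.cnt_slots, lA.cnt_slots]
  refine Finset.card_le_card fun χ hχ => ?_
  obtain ⟨-, hχ⟩ := Finset.mem_filter.1 hχ
  exact Finset.mem_filter.2 ⟨mem_B_eleven hG (by rw [hχ]; exact hd), hχ⟩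

theorem mem_Q_of {χ : IrrCharacter G} (h11 : deg χ % 11 = 0) (h23 : deg χ % 23 ≠ 0) :
    χ ∈ QLst.Q D :=
  Finset.mem_filter.2 ⟨(mem_B_iff_twentyThree hG).2 h23, h11⟩

omit hG in
/-- The new characters of a family. -/
noncomputable def newSet {p : ℕ} [Fact p.Prime] (D' : Dat G p) (k : ℕ) (prev : List Slot) :
    Finset (IrrCharacter G) :=
  (Lst.B D').filter fun χ => deg χ % k = 0 ∧ cnt prev (deg χ) = 0

theorem disjoint_new {p : ℕ} [Fact p.Prime] {D' : Dat G p} {k : ℕ} (hk : 11 ∣ k) {prev : List Slot} :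
    Disjoint (Lst.B DA) (newSet D' k prev) :=
  Finset.disjoint_left.2 fun _ h h' => not_mod_eleven hG h
    (Nat.mod_eq_zero_of_dvd (hk.trans (Nat.dvd_of_mod_eq_zero (Finset.mem_filter.1 h').2.1)))

omit hG in
theorem disjoint_new_new {k : ℕ} :
    Disjoint (newSet D5 k []) (newSet D7 k l5.slots) :=
  Finset.disjoint_left.2 fun χ h h' =>
    l5.cnt_slots_eq_zero.1 (Finset.mem_filter.1 h').2.2 χ (Finset.mem_filter.1 h).1 rfl

/-- The candidates of a small family contain the values. -/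
theorem smallCells_mem {p : ℕ} [Fact p.Prime] {D' : Dat G p} (l : Lst D') (hp : p = 5 ∨ p = 7)
    {z : G} (hz : orderOf z = 2) (g : ℕ) (hg : g = p → z ∈ D'.C) (prev : List Slot) :
    List.Forall₂ (fun c v => v ∈ c.cand)
      (smallCells g p (Nat.card (Subgroup.centralizer ({z} : Set G))) lA.slots (lA.vals z) prev l.slots)
      (l.vals z) := by
  have hp2 : p ≠ 2 := by omega
  have hz2 : z ^ 2 = 1 := hz ▸ pow_orderOf_eq_one z
  have hz11 := not_dvd_orderOf (G := G) (p := 11) (by norm_num) (by norm_num) hz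
  rw [smallCells, show l.slots = l.L.map D'.slot from rfl,
    show l.vals z = l.L.map (intVal z) from rfl, List.map_map, List.forall₂_map_left_iff,
    List.forall₂_map_right_iff, List.forall₂_same]
  intro χ hχ
  simp only [Function.comp, Dat.slot]
  have hb : intVal z χ ∈ (if deg χ = 1 then ([1] : List ℤ) else if deg χ % 11 ≠ 0 then
      valsOf lA.slots (lA.vals z) (deg χ) else dom (deg χ) 1
        (Nat.card (Subgroup.centralizer ({z} : Set G)))) := by
    split_ifs with h1 h2
    · exact List.mem_singleton.2 (intVal_of_deg_one hG h1 z)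
    · exact lA.mem_valsOf_slots hz2 hz11 (mem_B_eleven hG h2)
    · exact mem_dom_single hG hz χ
  by_cases hgp : g = p
  · rw [if_pos hgp]
    exact mem_cong hb (D'.mod_two_mul hp2 hz (hg hgp) ((l.mem χ).1 hχ))
  · rw [if_neg hgp]
    exact hb

omit hG in
theorem smallCells_mult {p : ℕ} [Fact p.Prime] {D' : Dat G p} (l : Lst D') (g C : ℕ) (F : List Slot)
    (vA : List ℤ) (prev : List Slot) : ∀ c ∈ smallCells g p C F vA prev l.slots, 1 ≤ c.m := by
  intro c hc
  obtain ⟨x, hx, rfl⟩ := List.mem_map.1 hc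
  exact l.slot_mult hx

theorem small_step {p : ℕ} [Fact p.Prime] {D' : Dat G p} (l : Lst D') (hp : p = 5 ∨ p = 7)
    {z : G} (hz : orderOf z = 2) (g : ℕ) (hg : g = p → z ∈ D'.C) (prev : List Slot) (ss : ℤ)
    (hss : ss + ∑ χ ∈ newSet D' 11 prev, intVal z χ * intVal z χ ≤
      (Nat.card (Subgroup.centralizer ({z} : Set G)) : ℤ)) :
    ∃ qd : ℤ, (l.vals z, ss + ∑ χ ∈ newSet D' 11 prev, intVal z χ * intVal z χ, qd) ∈
      solve (Nat.card (Subgroup.centralizer ({z} : Set G))) (decide (D'.e % 2 = 1))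
        (prep (smallCells g p (Nat.card (Subgroup.centralizer ({z} : Set G))) lA.slots (lA.vals z)
          prev l.slots)) 0 ss 0 ∧
      fracOK p D'.e D'.c (Nat.card (Subgroup.centralizer ({z} : Set G))) qd = true := by
  classical
  have hp2 : p ≠ 2 := by omega
  have hz2 : z ^ 2 = 1 := hz ▸ pow_orderOf_eq_one z
  have hzp := not_dvd_orderOf (G := G) Fact.out hp2 hz
  set C := Nat.card (Subgroup.centralizer ({z} : Set G))
  set cand : Slot → List ℤ := fun x =>
    let b := if x.d = 1 then [1] else if x.d % 11 ≠ 0 then valsOf lA.slots (lA.vals z) x.d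
      else dom x.d 1 C
    if g = p then cong p x.d b else b with hcand
  set P : ℕ → Bool := fun d => decide (d % 11 = 0 ∧ cnt prev d = 0) with hP
  have hcells : smallCells g p C lA.slots (lA.vals z) prev l.slots =
      l.slots.map fun x => ⟨x.s, x.d, x.m, cand x, P x.d⟩ := rfl
  have hadd : addC (smallCells g p C lA.slots (lA.vals z) prev l.slots) (l.vals z) =
      ∑ χ ∈ newSet D' 11 prev, intVal z χ * intVal z χ := by
    rw [hcells, l.addC_slots hz2 hzp cand P]
    exact Finset.sum_congr (Finset.filter_congr fun χ _ => by simp [hP]) fun _ _ => rfl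
  have hlin : linC (smallCells g p C lA.slots (lA.vals z) prev l.slots) (l.vals z) = 0 := by
    rw [hcells]; exact l.linC_slots hz2 hzp cand P
  have hq : ((qC (smallCells g p C lA.slots (lA.vals z) prev l.slots) (l.vals z) : ℤ) : ℂ) =
      (ord : ℂ) * Lst.T D' z := by
    rw [hcells]; exact l.qC_slots hz2 (deg_dvd_ord hG) cand P
  have hfrac := D'.fracOK_of hG (by omega) hz hq
  have hmem := solve_complete C (decide (D'.e % 2 = 1))
    (smallCells g p C lA.slots (lA.vals z) prev l.slots) (l.vals z) 0 ss 0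
    (smallCells_mult l g C lA.slots (lA.vals z) prev)
    (smallCells_mem hG lA l hp hz g hg prev) (by rw [hlin, add_zero])
    (fun he => by
      rw [decide_eq_true_eq] at he
      have h := hfrac
      simp only [fracOK, if_pos he, decide_eq_true_eq] at h
      rw [h, add_zero])
    (by rw [hadd]; exact hss)
  rw [hadd, zero_add] at hmem
  exact ⟨_, hmem, hfrac⟩

theorem colsA_mem {z : G} (hz : orderOf z = 2) :
    (lA.vals z, ∑ χ ∈ Lst.B DA, intVal z χ * intVal z χ, (0 : ℤ)) ∈
      colsA (Nat.card (Subgroup.centralizer ({z} : Set G))) lA.slots := by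
  classical
  have hz2 : z ^ 2 = 1 := hz ▸ pow_orderOf_eq_one z
  have hzp := not_dvd_orderOf (G := G) (p := 11) (by norm_num) (by norm_num) hz
  set C := Nat.card (Subgroup.centralizer ({z} : Set G))
  have hadd := lA.addC_slots hz2 hzp (fun x => dom x.d x.m C) fun _ => true
  rw [Finset.filter_true_of_mem (fun _ _ => rfl)] at hadd
  have hq := lA.qC_slots hz2 (deg_dvd_ord hG) (fun x => dom x.d x.m C) fun _ => true
  have hq0 := DA.fracOK_of hG (by norm_num) hz hq
  rw [(eleven_data hG DA).1] at hq0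
  simp only [fracOK, show (5 : ℕ) % 2 = 1 from rfl, if_true, decide_eq_true_eq] at hq0
  have hmem := solve_complete C true
    (lA.slots.map fun x => ⟨x.s, x.d, x.m, dom x.d x.m C, true⟩) (lA.vals z) 0 0 0
    (fun c hc => by
      obtain ⟨x, hx, rfl⟩ := List.mem_map.1 hc
      exact lA.slot_mult hx)
    (by
      rw [Lst.slots, Lst.vals, List.map_map, List.forall₂_map_left_iff, List.forall₂_map_right_iff,
        List.forall₂_same]
      intro χ _
      exact mem_dom_mult hG DA hz (by norm_num) χ)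
    (by rw [lA.linC_slots hz2 hzp (fun x => dom x.d x.m C) fun _ => true, add_zero])
    (fun _ => by rw [hq0, add_zero])
    (by rw [hadd, zero_add]; exact sq_le_centralizer hG hz2 _)
  rw [hadd, hq0, zero_add, zero_add] at hmem
  exact hmem

theorem fits23_true {p : ℕ} [Fact p.Prime] {D' : Dat G p} (l : Lst D') :
    fits23 q.slots l.slots = true := by
  classical
  simp only [fits23, List.all_eq_true, decide_eq_true_eq]
  intro x _
  by_cases h11 : x.d % 11 = 0
  · by_cases h23 : x.d % 23 = 0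
    · exact Or.inr (Or.inl h23)
    · refine Or.inr (Or.inr ?_)
      rw [l.cnt_slots, q.cnt_slots]
      refine Finset.card_le_card fun χ hχ => ?_
      obtain ⟨-, hχ⟩ := Finset.mem_filter.1 hχ
      exact Finset.mem_filter.2 ⟨mem_Q_of hG (hχ ▸ h11) (hχ ▸ h23), hχ⟩
  · exact Or.inl h11

theorem agree23_true {p : ℕ} [Fact p.Prime] {D' : Dat G p} (l : Lst D') {z : G} (hz : orderOf z = 2) :
    agree23 q.slots (q.vals z) l.slots (l.vals z) = true := by
  have hz2 : z ^ 2 = 1 := hz ▸ pow_orderOf_eq_one z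
  have hz23 := not_dvd_orderOf (G := G) (p := 23) (by norm_num) (by norm_num) hz
  rw [Lst.slots, Lst.vals]
  generalize l.L = L
  induction L with
  | nil => rfl
  | cons a L ih =>
    simp only [List.map_cons, agree23, ih, Bool.and_true, Bool.or_eq_true, decide_eq_true_eq,
      List.contains_iff_mem, Dat.slot]
    by_cases h : deg a % 11 ≠ 0 ∨ deg a % 23 = 0
    · exact Or.inl h
    · rw [not_or, not_not] at h
      exact Or.inr (q.mem_valsOf_slots hz2 hz23 (mem_Q_of hG h.1 h.2))

theorem remOK_true {z : G} (hz : orderOf z = 2) :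
    remOK (Nat.card (Subgroup.centralizer ({z} : Set G))) lA.slots q.slots l5.slots l7.slots
      (lA.vals z) (q.vals z) (l5.vals z) (l7.vals z)
      (∑ χ ∈ Lst.B DA, intVal z χ * intVal z χ + ∑ χ ∈ QLst.Q D, intVal z χ * intVal z χ) = true := by
  classical
  have hz2 : z ^ 2 = 1 := hz ▸ pow_orderOf_eq_one z
  have hz1 : z ≠ 1 := fun e => by rw [e, orderOf_one] at hz; omega
  have hz11 := not_dvd_orderOf (G := G) (p := 11) (by norm_num) (by norm_num) hz
  have hz23 := not_dvd_orderOf (G := G) (p := 23) (by norm_num) (by norm_num) hz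
  have hz5 := not_dvd_orderOf (G := G) (p := 5) (by norm_num) (by norm_num) hz
  have hz7 := not_dvd_orderOf (G := G) (p := 7) (by norm_num) (by norm_num) hz
  set U := Lst.B DA ∪ QLst.Q D ∪ newSet D5 253 [] ∪ newSet D7 253 l5.slots with hU
  have d1 : Disjoint (Lst.B DA) (QLst.Q D) := Finset.disjoint_left.2 fun χ h h' =>
    not_mod_eleven hG h (Finset.mem_filter.1 h').2
  have hQnew : ∀ {p : ℕ} [Fact p.Prime] {D' : Dat G p} {prev : List Slot},
      Disjoint (QLst.Q D) (newSet D' 253 prev) := fun {p _ D' prev} =>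
    Finset.disjoint_left.2 fun χ h h' => (mem_B_iff_twentyThree hG).1 (Finset.mem_filter.1 h).1 (by
      have := (Finset.mem_filter.1 h').2.1
      omega)
  have hAnew : ∀ {p : ℕ} [Fact p.Prime] {D' : Dat G p} {prev : List Slot},
      Disjoint (Lst.B DA) (newSet D' 253 prev) := fun {p _ D' prev} =>
    disjoint_new hG (by norm_num)
  have d2 : Disjoint (Lst.B DA ∪ QLst.Q D) (newSet D5 253 []) :=
    Finset.disjoint_union_left.2 ⟨hAnew, hQnew⟩
  have d3 : Disjoint (Lst.B DA ∪ QLst.Q D ∪ newSet D5 253 []) (newSet D7 253 l5.slots) :=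
    Finset.disjoint_union_left.2
      ⟨Finset.disjoint_union_left.2 ⟨hAnew, hQnew⟩, disjoint_new_new l5⟩
  have split : ∀ {M : Type} [AddCommMonoid M] (f : IrrCharacter G → M),
      ∑ χ ∈ U, f χ = ∑ χ ∈ Lst.B DA, f χ + ∑ χ ∈ QLst.Q D, f χ +
        ∑ χ ∈ newSet D5 253 [], f χ + ∑ χ ∈ newSet D7 253 l5.slots, f χ := fun f => by
    rw [hU, Finset.sum_union d3, Finset.sum_union d2, Finset.sum_union d1]
  have hdeg : ∀ χ ∈ Uᶜ, 253 ∣ deg χ := by
    intro χ hχ
    simp only [hU, Finset.mem_compl, Finset.mem_union, not_or] at hχ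
    have h11 : deg χ % 11 = 0 := by
      by_contra h
      exact hχ.1.1.1 (mem_B_eleven hG h)
    have h23 : deg χ % 23 = 0 := by
      by_contra h
      exact hχ.1.1.2 (mem_Q_of hG h11 h)
    omega
  have hS : sqSum lA.slots + sqSum q.slots + sq253 [] l5.slots + sq253 l5.slots l7.slots =
      ∑ χ ∈ U, deg χ ^ 2 := by
    rw [split, lA.sqSum_slots, q.sqSum_slots, l5.sq253_slots, l7.sq253_slots]
    rfl
  have htot : wFun (fun d v => d * v) lA.slots (lA.vals z) +
      wFun (fun d v => d * v) q.slots (q.vals z) +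
      sum253 (fun d v => d * v) [] l5.slots (l5.vals z) +
      sum253 (fun d v => d * v) l5.slots l7.slots (l7.vals z) =
      ∑ χ ∈ U, (deg χ : ℤ) * intVal z χ := by
    rw [split, lA.wFun_slots hz2 hz11, q.wFun_slots hz2 hz23, l5.sum253_slots hz2 hz5,
      l7.sum253_slots hz2 hz7]
    rfl
  have hsq : (Nat.card (Subgroup.centralizer ({z} : Set G)) : ℤ) -
      (∑ χ ∈ Lst.B DA, intVal z χ * intVal z χ + ∑ χ ∈ QLst.Q D, intVal z χ * intVal z χ) -
      sum253 (fun _ v => v * v) [] l5.slots (l5.vals z) -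
      sum253 (fun _ v => v * v) l5.slots l7.slots (l7.vals z) =
      ∑ χ ∈ Uᶜ, intVal z χ * intVal z χ := by
    rw [l5.sum253_slots hz2 hz5, l7.sum253_slots hz2 hz7, ← MTwentyTwo.sum_intVal_sq hz2,
      ← Finset.sum_add_sum_compl U fun χ => intVal z χ * intVal z χ, split]
    simp only [newSet]
    ring
  have hall := sum_sq_deg hG
  rw [← Finset.sum_add_sum_compl U] at hall
  have hzero := MTwentyTwo.sum_deg_intVal hz2 hz1
  rw [← Finset.sum_add_sum_compl U] at hzero
  simp only [remOK, withNat_eq, withInt_eq, decide_eq_true_eq, hS, htot, hsq]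
  set k : IrrCharacter G → ℕ := fun χ => deg χ / 253
  have hk : ∀ χ ∈ Uᶜ, deg χ = 253 * k χ := fun χ h => (Nat.mul_div_cancel' (hdeg χ h)).symm
  have hsq2 : ∑ χ ∈ Uᶜ, deg χ ^ 2 = 64009 * ∑ χ ∈ Uᶜ, k χ ^ 2 := by
    rw [Finset.mul_sum]
    exact Finset.sum_congr rfl fun χ h => by rw [hk χ h]; ring
  have hlin : ∑ χ ∈ Uᶜ, (deg χ : ℤ) * intVal z χ = 253 * ∑ χ ∈ Uᶜ, (k χ : ℤ) * intVal z χ := by
    rw [Finset.mul_sum]
    exact Finset.sum_congr rfl fun χ h => by rw [hk χ h]; push_cast; ring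
  have hsub : ord - ∑ χ ∈ U, deg χ ^ 2 = 64009 * ∑ χ ∈ Uᶜ, k χ ^ 2 := by omega
  have htU : ∑ χ ∈ U, (deg χ : ℤ) * intVal z χ = 253 * -∑ χ ∈ Uᶜ, (k χ : ℤ) * intVal z χ := by
    linarith
  refine ⟨by omega, by rw [hsub]; exact Nat.mul_mod_right _ _, by rw [htU]; exact Int.mul_emod_right _ _,
    Finset.sum_nonneg fun _ _ => mul_self_nonneg _, fun h0 => ?_, ?_⟩
  · refine Finset.sum_eq_zero fun χ hχ => ?_
    have hc : ∑ ψ ∈ Uᶜ, deg ψ ^ 2 = 0 := by omega
    have := (Finset.sum_eq_zero_iff.1 hc) χ hχ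
    exact absurd (pow_eq_zero_iff two_ne_zero |>.1 this) (Block.charDegree_pos χ).ne'
  · rw [hsub, Nat.mul_div_cancel_left _ (by norm_num : 0 < 64009), htU,
      Int.mul_ediv_cancel_left _ (by norm_num : (253 : ℤ) ≠ 0), neg_mul_neg, ← pow_two]
    push_cast
    refine le_trans (Finset.sum_mul_sq_le_sq_mul_sq _ _ _) (le_of_eq ?_)
    exact congrArg₂ (· * ·) rfl (Finset.sum_congr rfl fun χ _ => pow_two _)

theorem colOK_true (hq : q.slots ∈ cfgs23 lA.slots) {z : G} (hz : orderOf z = 2) (g : ℕ)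
    (hg5 : g = 5 → z ∈ D5.C) (hg7 : g = 7 → z ∈ D7.C)
    (P : List ℤ → List Slot → List ℤ → Bool) (hP : P (lA.vals z) q.slots (q.vals z) = true) :
    colOK P g (Nat.card (Subgroup.centralizer ({z} : Set G))) lA.slots ⟨D5.e, D5.c, l5.slots⟩
      ⟨D7.e, D7.c, l7.slots⟩ = true := by
  classical
  have hz2 : z ^ 2 = 1 := hz ▸ pow_orderOf_eq_one z
  have hz11 := not_dvd_orderOf (G := G) (p := 11) (by norm_num) (by norm_num) hz
  have hz23 := not_dvd_orderOf (G := G) (p := 23) (by norm_num) (by norm_num) hz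
  set C := Nat.card (Subgroup.centralizer ({z} : Set G))
  set ssA := ∑ χ ∈ Lst.B DA, intVal z χ * intVal z χ with hssA
  have dA5 : Disjoint (Lst.B DA) (newSet D5 11 []) := disjoint_new hG dvd_rfl
  have dA7 : Disjoint (Lst.B DA ∪ newSet D5 11 []) (newSet D7 11 l5.slots) :=
    Finset.disjoint_union_left.2 ⟨disjoint_new hG dvd_rfl, disjoint_new_new l5⟩
  have h5le : ssA + ∑ χ ∈ newSet D5 11 [], intVal z χ * intVal z χ ≤ C := by
    rw [hssA, ← Finset.sum_union dA5]
    exact sq_le_centralizer hG hz2 _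
  have h7le : ssA + ∑ χ ∈ newSet D5 11 [], intVal z χ * intVal z χ +
      ∑ χ ∈ newSet D7 11 l5.slots, intVal z χ * intVal z χ ≤ C := by
    rw [hssA, ← Finset.sum_union dA5, ← Finset.sum_union dA7]
    exact sq_le_centralizer hG hz2 _
  obtain ⟨qd5, h5, hf5⟩ := small_step hG lA l5 (Or.inl rfl) hz g hg5 [] ssA h5le
  obtain ⟨qd7, h7, hf7⟩ := small_step hG lA l7 (Or.inr rfl) hz g hg7 l5.slots _ h7le
  -- the block at 23
  set cells := q.slots.map fun x =>
    ({ s := x.s, d := x.d, m := x.m, cand := dom x.d x.m C, add := true } : Cell) with hcells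
  have dQ : Disjoint (Lst.B DA) (QLst.Q D) := Finset.disjoint_left.2 fun χ h h' =>
    not_mod_eleven hG h (Finset.mem_filter.1 h').2
  have hw : ∀ f : IrrCharacter G → ℤ, (∀ χ, deg χ % 23 = 0 → f χ = 0) →
      ∑ χ ∈ Lst.B DA, f χ + ∑ χ ∈ QLst.Q D, f χ = ∑ χ ∈ Lst.B D, f χ := by
    intro f hf
    rw [← Finset.sum_union dQ]
    symm
    refine Finset.sum_subset (fun χ h => ?_) fun χ _ h => ?_
    · rw [Finset.mem_union]
      by_cases h11 : deg χ % 11 = 0
      · exact Or.inr (Finset.mem_filter.2 ⟨h, h11⟩)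
      · exact Or.inl (mem_B_eleven hG h11)
    · exact hf χ (by by_contra e; exact h ((mem_B_iff_twentyThree hG).2 e))
  have hlinQ : wFun (fun d v => w23 d * v) lA.slots (lA.vals z) + linC cells (q.vals z) = 0 := by
    rw [lA.wFun_slots hz2 hz11, hcells, q.linC_slots hG hz2 hz23,
      hw (fun χ => w23 (deg χ) * intVal z χ) (fun χ h => by rw [w23_eq_zero hG h, zero_mul]),
      sum_w23 hG D (intVal z) fun θ' h => Lst.intVal_Y h hz2 hz23]
    have h := D.S.rel z hz23
    rw [Finset.sum_congr rfl fun χ _ => by rw [← cast_intVal χ hz2]] at h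
    have h' : ∑ χ ∈ D.S.Z, D.S.σ χ * intVal z χ = 0 := by exact_mod_cast h
    rw [h', mul_zero]
  have hqQ : wFun (fun d v => w23 d * v * v * (ord / d : ℕ)) lA.slots (lA.vals z) +
      qC cells (q.vals z) = 0 := by
    rw [lA.wFun_slots hz2 hz11, hcells, q.qC_slots hG hz2 hz23,
      hw (fun χ => w23 (deg χ) * intVal z χ * intVal z χ * (ord / deg χ : ℕ))
        (fun χ h => by rw [w23_eq_zero hG h, zero_mul, zero_mul, zero_mul]),
      Finset.sum_congr rfl fun χ _ =>
        show w23 (deg χ) * intVal z χ * intVal z χ * ((ord / deg χ : ℕ) : ℤ) =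
          w23 (deg χ) * (intVal z χ * intVal z χ * ((ord / deg χ : ℕ) : ℤ)) by ring,
      sum_w23 hG D (fun χ => intVal z χ * intVal z χ * ((ord / deg χ : ℕ) : ℤ))
        fun θ' h => by rw [Lst.intVal_Y h hz2 hz23, D.deg_Y h]]
    obtain ⟨he, hc⟩ := D.data_twentyThree hG
    obtain ⟨m, -, hodd, h⟩ := D.frac_full (by norm_num) (by rw [hc]; norm_num) hz
    rw [hodd (by rw [he]), mul_zero, Nat.cast_zero, zero_mul, hc, Nat.cast_one, mul_one,
      card_G hG] at h
    have h0 : (ord : ℂ) * Lst.T D z = 0 := h.symm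
    have h' : ∑ χ ∈ D.S.Z, D.S.σ χ * (intVal z χ * intVal z χ * ((ord / deg χ : ℕ) : ℤ)) = 0 := by
      apply Int.cast_injective (α := ℂ)
      rw [Int.cast_zero, ← h0, Lst.T, Finset.mul_sum, Int.cast_sum]
      refine Finset.sum_congr rfl fun χ _ => ?_
      rw [Int.cast_mul, Int.cast_mul, Int.cast_mul, Int.cast_natCast,
        Nat.cast_div (deg_dvd_ord hG χ) (Nat.cast_ne_zero.2 (Block.charDegree_pos χ).ne')]
      ring
    rw [h', mul_zero]
  have haddQ : addC cells (q.vals z) = ∑ χ ∈ QLst.Q D, intVal z χ * intVal z χ := by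
    rw [hcells, q.addC_slots hz2 hz23]
  have hmemQ := solve_complete C true cells (q.vals z)
    (wFun (fun d v => w23 d * v) lA.slots (lA.vals z)) ssA
    (wFun (fun d v => w23 d * v * v * (ord / d : ℕ)) lA.slots (lA.vals z))
    (fun c hc => by
      obtain ⟨x, hx, rfl⟩ := List.mem_map.1 hc
      exact q.slot_mult hx)
    (by
      rw [hcells, QLst.slots, QLst.vals, List.map_map, List.forall₂_map_left_iff,
        List.forall₂_map_right_iff, List.forall₂_same]
      intro χ _
      exact mem_dom_mult hG D hz (by norm_num) χ)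
    hlinQ (fun _ => hqQ)
    (by rw [haddQ, hssA, ← Finset.sum_union dQ]; exact sq_le_centralizer hG hz2 _)
  simp only [colOK, List.any_eq_true]
  refine ⟨_, colsA_mem hG lA hz, _, h5, ?_⟩
  simp only [Bool.and_eq_true, List.any_eq_true]
  refine ⟨hf5, _, h7, hf7, q.slots, hq, ⟨fits23_true hG q l5, fits23_true hG q l7⟩, _, hmemQ, ?_⟩
  refine ⟨⟨⟨agree23_true hG q l5 hz, agree23_true hG q l7 hz⟩, ?_⟩, hP⟩
  rw [haddQ]
  exact remOK_true hG lA l5 l7 q hz

end Search

end Cfsg.Lib.MTwentyThree
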