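import Cfsg.Agent.Lib.MTwentyThree.Basics

/-!
# The elements of order 7

Their centralizer has order 14 and the characters of degree 22 and 230 take the values 1 and -1.
-/

set_option autoImplicit false
set_option linter.style.haveILetI false
set_option linter.unusedSectionVars false

namespace Cfsg.Lib.MTwentyThree

open Cfsg Cfsg.Lib
open Cfsg.Lib.MTwentyTwo (deg)
open scoped ComplexConjugate

universe u

/-- An element of order dividing 7 has a half trace with real or `√-7` imaginary part. -/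
theorem half_trace {μ : ℂ} (h : μ ^ 7 = 1) :
    (μ + μ ^ 2 + μ ^ 4 - conj (μ + μ ^ 2 + μ ^ 4)) ^ 2 = 0 ∨
      (μ + μ ^ 2 + μ ^ 4 - conj (μ + μ ^ 2 + μ ^ 4)) ^ 2 = -7 := by
  by_cases h1 : μ = 1
  · left; rw [h1]; simp
  · right
    have hn : ‖μ‖ = 1 := Complex.norm_eq_one_of_pow_eq_one h (by norm_num)
    have hμ : conj μ = μ ^ 6 := by
      have hm : μ * conj μ = 1 := by rw [Complex.mul_conj', hn]; norm_num
      calc conj μ = μ ^ 7 * conj μ := by rw [h, one_mul]
        _ = μ ^ 6 * (μ * conj μ) := by ring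
        _ = μ ^ 6 := by rw [hm, mul_one]
    have hS : 1 + μ + μ ^ 2 + μ ^ 3 + μ ^ 4 + μ ^ 5 + μ ^ 6 = 0 :=
      mul_left_cancel₀ (sub_ne_zero.2 h1) (by rw [mul_zero]; linear_combination h)
    have h12 : (μ ^ 6) ^ 2 = μ ^ 5 := by linear_combination μ ^ 5 * h
    have h24 : (μ ^ 6) ^ 4 = μ ^ 3 := by linear_combination (μ ^ 17 + μ ^ 10 + μ ^ 3) * h
    simp only [map_add, map_pow, hμ, h12, h24]
    linear_combination (1 + μ + μ ^ 2 + μ ^ 3 + μ ^ 4 + μ ^ 5 + μ ^ 6 - 6) * hS -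
      4 * (3 + μ + μ ^ 2 + μ ^ 3) * h

variable {G : Type u} [Group G] [Fintype G] [Fact (Nat.Prime 7)]

theorem card_zpowers_seven {x : G} (hx : orderOf x = 7) : Nat.card (Subgroup.zpowers x) = 7 := by
  rw [Nat.card_zpowers, hx]

/-- The data at 7 can be taken at any element of order 7. -/
theorem exists_dat_seven (hG : IsM23 G) {x : G} (hx : orderOf x = 7) :
    ∃ D : Dat G 7, ∃ k : G, k * x * k⁻¹ ∈ (D.P : Subgroup G) ∧ k * x * k⁻¹ ≠ 1 := by
  obtain ⟨D⟩ := exists_dat hG 7 (by norm_num)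
  obtain ⟨Q, hQ⟩ := Small.exists_sylow_eq_zpowers (G := G) (p := 7) (fun Q => by
    rw [Q.card_eq_multiplicity, ← D.P.card_eq_multiplicity, D.S.card_P]) hx
  obtain ⟨k, hk⟩ := MulAction.exists_smul_eq G Q D.P
  refine ⟨D, k, ?_, fun e => ?_⟩
  · rw [← hk, Sylow.coe_subgroup_smul]
    exact ⟨x, hQ ▸ Subgroup.mem_zpowers x, rfl⟩
  · rw [conj_eq_one_iff.1 e, orderOf_one] at hx
    norm_num at hx

namespace Tbl

variable (T : Tbl G) (hG : IsM23 G)
include T hG

theorem conj_powers {x : G} (hx : orderOf x = 7) : IsConj x (x ^ 2) ∧ IsConj x (x ^ 4) := by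
  classical
  obtain ⟨D, k, hy, hy1⟩ := exists_dat_seven hG hx
  set y := k * x * k⁻¹ with hyd
  suffices h : IsConj y (y ^ 2) ∧ IsConj y (y ^ 4) by
    have hxy : IsConj x y := isConj_iff.2 ⟨k, rfl⟩
    have hp : ∀ n : ℕ, IsConj (y ^ n) (x ^ n) := fun n => isConj_iff.2 ⟨k⁻¹, by
      rw [hyd, conj_pow]; group⟩
    exact ⟨(hxy.trans h.1).trans (hp 2), (hxy.trans h.2).trans (hp 4)⟩
  set N := Subgroup.normalizer ((D.P : Subgroup G) : Set G)
  set C := Subgroup.centralizer ((D.P : Subgroup G) : Set G)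
  have hNcard : Nat.card N = 3 * Nat.card C := by
    have h1 := N.card_mul_index
    have hi : N.index = D.n := by rw [D.hn_card, D.P.card_eq_index_normalizer]; rfl
    rw [hi, card_G hG] at h1
    have h2 := D.hn
    rw [T.e_seven D, show ord / 7 = 1457280 by rw [ord]] at h2
    have hn0 : 0 < D.n := by rw [D.hn_card]; exact Nat.card_pos
    have h3 : ord = D.n * (3 * (7 * D.c)) := by
      rw [show D.n * (3 * (7 * D.c)) = 7 * (D.n * 3 * D.c) by ring, h2, ord]
    rw [h3, mul_comm] at h1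
    rw [show Nat.card C = 7 * D.c from D.hc]
    exact Nat.eq_of_mul_eq_mul_left hn0 h1
  have hCN : C ≤ N := Subgroup.centralizer_le_normalizer _
  have hnot : ¬ N ≤ C := fun h => by
    have := Subgroup.card_le_of_le h
    have := Nat.card_pos (α := C)
    omega
  obtain ⟨g, hgN, hgC⟩ := SetLike.not_le_iff_exists.1 hnot
  have hg3 : g ^ 3 ∈ C := by
    haveI : (C.subgroupOf N).Normal := inferInstance
    have hidx : (C.subgroupOf N).index = 3 := by
      have h := (C.subgroupOf N).card_mul_index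
      rw [Nat.card_congr (Subgroup.subgroupOfEquivOfLe hCN).toEquiv, hNcard,
        mul_comm 3] at h
      exact Nat.eq_of_mul_eq_mul_left Nat.card_pos h
    have h := (C.subgroupOf N).pow_index_mem ⟨g, hgN⟩
    rw [hidx] at h
    exact Subgroup.mem_subgroupOf.1 h
  have hyo := D.orderOf_eq hy hy1
  have hgy : g * y * g⁻¹ ∈ Subgroup.zpowers y := by
    rw [Small.zpowers_eq_of_prime_card D.S.card_P hy hy1]
    exact (Subgroup.mem_normalizer_iff.1 hgN y).1 hy
  obtain ⟨j, hj⟩ := mem_powers_iff_mem_zpowers.2 hgy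
  simp only at hj
  have hpow : ∀ n : ℕ, g ^ n * y * (g ^ n)⁻¹ = y ^ (j ^ n) := by
    intro n
    induction n with
    | zero => simp
    | succ n ih =>
      rw [pow_succ', show g * g ^ n * y * (g * g ^ n)⁻¹ = g * (g ^ n * y * (g ^ n)⁻¹) * g⁻¹ by group,
        ih, ← conj_pow, ← hj, ← pow_mul, pow_succ']
  have hcy : ∀ h ∈ C, h * y * h⁻¹ = y := fun h hh => by
    rw [← Subgroup.mem_centralizer_iff.1 hh y hy, mul_inv_cancel_right]
  have hj3 : y ^ (j ^ 3) = y := by rw [← hpow 3, hcy _ hg3]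
  have hj1 : y ^ j ≠ y := fun e => hgC (by
    show g ∈ Subgroup.centralizer ((D.P : Subgroup G) : Set G)
    rw [← D.centralizer_eq hy hy1]
    exact Subgroup.mem_centralizer_singleton_iff.2 (mul_inv_eq_iff_eq_mul.1 (hj.symm.trans e)))
  have hmod : ∀ {a b : ℕ}, y ^ a = y ^ b ↔ a % 7 = b % 7 := by
    intro a b; rw [pow_eq_pow_iff_modEq, hyo]; rfl
  have hj' : (j % 7) ^ 3 % 7 = 1 ∧ j % 7 ≠ 1 := by
    refine ⟨?_, fun e => hj1 ?_⟩
    · have := hmod.1 (hj3.trans (pow_one y).symm)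
      rwa [Nat.pow_mod] at this
    · conv_rhs => rw [← pow_one y]
      exact hmod.2 e
  have hlt : j % 7 < 7 := Nat.mod_lt _ (by norm_num)
  have hc1 : IsConj y (y ^ j) := isConj_iff.2 ⟨g, hj.symm⟩
  have hc2 : IsConj y (y ^ (j ^ 2)) := isConj_iff.2 ⟨g ^ 2, hpow 2⟩
  have h24 : j % 7 = 2 ∨ j % 7 = 4 := by
    obtain ⟨h1, h2⟩ := hj'
    generalize j % 7 = r at h1 h2 hlt
    interval_cases r <;> simp_all
  have hsq : (j ^ 2) % 7 = (j % 7) ^ 2 % 7 := Nat.pow_mod _ _ _
  rcases h24 with e | e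
  · rw [e] at hsq
    exact ⟨hmod.2 (show j % 7 = 2 % 7 by omega) ▸ hc1,
      hmod.2 (show (j ^ 2) % 7 = 4 % 7 by omega) ▸ hc2⟩
  · rw [e] at hsq
    exact ⟨hmod.2 (show (j ^ 2) % 7 = 2 % 7 by omega) ▸ hc2,
      hmod.2 (show j % 7 = 4 % 7 by omega) ▸ hc1⟩

theorem card_C_seven {x : G} (hx : orderOf x = 7) :
    ∃ c : ℕ, (c = 2 ∨ c = 16) ∧ Nat.card (Subgroup.centralizer ({x} : Set G)) = 7 * c := by
  obtain ⟨D, k, hy, hy1⟩ := exists_dat_seven hG hx
  refine ⟨D.c, T.c_seven D, ?_⟩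
  rw [← MEleven.card_centralizer_conj x k, D.centralizer_eq hy hy1, D.hc]

theorem zero_seven {x : G} (hx : orderOf x = 7) {χ : IrrCharacter G} (hχ : χ ∈ T.R) :
    (χ : G → ℂ) x = 0 := by
  refine MEleven.apply_eq_zero_of_defectZero (p := 7) χ ?_ (dvd_of_eq hx.symm)
  have key : ∀ n : ℕ, ¬ 7 ∣ n → (7 ^ 1 * n).factorization 7 = 1 := fun n hn => by
    rw [Nat.factorization_mul (by norm_num) (by rintro rfl; exact hn (dvd_zero 7)), Finsupp.add_apply,
      Nat.Prime.factorization_pow (by norm_num), Finsupp.single_eq_same,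
      Nat.factorization_eq_zero_of_not_dvd hn]
  have hN : (Nat.card G).factorization 7 = 1 := by
    rw [hG.2, show (10200960 : ℕ) = 7 ^ 1 * 1457280 by norm_num]; exact key _ (by norm_num)
  rw [hN]
  show (deg χ).factorization 7 = 1
  rcases T.hR χ hχ with h | h | h <;> rw [h]
  · rw [show (896 : ℕ) = 7 ^ 1 * 128 by norm_num]; exact key _ (by norm_num)
  · rw [show (231 : ℕ) = 7 ^ 1 * 33 by norm_num]; exact key _ (by norm_num)
  · rw [show (770 : ℕ) = 7 ^ 1 * 110 by norm_num]; exact key _ (by norm_num)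

theorem unique_value {χ : IrrCharacter G} (x : G)
    (h : deg χ = 22 ∨ deg χ = 230 ∨ deg χ = 253) : ∃ m : ℤ, (χ : G → ℂ) x = m := by
  refine MTwelveOrder.rational_of_degree fun ψ hψ => ?_
  have hψ' : deg ψ = deg χ := hψ
  rcases h with h | h | h
  · rw [T.of_deg.1 h, T.of_deg.1 (hψ'.trans h)]
  · rw [T.of_deg.2.2.1 h, T.of_deg.2.2.1 (hψ'.trans h)]
  · rw [T.of_deg.2.2.2.1 h, T.of_deg.2.2.2.1 (hψ'.trans h)]

/-- The column at an element of order 7 up to the centralizer. -/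
theorem seven_aux {x : G} (hx : orderOf x = 7) :
    ∃ (a : ℤ) (c : ℕ), (c = 2 ∨ c = 16) ∧ Nat.card (Subgroup.centralizer ({x} : Set G)) = 7 * c ∧
      (T.a : G → ℂ) x = a ∧ (T.c : G → ℂ) x = -a ∧ (T.e : G → ℂ) x = a ∧
      (T.b : G → ℂ) x + (T.b' : G → ℂ) x = -a ∧
      (7 * c : ℂ) = 7 + 3 * (a : ℂ) * a + (T.b : G → ℂ) x * conj ((T.b : G → ℂ) x) +
        (T.b' : G → ℂ) x * conj ((T.b' : G → ℂ) x) ∧ (7 : ℤ) ∣ a - 22 := by
  classical
  obtain ⟨c, hc, hC⟩ := T.card_C_seven hG hx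
  obtain ⟨a, ha⟩ := T.unique_value hG (χ := T.a) x (Or.inl T.ha)
  obtain ⟨hu, hg, hnn, hnorm⟩ := T.seven_val x hx
  have hx1 : x ≠ 1 := fun e => by rw [e, orderOf_one] at hx; norm_num at hx
  have h11 : ¬ 11 ∣ orderOf x := by rw [hx]; norm_num
  have h23 : ¬ 23 ∣ orderOf x := by rw [hx]; norm_num
  have hR0 : ∀ (f : IrrCharacter G → ℂ), (∀ χ ∈ T.R, (χ : G → ℂ) x = 0 → f χ = 0) →
      ∑ χ ∈ T.R, f χ = 0 := fun f hf =>
    Finset.sum_eq_zero fun χ h => hf χ h (T.zero_seven hG hx h)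
  have r23 := T.rel_twentyThree x h23
  rw [T.sum_eq, hR0 _ fun χ _ h => by rw [h, mul_zero]] at r23
  simp only [deg_one', T.ha, T.hb, T.hb', T.hc, T.he, T.hn, T.hn', T.hg, T.hu, Small.one'_apply] at r23
  norm_num [w23] at r23
  obtain ⟨θ, hθ, -, r11⟩ := T.rel_eleven x h11
  rw [T.zero_seven hG hx hθ, hg] at r11
  have hd := MEleven.sum_column_degree hx1
  rw [T.sum_eq, hR0 _ fun χ _ h => by rw [h, mul_zero], Small.one'_apply] at hd
  simp only [show MEleven.deg (Small.one' G) = 1 from Small.charDegree_one',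
    show MEleven.deg T.a = 22 from T.ha, show MEleven.deg T.b = 45 from T.hb,
    show MEleven.deg T.b' = 45 from T.hb', show MEleven.deg T.c = 230 from T.hc,
    show MEleven.deg T.e = 253 from T.he, show MEleven.deg T.n = 990 from T.hn,
    show MEleven.deg T.n' = 990 from T.hn', show MEleven.deg T.g = 1035 from T.hg,
    show MEleven.deg T.u = 2024 from T.hu, hu, hg] at hd
  push_cast at hd
  have hb : (T.b : G → ℂ) x + (T.b' : G → ℂ) x = -a := by
    rw [ha] at r23
    linear_combination -(1 / 2 : ℂ) * r23 + hnn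
  have hc' : (T.c : G → ℂ) x = -a := by linear_combination -r11 + hb
  have he : (T.e : G → ℂ) x = a := by
    rw [ha, hc'] at hd
    linear_combination (1 / 253 : ℂ) * hd - (45 / 253 : ℂ) * hb - (990 / 253 : ℂ) * hnn
  have hcol := Char.column_orthogonality x x
  rw [if_pos (IsConj.refl x), T.sum_eq, hR0 _ fun χ _ h => by rw [h, zero_mul], Small.one'_apply,
    ha, hc', he, hu, hg, hC] at hcol
  simp only [map_one, map_neg, map_intCast, add_zero] at hcol
  push_cast at hcol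
  refine ⟨a, c, hc, hC, ha, hc', he, hb, by linear_combination -hcol + hnorm, ?_⟩
  have := MEleven.int_modEq_deg (p := 7) T.a (k := 1) (by rw [hx, pow_one]) ha
  rw [show MEleven.deg T.a = 22 from T.ha] at this
  exact_mod_cast this

/-- An element of order 7 has centralizer of order 14. -/
theorem seven {x : G} (hx : orderOf x = 7) :
    Nat.card (Subgroup.centralizer ({x} : Set G)) = 14 ∧ (T.a : G → ℂ) x = 1 ∧
      (T.c : G → ℂ) x = -1 := by
  classical
  obtain ⟨a, c, hc, hC, ha, hc', he, hb, hcol, h7⟩ := T.seven_aux hG hx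
  set B := (T.b : G → ℂ) x with hB
  set B' := (T.b' : G → ℂ) x with hB'
  rw [Complex.mul_conj, Complex.mul_conj] at hcol
  have hcolR : (7 * c : ℝ) = 7 + 3 * (a : ℝ) * a + Complex.normSq B + Complex.normSq B' := by
    exact_mod_cast hcol
  have hhalf : (a : ℝ) * a ≤ 2 * (Complex.normSq B + Complex.normSq B') := by
    have h1 := congrArg Complex.re hb
    simp only [Complex.add_re, Complex.neg_re, Complex.intCast_re] at h1
    rw [Complex.normSq_apply, Complex.normSq_apply, show (a : ℝ) = -(B.re + B'.re) by linarith]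
    nlinarith [mul_self_nonneg (B.re - B'.re), mul_self_nonneg B.im, mul_self_nonneg B'.im]
  have hc16 : (c : ℝ) ≤ 16 := by exact_mod_cast (show c ≤ 16 by omega)
  have ha7 : a * a ≤ 30 := by
    have : (a : ℝ) * a ≤ 30 := by nlinarith
    exact_mod_cast this
  have hr : -5 ≤ a ∧ a ≤ 5 := ⟨by nlinarith, by nlinarith⟩
  obtain rfl : a = 1 := by omega
  refine ⟨?_, by rw [ha, Int.cast_one], by rw [hc', Int.cast_one]⟩
  rcases hc with rfl | rfl
  · exact hC
  exfalso
  obtain ⟨h2, h4⟩ := T.conj_powers hG hx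
  set ψ : IrrCharacter G := ⟨fun g => conj ((T.b : G → ℂ) g), Char.isIrrCharacter_conjFn T.b.2⟩ with hψd
  have hψ : ψ = T.b ∨ ψ = T.b' := by
    refine T.of_deg.2.1 ?_
    have h : ((deg ψ : ℕ) : ℂ) = ((deg T.b : ℕ) : ℂ) := by
      rw [← MEleven.apply_one, ← MEleven.apply_one]
      show conj ((T.b : G → ℂ) 1) = (T.b : G → ℂ) 1
      rw [MEleven.apply_one, map_natCast]
    have : deg ψ = deg T.b := by exact_mod_cast h
    rw [this, T.hb]
  have hpow : ∀ k : ℕ, k % 7 = 1 ∨ k % 7 = 2 ∨ k % 7 = 4 → (T.b : G → ℂ) (x ^ k) = B := by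
    intro k hk
    have e : IsConj x (x ^ k) := by
      rw [← pow_mod_orderOf x k, hx]
      rcases hk with e | e | e <;> rw [e]
      · rw [pow_one]
      · exact h2
      · exact h4
    obtain ⟨w, hw⟩ := isConj_iff.1 e
    rw [← hw, T.b.2.isClassFunction x w]
  have hconjB : (ψ : G → ℂ) x = conj B := rfl
  rcases hψ with e | e
  · -- a real value is rational
    have hreal : conj B = B := by rw [← hconjB, e]
    obtain ⟨m, hm⟩ := Char.exists_int_of_pow_invariant T.b.2.isCharacter x fun k hk => by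
      have hk7 : k % 7 ≠ 0 := fun h => by
        have h7 : 7 ∣ Nat.gcd k (Nat.card G) := Nat.dvd_gcd (Nat.dvd_of_mod_eq_zero h)
          ⟨1457280, by rw [hG.2]⟩
        rw [Nat.Coprime.gcd_eq_one hk] at h7
        norm_num at h7
      by_cases hq : k % 7 = 1 ∨ k % 7 = 2 ∨ k % 7 = 4
      · exact hpow k hq
      · obtain ⟨j, hj, hjk⟩ : ∃ j, (j % 7 = 1 ∨ j % 7 = 2 ∨ j % 7 = 4) ∧ (x ^ j)⁻¹ = x ^ k := by
          refine ⟨7 - k % 7, by omega, inv_eq_of_mul_eq_one_right ?_⟩
          rw [← pow_add, ← pow_mod_orderOf, hx,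
            show (7 - k % 7 + k) % 7 = 0 by omega, pow_zero]
        rw [← hjk, T.b.2.isCharacter.apply_inv, hpow j hj, hreal]
    rw [show B = (m : ℂ) from hm] at hb hcolR
    have hB'v : B' = ((-1 - m : ℤ) : ℂ) := by push_cast at hb ⊢; linear_combination hb
    rw [hB'v, Complex.normSq_intCast, Complex.normSq_intCast] at hcolR
    have : m * m + (-1 - m) * (-1 - m) = 102 := by
      have h : ((m * m + (-1 - m) * (-1 - m) : ℤ) : ℝ) = ((102 : ℤ) : ℝ) := by
        push_cast at hcolR ⊢; linarith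
      exact_mod_cast h
    have h2' : 2 * (m * m + m) = 101 := by linarith
    omega
  · -- conjugate values
    have hB'c : B' = conj B := by rw [← hconjB, e]
    rw [hB'c] at hb
    rw [hB'c, Complex.normSq_conj] at hcolR
    push_cast at hb
    have hn51 : B * conj B = 51 := by
      rw [Complex.mul_conj, show Complex.normSq B = 51 by push_cast at hcolR; linarith]; norm_num
    have hsq : (B - conj B) ^ 2 = -203 := by
      linear_combination (B + conj B - 1) * hb - 4 * hn51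
    obtain ⟨n, ρ, -, hρ⟩ := T.b.2
    obtain ⟨bs, μ, hbs, hμ⟩ := Char.exists_eigenbasis ρ x
    rw [hx] at hμ
    have htr : ∀ k : ℕ, (T.b : G → ℂ) (x ^ k) = ∑ i, μ i ^ k := by
      intro k
      rw [← congrFun hρ (x ^ k)]
      show LinearMap.trace ℂ _ (ρ (x ^ k)) = _
      refine Char.trace_eq_sum_of_eigenbasis _ bs _ fun i => ?_
      induction k with
      | zero => simp
      | succ k ih => rw [pow_succ, map_mul, Module.End.mul_apply, hbs i, map_smul, ih, smul_smul, pow_succ']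
    have h3B : 3 * (B - conj B) =
        ∑ i, (μ i + μ i ^ 2 + μ i ^ 4 - conj (μ i + μ i ^ 2 + μ i ^ 4)) := by
      have e : 3 * B = ∑ i, (μ i + μ i ^ 2 + μ i ^ 4) := by
        have e1 := (htr 1).symm.trans (hpow 1 (by norm_num))
        have e2 := (htr 2).symm.trans (hpow 2 (by norm_num))
        have e4 := (htr 4).symm.trans (hpow 4 (by norm_num))
        simp only [pow_one] at e1
        rw [Finset.sum_add_distrib, Finset.sum_add_distrib, e1, e2, e4]
        ring
      rw [Finset.sum_sub_distrib, ← map_sum, ← e, map_mul, map_ofNat]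
      ring
    obtain ⟨w, hw⟩ : ∃ w : ℂ, w ^ 2 = -7 := IsAlgClosed.exists_pow_nat_eq _ (by norm_num)
    have hstep : ∀ i, ∃ m : ℤ,
        μ i + μ i ^ 2 + μ i ^ 4 - conj (μ i + μ i ^ 2 + μ i ^ 4) = (m : ℂ) * w := by
      intro i
      rcases half_trace (hμ i) with h | h
      · exact ⟨0, by rw [pow_eq_zero_iff two_ne_zero |>.1 h]; simp⟩
      · rw [← hw] at h
        rcases sq_eq_sq_iff_eq_or_eq_neg.1 h with h | h
        · exact ⟨1, by rw [h]; simp⟩
        · exact ⟨-1, by rw [h]; simp⟩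
    choose m hm using hstep
    rw [Finset.sum_congr rfl fun i _ => hm i, ← Finset.sum_mul, ← Int.cast_sum] at h3B
    set K := ∑ i, m i
    have h261 : K * K = 261 := by
      have h := congrArg (fun z => z ^ 2) h3B
      simp only [mul_pow, hsq, hw] at h
      have : ((K * K : ℤ) : ℂ) = ((261 : ℤ) : ℂ) := by
        push_cast
        linear_combination (1 / 7 : ℂ) * h
      exact_mod_cast this
    have hK : -17 < K ∧ K < 17 := ⟨by nlinarith, by nlinarith⟩
    obtain ⟨hK1, hK2⟩ := hK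
    interval_cases K <;> omega

end Tbl

end Cfsg.Lib.MTwentyThree
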