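import Cfsg.Agent.Lib.MTwentyThree.Front

/-!
# The characters of a simple group of order 10200960

The degrees, the column at an involution, one class of involutions and the linear relations at the
elements of order 7.
-/

set_option autoImplicit false
set_option linter.style.haveILetI false
set_option linter.unusedSectionVars false

namespace Cfsg.Lib.MTwentyThree

open Cfsg Cfsg.Lib
open Cfsg.Lib.MTwentyTwo (deg intVal cast_intVal intVal_eq not_dvd_orderOf)
open scoped ComplexConjugate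

universe u

/-- The irreducible characters, those of degree 896, 231 and 770 being collected in `R`. -/
structure Tbl (G : Type u) [Group G] [Fintype G] where
  /-- degree 22 -/
  a : IrrCharacter G
  /-- degree 45 -/
  b : IrrCharacter G
  /-- degree 45 -/
  b' : IrrCharacter G
  /-- degree 230 -/
  c : IrrCharacter G
  /-- degree 253 -/
  e : IrrCharacter G
  /-- degree 990 -/
  n : IrrCharacter G
  /-- degree 990 -/
  n' : IrrCharacter G
  /-- degree 1035 -/
  g : IrrCharacter G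
  /-- degree 2024 -/
  u : IrrCharacter G
  /-- degrees 896, 231 and 770 -/
  R : Finset (IrrCharacter G)
  ha : deg a = 22
  hb : deg b = 45
  hb' : deg b' = 45
  hc : deg c = 230
  he : deg e = 253
  hn : deg n = 990
  hn' : deg n' = 990
  hg : deg g = 1035
  hu : deg u = 2024
  hR : ∀ χ ∈ R, deg χ = 896 ∨ deg χ = 231 ∨ deg χ = 770
  sum_eq : ∀ {M : Type} [AddCommMonoid M] (F : IrrCharacter G → M), ∑ χ, F χ =
    F (Small.one' G) + F a + F b + F b' + F c + F e + F n + F n' + F g + F u + ∑ χ ∈ R, F χ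
  inv_val : ∀ z : G, orderOf z = 2 → Nat.card (Subgroup.centralizer ({z} : Set G)) = 2688 ∧
    intVal z a = 6 ∧ intVal z b = -3 ∧ intVal z b' = -3 ∧ intVal z c = 22 ∧ intVal z e = 13 ∧
    intVal z n = -18 ∧ intVal z n' = -18 ∧ intVal z g = 27 ∧ intVal z u = 8
  sum_R : ∀ {M : Type} [AddCommMonoid M] (f : ℕ → ℤ → M) (z : G), orderOf z = 2 →
    ∑ χ ∈ R, f (deg χ) (intVal z χ) = 2 • f 896 0 + 3 • f 231 7 + 2 • f 770 (-14)
  c_seven : ∀ [Fact (Nat.Prime 7)] (D : Dat G 7), D.c = 2 ∨ D.c = 16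
  e_seven : ∀ [Fact (Nat.Prime 7)] (D : Dat G 7), D.e = 3
  c_five : ∀ [Fact (Nat.Prime 5)] (D : Dat G 5), D.c = 3
  seven_val : ∀ x : G, orderOf x = 7 → (u : G → ℂ) x = 1 ∧ (g : G → ℂ) x = -1 ∧
    (n : G → ℂ) x + (n' : G → ℂ) x = -1 ∧
    (n : G → ℂ) x * conj ((n : G → ℂ) x) + (n' : G → ℂ) x * conj ((n' : G → ℂ) x) = 4
  rel_eleven : ∀ y : G, ¬ 11 ∣ orderOf y → ∃ θ ∈ R, deg θ = 896 ∧
    1 + (g : G → ℂ) y - (c : G → ℂ) y + (b : G → ℂ) y + (b' : G → ℂ) y - (θ : G → ℂ) y = 0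
  rel_twentyThree : ∀ y : G, ¬ 23 ∣ orderOf y →
    ∑ χ : IrrCharacter G, (w23 (deg χ) : ℂ) * (χ : G → ℂ) y = 0

theorem Dat.c_eq_c {G : Type u} [Group G] [Fintype G] {p : ℕ} [Fact p.Prime] (D D' : Dat G p) :
    D.c = D'.c := by
  obtain ⟨x, hx, hx1⟩ := D.exists_x
  obtain ⟨k, hk⟩ := MulAction.exists_smul_eq G D.P D'.P
  have hmem : k * x * k⁻¹ ∈ (D'.P : Subgroup G) := by
    rw [← hk, Sylow.coe_subgroup_smul]
    exact ⟨x, hx, rfl⟩
  have hne : k * x * k⁻¹ ≠ 1 := fun e => hx1 (by simpa using e)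
  have h := MEleven.card_centralizer_conj x k
  rw [D'.centralizer_eq hmem hne, D.centralizer_eq hx hx1, D.hc, D'.hc] at h
  exact (Nat.eq_of_mul_eq_mul_left (Fact.out : p.Prime).pos h).symm

variable {G : Type u} [Group G] [Fintype G]

theorem Dat.e_eq_e {p : ℕ} [Fact p.Prime] (D D' : Dat G p) : D.e = D'.e := by
  have hn : D.n = D'.n := D.hn_card.trans D'.hn_card.symm
  have h := D.hn.trans D'.hn.symm
  have hn0 : 0 < D.n := by rw [D.hn_card]; exact Nat.card_pos
  rw [← hn, D.c_eq_c D', mul_assoc, mul_assoc] at h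
  exact Nat.eq_of_mul_eq_mul_right D'.c_pos (Nat.eq_of_mul_eq_mul_left hn0 h)

/-- A list ending in the exceptional character splits off the others. -/
theorem eq_toFinset_of_concat {α : Type*} [DecidableEq α] {l : List α} {k : α} {X : Finset α}
    (hnd : (l ++ [k]).Nodup) (hk : k ∉ X) (h : ∀ χ, χ ∈ l ++ [k] ↔ χ = k ∨ χ ∈ X) :
    X = l.toFinset := by
  obtain ⟨-, -, hd⟩ := List.nodup_append.1 hnd
  ext χ
  rw [List.mem_toFinset]
  refine ⟨fun hX => ?_, fun hl => ?_⟩
  · rcases List.mem_append.1 ((h χ).2 (Or.inr hX)) with h' | h'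
    · exact h'
    · exact absurd (List.mem_singleton.1 h' ▸ hX) hk
  · exact ((h χ).1 (List.mem_append_left _ hl)).resolve_left fun e =>
      hd χ hl k (List.mem_singleton_self k) e

section Lists

variable [Fact (Nat.Prime 23)] [Fact (Nat.Prime 11)] [Fact (Nat.Prime 7)] [Fact (Nat.Prime 5)]
variable (hG : IsM23 G)
include hG

theorem pull_eleven {DA : Dat G 11} (lA : Lst DA) (hA : lA.slots = goalF) :
    ∃ g c b b' : IrrCharacter G, lA.L = [Small.one' G, g, c, b, b', DA.S.θ] ∧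
      (DA.S.σ (Small.one' G) = 1 ∧ DA.S.σ g = 1 ∧ DA.S.σ c = -1 ∧ DA.S.σ b = 1 ∧ DA.S.σ b' = 1 ∧
        DA.S.σ DA.S.θ = -1) ∧
      (deg g = 1035 ∧ deg c = 230 ∧ deg b = 45 ∧ deg b' = 45 ∧ deg DA.S.θ = 896) ∧
      [Small.one' G, g, c, b, b'].Nodup ∧ DA.S.X = [Small.one' G, g, c, b, b'].toFinset := by
  classical
  obtain ⟨o, g, c, b, b', θ, hL⟩ : ∃ o g c b b' θ, lA.L = [o, g, c, b, b', θ] := by
    have := congrArg List.length hA
    simp only [Lst.slots, List.length_map, goalF, List.length_cons, List.length_nil] at this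
    match hL : lA.L, this with
    | [o, g, c, b, b', θ], _ => exact ⟨o, g, c, b, b', θ, rfl⟩
  simp only [Lst.slots, hL, goalF, List.map_cons, List.map_nil, List.cons.injEq, Dat.slot,
    MTwentyTwo.Slot.mk.injEq, and_true] at hA
  obtain ⟨⟨so, dco, -⟩, ⟨sg, dg, -⟩, ⟨sc, dc, -⟩, ⟨sb, db, -⟩, ⟨sb', db', -⟩, sθ, dθ, mθ⟩ := hA
  have ho : o = Small.one' G := deg_eq_one hG dco
  have hθ : θ = DA.S.θ := by
    by_contra hne
    rw [Dat.mult, if_neg hne] at mθ
    exact absurd mθ (by norm_num)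
  subst ho hθ
  have hnd : ([Small.one' G, g, c, b, b'] ++ [DA.S.θ]).Nodup := by
    have := lA.nodup; rwa [hL] at this
  refine ⟨g, c, b, b', hL, ⟨so, sg, sc, sb, sb', sθ⟩, ⟨dg, dc, db, db', dθ⟩,
    (List.nodup_append.1 hnd).1, eq_toFinset_of_concat hnd DA.S.θ_notMem fun χ => ?_⟩
  have h := lA.mem χ
  rw [hL, DA.S.mem_Z] at h
  exact h

theorem pull_block {D : Dat G 23} (q : QLst D) (hQ : q.slots = goalQ) :
    ∃ n n' m1 m2 m3 a : IrrCharacter G, q.L = [n, n', m1, m2, m3, a, D.S.θ] ∧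
      (deg n = 990 ∧ deg n' = 990 ∧ deg m1 = 231 ∧ deg m2 = 231 ∧ deg m3 = 231 ∧ deg a = 22 ∧
        deg D.S.θ = 770) ∧
      [n, n', m1, m2, m3, a].Nodup ∧
      D.S.X.filter (fun χ => deg χ % 11 = 0) = [n, n', m1, m2, m3, a].toFinset := by
  classical
  obtain ⟨n, n', m1, m2, m3, a, k, hL⟩ : ∃ n n' m1 m2 m3 a k,
      q.L = [n, n', m1, m2, m3, a, k] := by
    have := congrArg List.length hQ
    simp only [QLst.slots, List.length_map, goalQ, List.length_cons, List.length_nil] at this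
    match hL : q.L, this with
    | [n, n', m1, m2, m3, a, k], _ => exact ⟨n, n', m1, m2, m3, a, k, rfl⟩
  simp only [QLst.slots, hL, goalQ, List.map_cons, List.map_nil, List.cons.injEq, QLst.slot,
    MTwentyTwo.Slot.mk.injEq, and_true] at hQ
  obtain ⟨⟨-, dn, -⟩, ⟨-, dn', -⟩, ⟨-, dm1, -⟩, ⟨-, dm2, -⟩, ⟨-, dm3, -⟩, ⟨-, da, -⟩, -, dk, mk⟩ := hQ
  have hθ : k = D.S.θ := by
    by_contra hne
    rw [Dat.mult, if_neg hne] at mk
    exact absurd mk (by norm_num)
  subst hθ
  have hnd : ([n, n', m1, m2, m3, a] ++ [D.S.θ]).Nodup := by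
    have := q.nodup; rwa [hL] at this
  refine ⟨n, n', m1, m2, m3, a, hL, ⟨dn, dn', dm1, dm2, dm3, da, dk⟩,
    (List.nodup_append.1 hnd).1, eq_toFinset_of_concat hnd
      (fun h => D.S.θ_notMem (Finset.mem_filter.1 h).1) fun χ => ?_⟩
  have h := q.mem χ
  rw [hL, D.S.mem_Z] at h
  rw [Finset.mem_filter]
  refine h.trans ⟨fun ⟨h1, h2⟩ => h1.imp_right fun h1 => ⟨h1, h2⟩, ?_⟩
  rintro (rfl | ⟨h1, h2⟩)
  · exact ⟨Or.inl rfl, by rw [dk]⟩
  · exact ⟨Or.inr h1, h2⟩

theorem pull_seven {D7 : Dat G 7} (l7 : Lst D7) (h7 : l7.slots = goalZ7) :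
    ∃ w g : IrrCharacter G, (D7.S.σ w = 1 ∧ D7.S.σ g = -1 ∧ D7.S.σ D7.S.θ = -1) ∧
      (deg w = 2024 ∧ deg g = 1035 ∧ deg D7.S.θ = 990) ∧
      [Small.one' G, w, g].Nodup ∧ D7.S.X = [Small.one' G, w, g].toFinset := by
  classical
  obtain ⟨o, w, g, θ, hL⟩ : ∃ o w g θ, l7.L = [o, w, g, θ] := by
    have := congrArg List.length h7
    simp only [Lst.slots, List.length_map, goalZ7, List.length_cons, List.length_nil] at this
    match hL : l7.L, this with
    | [o, w, g, θ], _ => exact ⟨o, w, g, θ, rfl⟩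
  simp only [Lst.slots, hL, goalZ7, List.map_cons, List.map_nil, List.cons.injEq, Dat.slot,
    MTwentyTwo.Slot.mk.injEq, and_true] at h7
  obtain ⟨⟨-, dco, -⟩, ⟨sw, dw, -⟩, ⟨sg, dg, -⟩, sθ, dθ, mθ⟩ := h7
  have ho : o = Small.one' G := deg_eq_one hG dco
  have hθ : θ = D7.S.θ := by
    by_contra hne
    rw [Dat.mult, if_neg hne] at mθ
    exact absurd mθ (by norm_num)
  subst ho hθ
  have hnd : ([Small.one' G, w, g] ++ [D7.S.θ]).Nodup := by
    have := l7.nodup; rwa [hL] at this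
  refine ⟨w, g, ⟨sw, sg, sθ⟩, ⟨dw, dg, dθ⟩, (List.nodup_append.1 hnd).1,
    eq_toFinset_of_concat hnd D7.S.θ_notMem fun χ => ?_⟩
  have h := l7.mem χ
  rw [hL, D7.S.mem_Z] at h
  exact h

end Lists

set_option maxHeartbeats 800000 in
theorem exists_tbl [Fact (Nat.Prime 23)] [Fact (Nat.Prime 11)] [Fact (Nat.Prime 7)]
    [Fact (Nat.Prime 5)] (hG : IsM23 G) : Nonempty (Tbl G) := by
  classical
  obtain ⟨DA⟩ := exists_dat hG 11 (by norm_num)
  obtain ⟨D5⟩ := exists_dat hG 5 (by norm_num)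
  obtain ⟨D7⟩ := exists_dat hG 7 (by norm_num)
  obtain ⟨D⟩ := exists_dat hG 23 (by norm_num)
  obtain ⟨hAe, hAc, h5e, h5c, h7e, h7c, h23e, h23c, lA, l5, l7, q, hA, h5, h7, hQ, hcol⟩ :=
    front hG DA D5 D7 D
  obtain ⟨g, c, b, b', hLA, ⟨so, sg, sc, sb, sb', sθ⟩, ⟨dg, dc, db, db', dθ⟩, hndXA, hXA⟩ :=
    pull_eleven hG lA hA
  have hone : deg (Small.one' G) = 1 := Small.charDegree_one'
  have hYdeg : ∀ χ ∈ DA.S.Y, deg χ = 896 := fun χ h => by rw [DA.deg_Y h]; exact dθ
  obtain ⟨n, n', m1, m2, m3, a, hLQ, ⟨dn, dn', dm1, dm2, dm3, da, dk⟩, hndX, hXQ⟩ :=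
    pull_block hG q hQ
  have hYQdeg : ∀ χ ∈ D.S.Y, deg χ = 770 := fun χ h => by rw [D.deg_Y h]; exact dk
  have hQeq : QLst.Q D = D.S.X.filter (fun χ => deg χ % 11 = 0) ∪ D.S.Y := by
    rw [QLst.Q, Lst.B, Finset.filter_union]
    exact congrArg (_ ∪ ·) (Finset.filter_true_of_mem fun χ h => by rw [hYQdeg χ h])
  set U := Lst.B DA ∪ QLst.Q D with hU
  have dQ : Disjoint (Lst.B DA) (QLst.Q D) := Finset.disjoint_left.2 fun χ h h' =>
    not_mod_eleven hG h (Finset.mem_filter.1 h').2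
  have hUsum : ∀ {M : Type} [AddCommMonoid M] (F : IrrCharacter G → M), ∑ χ ∈ U, F χ =
      F (Small.one' G) + F g + F c + F b + F b' + F n + F n' + F a +
        (∑ χ ∈ DA.S.Y, F χ + (F m1 + F m2 + F m3) + ∑ χ ∈ D.S.Y, F χ) := by
    intro M _ F
    rw [hU, Finset.sum_union dQ, Lst.B, Finset.sum_union DA.S.disj, hQeq,
      Finset.sum_union (Finset.disjoint_left.2 fun χ h h' =>
        Finset.disjoint_left.1 D.S.disj (Finset.mem_filter.1 h).1 h'),
      hXA, hXQ, List.sum_toFinset _ hndXA, List.sum_toFinset _ hndX]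
    simp only [List.map_cons, List.map_nil, List.sum_cons, List.sum_nil, add_zero]
    abel
  -- the two remaining characters
  obtain ⟨o5, w, h1, h2, m5, hL5⟩ : ∃ o5 w h1 h2 m5, l5.L = [o5, w, h1, h2, m5] := by
    have := congrArg List.length h5
    simp only [Lst.slots, List.length_map, goal5, List.length_cons, List.length_nil] at this
    match hL : l5.L, this with
    | [o5, w, h1, h2, m5], _ => exact ⟨o5, w, h1, h2, m5, rfl⟩
  have hs5 := h5
  simp only [Lst.slots, hL5, goal5, List.map_cons, List.map_nil, List.cons.injEq, Dat.slot,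
    MTwentyTwo.Slot.mk.injEq, and_true] at hs5
  obtain ⟨⟨so5, do5, -⟩, ⟨sw, dw, -⟩, ⟨sh1, dh1, -⟩, ⟨sh2, dh2, -⟩, sm5, dm5, -⟩ := hs5
  have hmemU : ∀ χ, χ ∈ U ↔ deg χ % 253 ≠ 0 := by
    intro χ
    rw [hU, Finset.mem_union]
    constructor
    · rintro (h | h)
      · have := not_mod_eleven hG h; omega
      · have := (mem_B_iff_twentyThree hG).1 (Finset.mem_filter.1 h).1; omega
    · intro h
      by_cases h11 : deg χ % 11 = 0
      · exact Or.inr (mem_Q_of hG h11 (by omega))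
      · exact Or.inl (mem_B_eleven hG h11)
  have hUdeg : ∑ χ ∈ U, deg χ ^ 2 = 6040375 := by
    rw [hUsum, Finset.sum_congr rfl (g := fun _ => 896 ^ 2) fun χ h => by rw [hYdeg χ h],
      Finset.sum_congr (s₁ := D.S.Y) rfl (g := fun _ => 770 ^ 2) fun χ h => by rw [hYQdeg χ h],
      Finset.sum_const, Finset.sum_const, card_Y_twentyThree hG, DA.S.card_Y, hAe, hone, dg, dc, db,
      db', dn, dn', da, dm1, dm2, dm3]
    norm_num
  have hwU : w ∈ Uᶜ := by
    rw [Finset.mem_compl, hmemU, dw]; norm_num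
  obtain ⟨e, hcompl, de⟩ : ∃ e, Uᶜ = {w, e} ∧ deg e = 253 := by
    have h1 := Finset.sum_add_sum_compl U fun χ => deg χ ^ 2
    rw [sum_sq_deg hG, hUdeg, ← Finset.add_sum_erase _ _ hwU, dw, ord] at h1
    have hrest : ∑ χ ∈ Uᶜ.erase w, deg χ ^ 2 = 64009 := by omega
    have hdvd : ∀ χ ∈ Uᶜ.erase w, 253 ∣ deg χ := fun χ h => by
      have := (Finset.mem_compl.1 (Finset.mem_of_mem_erase h))
      rw [hmemU] at this
      exact Nat.dvd_of_mod_eq_zero (not_not.1 this)
    obtain ⟨e, he⟩ : ∃ e, Uᶜ.erase w = {e} := by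
      refine Finset.card_eq_one.1 (le_antisymm ?_ ?_)
      · have := Finset.card_nsmul_le_sum (Uᶜ.erase w) (fun χ => deg χ ^ 2) 64009 fun χ hχ => by
          exact le_trans (by norm_num) (Nat.pow_le_pow_left
            (Nat.le_of_dvd (Block.charDegree_pos χ) (hdvd χ hχ)) 2)
        rw [hrest, smul_eq_mul] at this
        omega
      · refine Finset.card_pos.2 ?_
        by_contra hne
        rw [Finset.not_nonempty_iff_eq_empty] at hne
        rw [hne, Finset.sum_empty] at hrest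
        exact absurd hrest (by norm_num)
    refine ⟨e, by rw [← Finset.insert_erase hwU, he], ?_⟩
    rw [he, Finset.sum_singleton] at hrest
    exact Nat.pow_left_injective two_ne_zero (show deg e ^ 2 = 253 ^ 2 by rw [hrest])
  have hwe : w ≠ e := fun h => by rw [h, de] at dw; omega
  set R := DA.S.Y ∪ {m1, m2, m3} ∪ D.S.Y with hR
  have hm : m1 ≠ m2 ∧ m1 ≠ m3 ∧ m2 ≠ m3 := by
    simp only [List.nodup_cons, List.mem_cons, List.not_mem_nil, or_false, not_or] at hndX
    tauto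
  have hRsum : ∀ {M : Type} [AddCommMonoid M] (F : IrrCharacter G → M), ∑ χ ∈ R, F χ =
      ∑ χ ∈ DA.S.Y, F χ + (F m1 + F m2 + F m3) + ∑ χ ∈ D.S.Y, F χ := by
    intro M _ F
    rw [hR, Finset.sum_union, Finset.sum_union, Finset.sum_insert (by simp [hm.1, hm.2.1]),
      Finset.sum_pair hm.2.2, add_assoc (F m1)]
    · rw [Finset.disjoint_left]
      intro χ h h'
      have := hYdeg χ h
      simp only [Finset.mem_insert, Finset.mem_singleton] at h'
      rcases h' with rfl | rfl | rfl <;> omega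
    · rw [Finset.disjoint_left]
      intro χ h h'
      have := hYQdeg χ h'
      rcases Finset.mem_union.1 h with h | h
      · have := hYdeg χ h; omega
      · simp only [Finset.mem_insert, Finset.mem_singleton] at h
        rcases h with rfl | rfl | rfl <;> omega
  have hsum : ∀ {M : Type} [AddCommMonoid M] (F : IrrCharacter G → M), ∑ χ, F χ =
      F (Small.one' G) + F a + F b + F b' + F c + F e + F n + F n' + F g + F w + ∑ χ ∈ R, F χ := by
    intro M _ F
    rw [← Finset.sum_add_sum_compl U, hUsum, hcompl, Finset.sum_pair hwe, hRsum]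
    abel
  have hval : ∀ z : G, orderOf z = 2 → Nat.card (Subgroup.centralizer ({z} : Set G)) = 2688 ∧
      intVal z a = 6 ∧ intVal z b = -3 ∧ intVal z b' = -3 ∧ intVal z c = 22 ∧ intVal z e = 13 ∧
      intVal z n = -18 ∧ intVal z n' = -18 ∧ intVal z g = 27 ∧ intVal z w = 8 ∧
      (∀ χ ∈ DA.S.Y, intVal z χ = 0) ∧ intVal z m1 = 7 ∧ intVal z m2 = 7 ∧ intVal z m3 = 7 ∧
      ∀ χ ∈ D.S.Y, intVal z χ = -14 := by
    intro z hz
    obtain ⟨hC, hvA, hvQ⟩ := hcol z hz
    have hz2 : z ^ 2 = 1 := hz ▸ pow_orderOf_eq_one z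
    have hz1 : z ≠ 1 := fun e => by rw [e, orderOf_one] at hz; omega
    have hn5 := not_dvd_orderOf (G := G) (p := 5) (by norm_num) (by norm_num) hz
    have hn11 := not_dvd_orderOf (G := G) (p := 11) (by norm_num) (by norm_num) hz
    have hn23 := not_dvd_orderOf (G := G) (p := 23) (by norm_num) (by norm_num) hz
    simp only [Lst.vals, hLA, goalVA, List.map_cons, List.map_nil, List.cons.injEq, and_true] at hvA
    obtain ⟨vo, vg, vc, vb, vb', vθ⟩ := hvA
    simp only [QLst.vals, hLQ, goalVQ, List.map_cons, List.map_nil, List.cons.injEq, and_true] at hvQ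
    obtain ⟨vn, vn', v1, v2, v3, va, vk⟩ := hvQ
    have hYA : ∀ χ ∈ DA.S.Y, intVal z χ = 0 := fun χ h => by
      rw [Lst.intVal_Y h hz2 hn11, vθ]
    have hYQ : ∀ χ ∈ D.S.Y, intVal z χ = -14 := fun χ h => by
      rw [Lst.intVal_Y h hz2 hn23, vk]
    have hm5 : intVal z m5 = 7 := by
      have hQm : m5 ∈ QLst.Q D := mem_Q_of hG (by rw [dm5]) (by rw [dm5]; norm_num)
      rw [hQeq, Finset.mem_union, hXQ, List.mem_toFinset] at hQm
      rcases hQm with h | h
      · simp only [List.mem_cons, List.not_mem_nil, or_false] at h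
        rcases h with rfl | rfl | rfl | rfl | rfl | rfl <;> first | assumption | omega
      · rw [hYQdeg m5 h] at dm5; omega
    have hh : ∀ χ : IrrCharacter G, deg χ = 896 → intVal z χ = 0 := fun χ hd => by
      have hB : χ ∈ Lst.B DA := mem_B_eleven hG (by rw [hd]; norm_num)
      rcases Lst.mem_B.1 hB with h | h
      · rw [hXA, List.mem_toFinset] at h
        simp only [List.mem_cons, List.not_mem_nil, or_false] at h
        rcases h with rfl | rfl | rfl | rfl | rfl <;> omega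
      · exact hYA χ h
    have vw : intVal z w = 8 := by
      have hrel := D5.S.rel z hn5
      rw [← l5.sum_L, hL5] at hrel
      simp only [List.map_cons, List.map_nil, List.sum_cons, List.sum_nil, so5, sw, sh1, sh2, sm5,
        ← cast_intVal _ hz2, intVal_of_deg_one hG do5, hh h1 dh1, hh h2 dh2, hm5] at hrel
      have h' : (1 : ℤ) * 1 + (-1 * intVal z w + (1 * 0 + (1 * 0 + (1 * 7 + 0)))) = 0 := by
        exact_mod_cast hrel
      omega
    have ve : intVal z e = 13 := by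
      have h := MTwentyTwo.sum_deg_intVal hz2 hz1
      rw [hsum, hRsum, show deg (Small.one' G) = 1 from Small.charDegree_one',
        intVal_of_deg_one hG (show deg (Small.one' G) = 1 from Small.charDegree_one'),
        Finset.sum_congr rfl (g := fun _ => (896 : ℤ) * 0) fun χ h => by
          rw [hYdeg χ h, hYA χ h]; norm_num,
        Finset.sum_congr (s₁ := D.S.Y) rfl (g := fun _ => (770 : ℤ) * -14) fun χ h => by
          rw [hYQdeg χ h, hYQ χ h]; norm_num,
        Finset.sum_const, Finset.sum_const, card_Y_twentyThree hG, da, db, db', dc, de, dn, dn', dg,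
        dw, dm1, dm2, dm3, va, vb, vb', vc, vn, vn', vg, vw, v1, v2, v3] at h
      norm_num at h
      omega
    exact ⟨hC, va, vb, vb', vc, ve, vn, vn', vg, vw, hYA, v1, v2, v3, hYQ⟩
  obtain ⟨w7, g7, ⟨sw7, sg7, sθ7⟩, ⟨dw7, dg7, dθ7⟩, hnd7, hX7⟩ := pull_seven hG l7 h7
  have hcases : ∀ χ : IrrCharacter G, χ = Small.one' G ∨ χ = a ∨ χ = b ∨ χ = b' ∨ χ = c ∨ χ = e ∨
      χ = n ∨ χ = n' ∨ χ = g ∨ χ = w ∨ χ ∈ R := by
    intro χ
    by_contra hno
    simp only [not_or] at hno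
    obtain ⟨p0, p1, p2, p3, p4, p5, p6, p7, p8, p9, p10⟩ := hno
    have h := hsum fun ψ => if ψ = χ then (1 : ℕ) else 0
    rw [Finset.sum_ite_eq', if_pos (Finset.mem_univ _), Finset.sum_ite_eq', if_neg p10,
      if_neg (Ne.symm p0), if_neg (Ne.symm p1), if_neg (Ne.symm p2), if_neg (Ne.symm p3),
      if_neg (Ne.symm p4), if_neg (Ne.symm p5), if_neg (Ne.symm p6), if_neg (Ne.symm p7),
      if_neg (Ne.symm p8), if_neg (Ne.symm p9)] at h
    exact absurd h (by norm_num)
  have hRdeg : ∀ χ ∈ R, deg χ = 896 ∨ deg χ = 231 ∨ deg χ = 770 := by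
    intro χ h
    simp only [hR, Finset.mem_union, Finset.mem_insert, Finset.mem_singleton] at h
    rcases h with (h | h | h | h) | h
    · exact Or.inl (hYdeg χ h)
    all_goals first
      | exact Or.inr (Or.inr (hYQdeg χ h))
      | exact Or.inr (Or.inl (by rw [h]; assumption))
  have uniq : ∀ χ : IrrCharacter G, (deg χ = 1035 → χ = g) ∧ (deg χ = 2024 → χ = w) ∧
      (deg χ = 990 → χ = n ∨ χ = n') := by
    intro χ
    rcases hcases χ with h | h | h | h | h | h | h | h | h | h | h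
    all_goals first
      | (subst h
         refine ⟨?_, ?_, ?_⟩ <;> intro hd <;>
           first | rfl | exact Or.inl rfl | exact Or.inr rfl | omega)
      | (rcases hRdeg χ h with h' | h' | h' <;> rw [h'] <;> norm_num)
  have hnn : n ≠ n' := by
    simp only [List.nodup_cons, List.mem_cons, List.not_mem_nil, or_false, not_or] at hndX
    tauto
  have hY7 : D7.S.Y = {n, n'} := by
    refine Finset.eq_of_subset_of_card_le (fun χ hχ => ?_) ?_
    · rw [Finset.mem_insert, Finset.mem_singleton]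
      exact (uniq χ).2.2 (by rw [D7.deg_Y hχ]; exact dθ7)
    · rw [Finset.card_pair hnn, D7.S.card_Y, h7e]
  have hw7 : w7 = w := (uniq w7).2.1 dw7
  have hg7 : g7 = g := (uniq g7).1 dg7
  rw [hw7] at sw7 hX7 hnd7
  rw [hg7] at sg7 hX7 hnd7
  refine ⟨{
    a := a, b := b, b' := b', c := c, e := e, n := n, n' := n', g := g, u := w, R := R
    ha := da, hb := db, hb' := db', hc := dc, he := de, hn := dn, hn' := dn', hg := dg, hu := dw
    hR := hRdeg, sum_eq := hsum, inv_val := ?_, sum_R := ?_, c_seven := ?_, e_seven := ?_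
    c_five := ?_, seven_val := ?_, rel_eleven := ?_, rel_twentyThree := ?_ }⟩
  · intro z hz
    obtain ⟨h1, h2, h3, h4, h5, h6, h7, h8, h9, h10, -⟩ := hval z hz
    exact ⟨h1, h2, h3, h4, h5, h6, h7, h8, h9, h10⟩
  · intro M _ f z hz
    obtain ⟨-, -, -, -, -, -, -, -, -, -, hYA, v1, v2, v3, hYQ⟩ := hval z hz
    rw [hRsum, Finset.sum_congr rfl (g := fun _ => f 896 0) fun χ h => by rw [hYdeg χ h, hYA χ h],
      Finset.sum_congr (s₁ := D.S.Y) rfl (g := fun _ => f 770 (-14)) fun χ h => by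
        rw [hYQdeg χ h, hYQ χ h],
      Finset.sum_const, Finset.sum_const, card_Y_twentyThree hG, DA.S.card_Y, hAe, dm1, dm2, dm3,
      v1, v2, v3]
    simp only [succ_nsmul, zero_nsmul, zero_add]
  · intro _ D'
    rw [D'.c_eq_c D7]
    exact h7c
  · intro _ D'; rw [D'.e_eq_e D7, h7e]
  · intro _ D'; rw [D'.c_eq_c D5, h5c]
  · intro x hx
    obtain ⟨Q7, hQ7⟩ := Small.exists_sylow_eq_zpowers (G := G) (p := 7) (fun Q => by
      rw [Q.card_eq_multiplicity, ← D7.P.card_eq_multiplicity, D7.S.card_P]) hx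
    obtain ⟨k7, hk7⟩ := MulAction.exists_smul_eq G Q7 D7.P
    set y := k7 * x * k7⁻¹ with hy
    have hyP : y ∈ (D7.P : Subgroup G) := by
      rw [← hk7, Sylow.coe_subgroup_smul]
      exact ⟨x, hQ7 ▸ Subgroup.mem_zpowers x, rfl⟩
    have hy1 : y ≠ 1 := fun e => by
      have e' : x = 1 := by simpa [hy] using e
      rw [e', orderOf_one] at hx
      omega
    have hconj : ∀ χ : IrrCharacter G, (χ : G → ℂ) y = (χ : G → ℂ) x := fun χ =>
      χ.2.isClassFunction x k7
    have h1n : ¬ 7 ∣ orderOf (1 : G) := by rw [orderOf_one]; norm_num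
    have hXv : ∀ χ ∈ D7.S.X, (χ : G → ℂ) x = (D7.S.σ χ : ℂ) := fun χ h => by
      have := D7.S.val χ h y hyP hy1 1 (Subgroup.one_mem _) h1n
      rwa [mul_one, hconj] at this
    have hu' := hXv w (by simp [hX7])
    have hg' := hXv g (by simp [hX7])
    rw [sw7] at hu'
    rw [sg7] at hg'
    have hYs := D7.sum_Y hyP hy1 (Subgroup.one_mem _) h1n
    rw [hY7, Finset.sum_pair hnn, mul_one, hconj, hconj, sθ7] at hYs
    push_cast at hu' hg' hYs
    refine ⟨hu', hg', hYs, ?_⟩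
    haveI : IsMulCommutative (D7.P : Subgroup G) := by
      haveI : IsCyclic (D7.P : Subgroup G) := isCyclic_of_prime_card D7.S.card_P
      exact ⟨⟨fun a b => IsCyclic.commGroup.mul_comm a b⟩⟩
    have hfree : Block.FreeAction D7.P := fun v hv hv1 => by
      rw [D7.centralizer_eq hv hv1]
      exact inf_eq_left.2 (Subgroup.centralizer_le_normalizer _)
    have hordy : ∃ k : ℕ, orderOf y = 7 ^ k := ⟨1, by rw [pow_one, D7.orderOf_eq hyP hy1]⟩
    have hc7 := Block.principal_column D7.S.hM hordy hordy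
    rw [if_pos (IsConj.refl y), Block.principalDegSq_free D7.S.hM hfree hyP hy1, D7.S.card_P,
      finsum_mem_eq_finite_toFinset_sum _ (principalBlock D7.S.M G).toFinite,
      show (principalBlock D7.S.M G).toFinite.toFinset = D7.S.X ∪ D7.S.Y by
        ext ψ; rw [Set.Finite.mem_toFinset, Finset.mem_union]; exact D7.S.mem_block ψ,
      Finset.sum_union D7.S.disj] at hc7
    rw [hX7, List.sum_toFinset _ hnd7, hY7, Finset.sum_pair hnn] at hc7
    simp only [List.map_cons, List.map_nil, List.sum_cons, List.sum_nil, add_zero] at hc7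
    simp only [hconj, hu', hg', Small.one'_apply, map_one, map_neg] at hc7
    push_cast at hc7
    linear_combination hc7
  · intro y hy
    refine ⟨DA.S.θ, ?_, dθ, ?_⟩
    · rw [hR, Finset.mem_union, Finset.mem_union]
      exact Or.inl (Or.inl DA.S.θ_mem)
    · have h := DA.S.rel y hy
      rw [← lA.sum_L, hLA] at h
      simp only [List.map_cons, List.map_nil, List.sum_cons, List.sum_nil, so, sg, sc, sb, sb', sθ,
        Small.one'_apply] at h
      push_cast at h
      linear_combination h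
  · intro y hy
    have hzero : ∀ χ ∈ Finset.univ, χ ∉ Lst.B D → (w23 (deg χ) : ℂ) * (χ : G → ℂ) y = 0 := by
      intro χ _ h
      rw [w23_eq_zero hG (by by_contra h'; exact h ((mem_B_iff_twentyThree hG).2 h')), Int.cast_zero,
        zero_mul]
    rw [← Finset.sum_subset (Finset.subset_univ _) hzero, Lst.B, Finset.sum_union D.S.disj,
      Finset.sum_congr (rfl : D.S.Y = D.S.Y) fun θ' h => by rw [D.deg_Y h, D.S.agree θ' h y hy],
      Finset.sum_const, card_Y_twentyThree hG]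
    have h := D.S.rel y hy
    rw [D.sum_Z] at h
    have hw : ∀ χ ∈ D.S.X, (w23 (deg χ) : ℂ) = 2 * (D.S.σ χ : ℂ) := fun χ hχ => by
      have h' := mult_w23 hG (D := D) (D.S.mem_Z.2 (Or.inr hχ))
      rw [D.mult_of_mem_X hχ, Nat.cast_one, one_mul] at h'
      rw [h']; push_cast; rfl
    have hwθ : (2 : ℂ) * (w23 (deg D.S.θ) : ℂ) = 2 * (D.S.σ D.S.θ : ℂ) := by
      have h' := mult_w23 hG (D := D) (D.S.mem_Z.2 (Or.inl rfl))
      rw [mult_θ_twentyThree hG] at h'
      exact_mod_cast h'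
    rw [Finset.sum_congr rfl fun χ hχ => by rw [hw χ hχ, mul_assoc], ← Finset.mul_sum, nsmul_eq_mul]
    push_cast
    rw [← mul_assoc, hwθ]
    linear_combination (2 : ℂ) * h

end Cfsg.Lib.MTwentyThree
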