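import Cfsg.Agent.Lib.MTwentyThree.Data

/-!
# The block search for a simple group of order 10200960: the tables are the computed lists
-/

set_option autoImplicit false
set_option maxRecDepth 100000

namespace Cfsg.Lib.MTwentyThree

theorem options_twentyThree_check : ((options 23).all fun ec =>
    decide (ec = (11, 1) ∨ ec = (11, 24) ∨ ec = (22, 12)) || (std false 23 ec.1 ec.2).isEmpty) =
    true := by
  decide +kernel

theorem options_eleven_check : ((options 11).all fun ec => decide (ec.2 % 24 ≠ 0) ||
    (std false 11 ec.1 ec.2).all fun Z => Z.any fun x => decide (x.d = 23)) = true := by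
  decide +kernel

theorem opts_eleven : opts11 = table11 := by decide +kernel

theorem opts_five : optsSmall 5 = table5 := by decide +kernel

theorem opts_seven : optsSmall 7 = table7 := by decide +kernel

theorem opts_bad : optsBad = tableBad := by decide +kernel

theorem cfgTable_eq :
    (table11.filter fun o => decide (o.e = 5 ∧ o.c = 1)).map Opt.Z = cfgTable := by
  decide +kernel

theorem eleven_check : (table11.all fun o => decide ((o.e = 5 ∧ o.c = 1) ∨ o.c % 7 = 0) ||
    decide (o.c % 2 = 0) && kill 11 o) = true := by
  decide +kernel

theorem bad_check : (tableBad.all fun o => decide (o.c % 2 = 0) && kill 7 o) = true := by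
  decide +kernel

end Cfsg.Lib.MTwentyThree
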