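import Cfsg.Agent.Lib.MTwentyThree.Local
import Cfsg.Agent.Lib.MTwentyThree.Tables

/-!
# A simple group of order 10200960: the Sylow 23-subgroup is self-centralizing

Otherwise a complement in its centralizer centralizes an element of order 11 normalizing it, the
principal block at 11 then has a character of degree 23, and this character contradicts an
involution centralizing the Sylow 23-subgroup.
-/

set_option autoImplicit false
set_option linter.style.haveILetI false
set_option linter.unusedSectionVars false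

namespace Cfsg.Lib.MTwentyThree

open Cfsg Cfsg.Lib
open Cfsg.Lib.MTwentyTwo (deg intVal cast_intVal intVal_eq)

universe u

noncomputable local instance (priority := high) fintypeSubgroupMTwentyThreeA {A : Type u}
    [Group A] [Fintype A] (H : Subgroup A) : Fintype H := Fintype.ofFinite H

/-- A permutation of order dividing 11 of fewer than 11 points is trivial. -/
theorem perm_eq_one {α : Type*} [Finite α] (h : Nat.card α < 11) (σ : Equiv.Perm α)
    (hσ : σ ^ 11 = 1) : σ = 1 := by
  have h1 : orderOf σ ∣ 11 := orderOf_dvd_of_pow_eq_one hσ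
  have h2 : orderOf σ ∣ (Nat.card α).factorial := by
    rw [← Nat.card_perm]; exact _root_.orderOf_dvd_natCard σ
  rcases (Nat.dvd_prime (by norm_num)).1 h1 with h3 | h3
  · exact orderOf_eq_one_iff.1 h3
  · rw [h3, (show Nat.Prime 11 by norm_num).dvd_factorial] at h2
    omega

/-- An automorphism of order dividing 11 of a group of order 12 or 24 is trivial. -/
theorem mulAut_eq_one {W : Type u} [Group W] [Finite W] (hW : Nat.card W = 12 ∨ Nat.card W = 24)
    (φ : MulAut W) (hφ : φ ^ 11 = 1) (w : W) : φ w = w := by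
  classical
  haveI : Fintype W := Fintype.ofFinite W
  haveI : Fact (Nat.Prime 2) := ⟨Nat.prime_two⟩
  haveI : Fact (Nat.Prime 3) := ⟨Nat.prime_three⟩
  set F : Subgroup W := φ.toMonoidHom.eqLocus (MonoidHom.id W) with hF
  have key : ∀ (r k m : ℕ) [Fact r.Prime], Nat.card W = r ^ k * m → ¬ r ∣ m → m < 11 → r ^ k < 11 →
      r ^ k ∣ Nat.card F := by
    intro r k m _ hc hm hm11 hk
    obtain ⟨S⟩ : Nonempty (Sylow r W) := inferInstance
    have hcard := Small.card_sylow k m hc hm S
    have hfix : φ • S = S := by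
      have hn : Nat.card (Sylow r W) < 11 := by
        have hd := (Small.sylow_facts (G := W) (p := r) k m hc hm).1
        have hm0 : m ≠ 0 := fun e => hm (e ▸ dvd_zero r)
        exact lt_of_le_of_lt (Nat.le_of_dvd (Nat.pos_of_ne_zero hm0) hd) hm11
      have h := perm_eq_one hn (MulAction.toPermHom (MulAut W) (Sylow r W) φ)
        (by rw [← map_pow, hφ, map_one])
      exact congrArg (fun σ : Equiv.Perm (Sylow r W) => σ S) h
    have hmem : ∀ s ∈ (S : Subgroup W), φ s ∈ (S : Subgroup W) := by
      intro s hs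
      have h : φ s ∈ ((φ • S : Sylow r W) : Subgroup W) := by
        rw [Sylow.pointwise_smul_def]
        exact Subgroup.smul_mem_pointwise_smul s φ _ hs
      rwa [hfix] at h
    have hbij : Function.Bijective (fun s : (S : Subgroup W) => (⟨φ s, hmem s s.2⟩ : (S : Subgroup W))) :=
      Finite.injective_iff_bijective.1 fun a b e => Subtype.ext (φ.injective (congrArg Subtype.val e))
    set σ := Equiv.ofBijective _ hbij
    have hpow : ∀ (j : ℕ) (s : (S : Subgroup W)), ((σ ^ j) s : W) = (φ ^ j) (s : W) := by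
      intro j
      induction j with
      | zero => intro s; simp
      | succ j ih =>
        intro s
        rw [pow_succ', pow_succ', Equiv.Perm.mul_apply, MulAut.mul_apply, ← ih s]
        rfl
    have hσ := perm_eq_one (hcard ▸ hk) σ (Equiv.ext fun s => Subtype.ext (by rw [hpow, hφ]; rfl))
    have hle : (S : Subgroup W) ≤ F := fun s hs =>
      show φ s = s from congrArg Subtype.val (DFunLike.congr_fun hσ (⟨s, hs⟩ : (S : Subgroup W)))
    rw [← hcard]
    exact Subgroup.card_dvd_of_le hle
  have htop : F = ⊤ := by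
    apply Subgroup.eq_top_of_card_eq
    apply Nat.dvd_antisymm (Subgroup.card_subgroup_dvd_card F)
    rcases hW with h | h <;> rw [h]
    · exact (show Nat.Coprime 4 3 by norm_num).mul_dvd_of_dvd_of_dvd
        (key 2 2 3 (by rw [h]; norm_num) (by norm_num) (by norm_num) (by norm_num))
        (key 3 1 4 (by rw [h]; norm_num) (by norm_num) (by norm_num) (by norm_num))
    · exact (show Nat.Coprime 8 3 by norm_num).mul_dvd_of_dvd_of_dvd
        (key 2 3 3 (by rw [h]; norm_num) (by norm_num) (by norm_num) (by norm_num))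
        (key 3 1 8 (by rw [h]; norm_num) (by norm_num) (by norm_num) (by norm_num))
  exact (htop ▸ Subgroup.mem_top w : w ∈ F)

variable {G : Type u} [Group G] [Fintype G]

namespace Dat

variable (hG : IsM23 G) [Fact (Nat.Prime 23)] [Fact (Nat.Prime 11)] (D : Dat G 23)
include hG

theorem cofactor_eleven (D' : Dat G 11) (hc : D.c = 12 ∨ D.c = 24) (hec : D.e * D.c = 264) :
    24 ∣ D'.c := by
  classical
  set N := Subgroup.normalizer ((D.P : Subgroup G) : Set G) with hN
  have hn := D.hn
  rw [mul_assoc, hec, ord] at hn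
  have hNcard : Nat.card N = 6072 := by
    have h := D.card_normalizer hG
    rw [show D.n = 1680 by omega, ord] at h
    rw [hN]; omega
  obtain ⟨W⟩ := D.exists_compl (p := 23) (by omega)
  obtain ⟨⟨y, hyN⟩, hy⟩ := exists_prime_orderOf_dvd_card' (G := N) 11 (by rw [hNcard]; norm_num)
  rw [Subgroup.orderOf_mk] at hy
  have hpc : ¬ 23 ∣ D.c := by omega
  have hcent : ∀ g ∈ N, ∀ a ∈ D.C, g * a * g⁻¹ ∈ D.C := by
    intro g hg a ha
    rw [Dat.C, Subgroup.mem_centralizer_iff] at ha ⊢
    intro w hw
    have hw' : g⁻¹ * w * g ∈ (D.P : Subgroup G) := by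
      have := (Subgroup.mem_normalizer_iff.1 (inv_mem hg) w).1 hw
      rwa [inv_inv] at this
    have h := ha _ hw'
    calc w * (g * a * g⁻¹) = g * (g⁻¹ * w * g * a) * g⁻¹ := by group
      _ = g * (a * (g⁻¹ * w * g)) * g⁻¹ := by rw [h]
      _ = g * a * g⁻¹ * w := by group
  have hyW : ∀ w ∈ W.W, y * w * y⁻¹ ∈ W.W := fun w hw =>
    W.mem_of_pow hpc (hcent y hyN w (W.le hw)) (by
      rw [conj_pow, W.pow_c hw, mul_one, mul_inv_cancel])
  -- conjugation by `y` on the complement
  let φ0 : W.W →* W.W :=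
    { toFun := fun w => ⟨y * w * y⁻¹, hyW w w.2⟩
      map_one' := Subtype.ext (by simp)
      map_mul' := fun a b => Subtype.ext (by simp [mul_assoc]) }
  have hbij : Function.Bijective φ0 := Finite.injective_iff_bijective.1 fun a b e => by
    have := congrArg (fun q : W.W => (q : G)) e
    simp only [φ0, MonoidHom.coe_mk, OneHom.coe_mk] at this
    exact Subtype.ext (mul_left_cancel (mul_right_cancel this))
  set φ : MulAut W.W := MulEquiv.ofBijective φ0 hbij
  have hpow : ∀ (j : ℕ) (w : W.W), ((φ ^ j) w : G) = y ^ j * (w : G) * (y ^ j)⁻¹ := by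
    intro j
    induction j with
    | zero => intro w; simp
    | succ j ih =>
      intro w
      rw [pow_succ', MulAut.mul_apply]
      show y * ((φ ^ j) w : G) * y⁻¹ = _
      rw [ih, pow_succ']
      group
  have hy11 : y ^ 11 = 1 := hy ▸ pow_orderOf_eq_one y
  have hφ : φ ^ 11 = 1 := MulEquiv.ext fun w => Subtype.ext (by rw [hpow, hy11]; simp)
  have hWy : W.W ≤ Subgroup.centralizer ({y} : Set G) := fun w hw => by
    have h := congrArg (fun q : W.W => (q : G))
      (mulAut_eq_one (by rw [W.card_W]; exact hc) φ hφ ⟨w, hw⟩)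
    change y * w * y⁻¹ = w at h
    exact Subgroup.mem_centralizer_singleton_iff.2 (mul_inv_eq_iff_eq_mul.1 h).symm
  set H := Subgroup.centralizer ({y} : Set G) ⊓ N with hH
  -- the normalizer of `⟨y⟩` inside `N`
  obtain ⟨Q, hQ⟩ := Small.exists_sylow_eq_zpowers (G := N) (p := 11) (z := ⟨y, hyN⟩)
    (fun Q => by rw [Small.card_sylow 1 552 (by rw [hNcard]; norm_num) (by norm_num) Q, pow_one])
    (by rw [Subgroup.orderOf_mk]; exact hy)
  have hK := Small.card_normalizer_mul Q
  obtain ⟨hdvd, hmod⟩ := Small.sylow_facts (G := N) (p := 11) 1 552 (by rw [hNcard]; norm_num) (by norm_num)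
  set K := Subgroup.normalizer ((Q : Subgroup N) : Set N) with hKdef
  have hKH : K.map N.subtype ≤ H := by
    rintro _ ⟨g, hg, rfl⟩
    refine Subgroup.mem_inf.2 ⟨?_, g.2⟩
    obtain ⟨k, hk⟩ : ∃ k : ℤ, (g : G) * y * (g : G)⁻¹ = y ^ k := by
      have h := (Subgroup.mem_normalizer_iff.1 hg ⟨y, hyN⟩).1 (by
        rw [hQ]; exact Subgroup.mem_zpowers _)
      rw [hQ] at h
      obtain ⟨k, hk⟩ := Subgroup.mem_zpowers_iff.1 h
      exact ⟨k, by simpa using (congrArg (fun q : N => (q : G)) hk).symm⟩
    -- the automizer of `P` is abelian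
    have hab : (g : G) * y * (g : G)⁻¹ * y⁻¹ ∈ D.C := by
      have hker := (Subgroup.normalizerMonoidHom_ker (D.P : Subgroup G)).le
      haveI : IsCyclic (D.P : Subgroup G) := isCyclic_of_prime_card D.S.card_P
      have hmem : (g * ⟨y, hyN⟩ * g⁻¹ * (⟨y, hyN⟩ : N)⁻¹ : N) ∈
          (Subgroup.normalizerMonoidHom (D.P : Subgroup G)).ker := by
        rw [MonoidHom.mem_ker, map_mul, map_mul, map_mul, map_inv, map_inv]
        rw [mul_inv_eq_one, mul_inv_eq_iff_eq_mul]
        refine (IsCyclic.mulAutMulEquiv (G := (D.P : Subgroup G))).injective ?_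
        rw [map_mul, map_mul, mul_comm]
      exact Subgroup.mem_subgroupOf.1 (hker hmem)
    rw [hk] at hab
    have hk1 : y ^ k * y⁻¹ = 1 := by
      have hmem : y ^ k * y⁻¹ ∈ Subgroup.zpowers y :=
        mul_mem (zpow_mem (Subgroup.mem_zpowers y) k) (inv_mem (Subgroup.mem_zpowers y))
      rw [← Subgroup.mem_bot, ← (Subgroup.disjoint_of_coprime_natCard
        (H := Subgroup.zpowers y) (K := D.C) ?_).eq_bot]
      · exact ⟨hmem, hab⟩
      · rw [Nat.card_zpowers, hy, D.hc]
        rcases hc with e | e <;> rw [e] <;> norm_num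
    rw [mul_inv_eq_one] at hk1
    rw [hk1] at hk
    exact Subgroup.mem_centralizer_singleton_iff.2 (mul_inv_eq_iff_eq_mul.1 hk)
  have h11K : 11 * D.c ∣ Nat.card K := by
    have hWN : W.W ≤ N := W.le.trans (Subgroup.centralizer_le_normalizer _)
    refine Nat.Coprime.mul_dvd_of_dvd_of_dvd (by rcases hc with e | e <;> rw [e] <;> norm_num) ?_ ?_
    · have h' : Nat.card (Q : Subgroup N) = 11 := by
        rw [hQ, Nat.card_zpowers, Subgroup.orderOf_mk, hy]
      exact h' ▸ Subgroup.card_dvd_of_le (Subgroup.le_normalizer : (Q : Subgroup N) ≤ K)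
    · rw [← W.card_W, ← Nat.card_congr (Subgroup.subgroupOfEquivOfLe hWN).toEquiv]
      refine Subgroup.card_dvd_of_le fun w hw => ?_
      refine Subgroup.centralizer_le_normalizer _ (Subgroup.mem_centralizer_iff.2 fun v hv => ?_)
      rw [SetLike.mem_coe, hQ] at hv
      obtain ⟨i, rfl⟩ := Subgroup.mem_zpowers_iff.1 hv
      have hwy : Commute (⟨y, hyN⟩ : N) w := Subtype.ext
        (Subgroup.mem_centralizer_singleton_iff.1 (hWy (Subgroup.mem_subgroupOf.1 hw))).symm
      exact (hwy.zpow_left i).eq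
  have h23 : ¬ 23 ∣ Nat.card K := fun h => by
    have hd : 23 ∣ Nat.card (Subgroup.centralizer ({y} : Set G)) := by
      refine h.trans ?_
      rw [← Subgroup.card_map_of_injective N.subtype_injective (K := K)]
      exact Subgroup.card_dvd_of_le (hKH.trans inf_le_left)
    have := D.dvd_c_of_commute (show Nat.Prime 11 by norm_num) (by norm_num) hy hd
    omega
  have hK264 : 264 ∣ Nat.card K := by
    rw [hNcard] at hK
    obtain ⟨j, hj⟩ := h11K
    rw [hj] at hK h23 ⊢
    have hn0 : Nat.card (Sylow 11 N) * j = 6072 / 11 / D.c := by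
      have : Nat.card (Sylow 11 N) * j * (11 * D.c) = 6072 := by rw [← hK]; ring
      rcases hc with e | e <;> rw [e] at this ⊢ <;> omega
    have hdvd' : Nat.card (Sylow 11 N) ∣ 46 := by
      rcases hc with e | e <;> rw [e] at hn0 <;> norm_num [-Nat.card_eq_fintype_card] at hn0
      · exact ⟨j, hn0.symm⟩
      · exact Dvd.dvd.trans ⟨j, hn0.symm⟩ (by norm_num)
    rcases hc with e | e <;> rw [e] at hn0 h23 ⊢ <;> norm_num [-Nat.card_eq_fintype_card] at hn0
    all_goals
      have hle := Nat.le_of_dvd (by norm_num) hdvd'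
      interval_cases hs : Nat.card (Sylow 11 N) <;> omega
  have hd : 11 ∣ Nat.card (Subgroup.centralizer ({y} : Set G)) ∧
      264 ∣ Nat.card (Subgroup.centralizer ({y} : Set G)) := by
    refine ⟨hy ▸ Subgroup.orderOf_dvd_natCard _ (Subgroup.mem_centralizer_singleton_iff.2 rfl),
      hK264.trans ?_⟩
    rw [← Subgroup.card_map_of_injective N.subtype_injective (K := K)]
    exact Subgroup.card_dvd_of_le (hKH.trans inf_le_left)
  obtain ⟨R, hR⟩ := Small.exists_sylow_eq_zpowers (G := G) (fun R => by
    rw [R.card_eq_multiplicity, ← D'.P.card_eq_multiplicity, D'.S.card_P]) hy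
  have hcy : Nat.card (Subgroup.centralizer ({y} : Set G)) = 11 * D'.c := by
    obtain ⟨g, hg⟩ := MulAction.exists_smul_eq G R D'.P
    have hmem : g * y * g⁻¹ ∈ (D'.P : Subgroup G) := by
      rw [← hg, Sylow.coe_subgroup_smul]
      exact ⟨y, hR ▸ Subgroup.mem_zpowers y, rfl⟩
    have hne : g * y * g⁻¹ ≠ 1 := fun e => by
      have e' : y = 1 := by simpa using e
      rw [e', orderOf_one] at hy
      omega
    rw [← MEleven.card_centralizer_conj y g, D'.centralizer_eq hmem hne, D'.hc]
  rw [hcy] at hd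
  exact (Nat.Coprime.dvd_of_dvd_mul_left (by norm_num : Nat.Coprime 24 11))
    ((Dvd.intro_left 11 rfl : 24 ∣ 264).trans hd.2)

theorem data_twentyThree : D.e = 11 ∧ D.c = 1 := by
  classical
  have hs := not_sq_dvd hG (p := 23) (by norm_num)
  have h := List.all_eq_true.1 options_twentyThree_check _ (D.mem_options hG)
  obtain ⟨L, -, -, hL⟩ := D.exists_std false hG hs fun _ => rfl
  rw [Bool.or_eq_true, decide_eq_true_eq, List.isEmpty_iff] at h
  simp only [Prod.mk.injEq] at h
  rcases h with (h | h | h) | h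
  · exact h
  rotate_left 2
  · exact absurd hL (by rw [h]; exact List.not_mem_nil)
  all_goals
    exfalso
    obtain ⟨he, hc⟩ := h
    obtain ⟨D'⟩ := exists_dat hG 11 (by norm_num)
    have h24 := D.cofactor_eleven hG D' (by omega) (by rw [he, hc])
    obtain ⟨L', -, -, hL'⟩ := D'.exists_std false hG (not_sq_dvd hG (by norm_num)) fun _ => rfl
    have h' := List.all_eq_true.1 options_eleven_check _ (D'.mem_options hG)
    rw [Bool.or_eq_true, decide_eq_true_eq] at h'
    obtain ⟨x, hx, hd⟩ := List.any_eq_true.1 (List.all_eq_true.1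
      (h'.resolve_left (not_not.2 (Nat.mod_eq_zero_of_dvd h24))) _ hL')
    obtain ⟨χ, -, rfl⟩ := List.mem_map.1 hx
    have hd23 : deg χ = 23 := of_decide_eq_true hd
    -- an involution centralizing `P`
    obtain ⟨W⟩ := D.exists_compl (p := 23) (by omega)
    haveI : Fact (Nat.Prime 2) := ⟨Nat.prime_two⟩
    obtain ⟨⟨w, hwW⟩, hw⟩ := exists_prime_orderOf_dvd_card' (G := W.W) 2 (by rw [W.card_W]; omega)
    rw [Subgroup.orderOf_mk] at hw
    obtain ⟨x, hx, hx1⟩ := D.exists_x
    have hox := D.orderOf_eq hx hx1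
    have hcomm : Commute x w := Subgroup.mem_centralizer_iff.1 (W.le hwW) x hx
    have hoxw : orderOf (x * w) = 46 := by
      rw [hcomm.orderOf_mul_eq_mul_orderOf_of_coprime (by rw [hox, hw]; norm_num), hox, hw]
    set H := Subgroup.zpowers (x * w) with hH
    have hHcard : Nat.card H = 46 := by rw [hH, Nat.card_zpowers, hoxw]
    have hwH : w ∈ H := by
      have e : (x * w) ^ 23 = w := by
        rw [hcomm.mul_pow, ← hox, pow_orderOf_eq_one, one_mul, hox,
          show (23 : ℕ) = 2 * 11 + 1 from rfl, pow_succ, pow_mul, ← hw, pow_orderOf_eq_one,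
          one_pow, one_mul]
      exact e ▸ pow_mem (Subgroup.mem_zpowers _) 23
    have hfac : (deg χ).factorization 23 = (Nat.card G).factorization 23 := by
      rw [hd23, card_G hG, show ord = 23 * 443520 from rfl,
        Nat.factorization_mul (by norm_num) (by norm_num), Finsupp.add_apply,
        (show Nat.Prime 23 by norm_num).factorization_self,
        Nat.factorization_eq_zero_of_not_dvd (by norm_num : ¬ 23 ∣ 443520)]
    obtain ⟨n, hn⟩ := MEleven.exists_nat_sum χ H
    have hw1 : w ≠ 1 := fun e => by rw [e, orderOf_one] at hw; omega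
    have hw2 : w ^ 2 = 1 := hw ▸ pow_orderOf_eq_one w
    rw [hHcard, ← Finset.sum_subset (Finset.subset_univ ({1, ⟨w, hwH⟩} : Finset H)) ?_,
      Finset.sum_pair (fun e => hw1 (congrArg Subtype.val e).symm), OneMemClass.coe_one,
      MEleven.apply_one, show MEleven.deg χ = 23 from hd23, ← cast_intVal χ hw2] at hn
    · have h' : (23 : ℤ) + intVal w χ = ((46 * n : ℕ) : ℤ) := by exact_mod_cast hn
      haveI := hG.1
      have hlt := MTwentyTwo.natAbs_intVal_lt (not_cyclic hG) (χ := χ)
        (fun e => by rw [e] at hd23; change charDegree _ = 23 at hd23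
                     rw [Small.charDegree_one'] at hd23; omega) hw2 hw1
      rw [hd23] at hlt
      omega
    · rintro ⟨g, hg⟩ - hg'
      simp only [Finset.mem_insert, Finset.mem_singleton, Subtype.ext_iff, OneMemClass.coe_one,
        not_or] at hg'
      refine MEleven.apply_eq_zero_of_defectZero (p := 23) χ hfac ?_
      by_contra h23
      have ho : orderOf g ∣ 46 := hHcard ▸ Subgroup.orderOf_dvd_natCard _ hg
      have hg2 : g ^ 2 = 1 := by
        refine orderOf_dvd_iff_pow_eq_one.1 ?_
        exact (((show Nat.Prime 23 by norm_num).coprime_iff_not_dvd.2 h23).symm).dvd_of_dvd_mul_left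
          (show orderOf g ∣ 23 * 2 from ho)
      obtain ⟨i, hi⟩ := Subgroup.mem_zpowers_iff.1 hg
      have hdv : (46 : ℤ) ∣ i * 2 := by
        rw [show (46 : ℤ) = ((46 : ℕ) : ℤ) from rfl, ← hoxw, orderOf_dvd_iff_zpow_eq_one, zpow_mul, hi]
        exact_mod_cast hg2
      obtain ⟨k, hk⟩ := (show (23 : ℤ) ∣ i by omega)
      have hgw : g = w ^ k := by
        rw [← hi, hk, zpow_mul, hcomm.mul_zpow, show (23 : ℤ) = ((23 : ℕ) : ℤ) from rfl,
          zpow_natCast, zpow_natCast, ← hox, pow_orderOf_eq_one, one_mul, hox,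
          show (23 : ℕ) = 2 * 11 + 1 from rfl, pow_succ, pow_mul, hw2, one_pow, one_mul]
      rcases Int.even_or_odd k with ⟨j, hj⟩ | ⟨j, hj⟩
      · exact hg'.1 (by rw [hgw, hj, ← two_mul, zpow_mul, zpow_two, ← pow_two, hw2, one_zpow])
      · exact hg'.2 (by rw [hgw, hj, zpow_add, zpow_mul, zpow_two, ← pow_two, hw2, one_zpow, one_mul, zpow_one])

end Dat

theorem ok_deg [Fact (Nat.Prime 23)] [Fact (Nat.Prime 11)] (hG : IsM23 G) (χ : IrrCharacter G) :
    ok23 true (deg χ) = true := by
  classical
  obtain ⟨D⟩ := exists_dat hG 23 (by norm_num)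
  obtain ⟨he, hc⟩ := D.data_twentyThree hG
  by_cases h : 23 ∣ deg χ
  · simp [ok23, Nat.mod_eq_zero_of_dvd h]
  · rcases Lst.mem_B.1 (D.mem_B_of_not_dvd hc h) with hX | hY
    · have h1 := (D.S.cong χ hX)
      have h2 : deg χ % 23 = 1 ∨ deg χ % 23 = 22 := by
        change _ * (deg χ : ℤ) % _ = _ % _ at h1
        rcases D.S.sign χ (D.S.mem_Z.2 (Or.inr hX)) with e | e <;> rw [e] at h1 <;> omega
      rcases h2 with e | e <;> simp [ok23, e]
    · have h1 : _ % _ = _ % _ := D.S.congθ
      have h2 : deg χ % 23 = 11 ∨ deg χ % 23 = 12 := by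
        rw [D.deg_Y hY]
        rcases D.sign_θ with e | e <;> rw [e] at h1 <;>
          change _ * (deg D.S.θ : ℤ) % _ = _ at h1 <;> omega
      rcases h2 with e | e <;> simp [ok23, e]

end Cfsg.Lib.MTwentyThree
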